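import Cfsg.Agent.Lib.CK.Defs

/-!
Cameron–Kantor, package SYL: orbits, Sylow subgroups, Burnside counts, double counting.
-/

set_option autoImplicit false
set_option linter.unusedSectionVars false
set_option linter.unusedVariables false

namespace CfsgLib.CK

open CfsgLib.Tech

section DC
variable {α β : Type*} [Finite α] [Finite β]

theorem dc_le (A : Set α) (B : Set β) (r : α → β → Prop) {m k : ℕ}
    (hA : ∀ a ∈ A, m ≤ {b | b ∈ B ∧ r a b}.ncard) (hB : ∀ b ∈ B, {a | a ∈ A ∧ r a b}.ncard ≤ k) :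
    A.ncard * m ≤ B.ncard * k := by
  classical
  rw [Set.ncard_eq_toFinset_card A, Set.ncard_eq_toFinset_card B]
  refine Finset.card_mul_le_card_mul r (fun a ha => ?_) fun b hb => ?_
  · convert hA a (by simpa using ha)
    rw [← Set.ncard_coe_finset]; congr 1; ext; simp
  · convert hB b (by simpa using hb)
    rw [← Set.ncard_coe_finset]; congr 1; ext; simp

theorem dc_eq (A : Set α) (B : Set β) (r : α → β → Prop) {m k : ℕ}
    (hA : ∀ a ∈ A, {b | b ∈ B ∧ r a b}.ncard = m) (hB : ∀ b ∈ B, {a | a ∈ A ∧ r a b}.ncard = k) :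
    A.ncard * m = B.ncard * k := by
  exact (dc_le A B r (fun a ha => (hA a ha).ge) fun b hb => (hB b hb).le).antisymm
    (dc_le B A (fun b a => r a b) (fun b hb => (hB b hb).ge) fun a ha => (hA a ha).le)

end DC

variable {G L : Type*} [Group G] [MulAction G L]

theorem Fx.cj {S : Subgroup G} {a : L} (h : Fx S a) (g : G) : Fx (cj g S) (g • a) := by
  intro k hk
  have := h _ (mem_cj.1 hk)
  rwa [mul_smul, mul_smul, inv_smul_eq_iff] at this

theorem cj_Stab (g : G) (Y : Subgroup G) (a : L) : cj g (Stab Y a) = Stab (cj g Y) (g • a) := by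
  ext k
  rw [mem_cj, mem_Stab, mem_Stab, mem_cj, mul_smul, mul_smul, inv_smul_eq_iff]

theorem cj_Stab_of_mem {g : G} {Y : Subgroup G} (hg : g ∈ Y) (a : L) :
    cj g (Stab Y a) = Stab Y (g • a) := by
  rw [cj_Stab, cj_eq_of_mem hg]

theorem Stab_comm (Y : Subgroup G) (a b : L) : Stab (Stab Y a) b = Stab (Stab Y b) a := by
  exact inf_right_comm _ _ _

theorem ncard_orb (Y : Subgroup G) (a : L) : (orb Y a).ncard = (Stab Y a).relIndex Y := by
  have e : (Stab Y a).subgroupOf Y = MulAction.stabilizer Y a := Subgroup.ext fun g => and_iff_right g.2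
  rw [Subgroup.relIndex, e, MulAction.index_stabilizer]
  congr 1
  exact Set.ext fun b => ⟨fun ⟨g, hg, e⟩ => ⟨⟨g, hg⟩, e⟩, fun ⟨g, e⟩ => ⟨g, g.2, e⟩⟩

theorem Tr.orb_eq {Y : Subgroup G} {X : Set L} (h : Tr Y X) (hi : Inv Y X) {a : L} (ha : a ∈ X) :
    orb Y a = X := by
  exact Set.ext fun b => ⟨by rintro ⟨g, hg, rfl⟩; exact hi g hg a ha, h a ha b⟩

theorem Tr.relIndex {Y : Subgroup G} {X : Set L} (h : Tr Y X) (hi : Inv Y X) {a : L} (ha : a ∈ X) :
    (Stab Y a).relIndex Y = X.ncard := by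
  rw [← ncard_orb, h.orb_eq hi ha]

theorem Tr.card_eq {Y : Subgroup G} {X : Set L} (h : Tr Y X) (hi : Inv Y X) {a : L} (ha : a ∈ X) :
    Nat.card Y = Nat.card (Stab Y a) * X.ncard := by
  rw [← h.relIndex hi ha, card_mul_relIndex' (Stab_le Y a)]

theorem orb_eq_iff {Y : Subgroup G} {a b : L} : orb Y a = orb Y b ↔ ∃ g ∈ Y, g • a = b := by
  refine ⟨fun h => h.ge ⟨1, one_mem Y, one_smul G b⟩, ?_⟩
  rintro ⟨g, hg, rfl⟩
  exact Set.ext fun c => ⟨fun ⟨k, hk, e⟩ => ⟨k * g⁻¹, mul_mem hk (inv_mem hg), by rwa [mul_smul, inv_smul_smul]⟩,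
    fun ⟨k, hk, e⟩ => ⟨k * g, mul_mem hk hg, by rwa [mul_smul]⟩⟩

/-- an invariant set as a `Y`-set -/
def Inv.sub {Y : Subgroup G} {X : Set L} (hi : Inv Y X) : SubMulAction Y L := ⟨X, fun g _ ha => hi g g.2 _ ha⟩

variable [Finite G] [Finite L]

theorem Inv.burnside {Y : Subgroup G} {X : Set L} (hi : Inv Y X) :
    orbN Y X * Nat.card Y = ∑ᶠ g : Y, {a | a ∈ X ∧ g.1 • a = a}.ncard := by
  classical
  have := Fintype.ofFinite Y
  have : ∀ g : Y, Fintype (MulAction.fixedBy hi.sub g) := fun _ => Fintype.ofFinite _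
  have := Fintype.ofFinite (Quotient (MulAction.orbitRel Y hi.sub))
  have k : ∀ a b : hi.sub, orb Y (a : L) = orb Y (b : L) ↔ MulAction.orbitRel Y hi.sub a b := fun a b => by
    rw [eq_comm, orb_eq_iff]
    exact ⟨fun ⟨g, hg, e⟩ => ⟨⟨g, hg⟩, Subtype.ext e⟩, fun ⟨g, e⟩ => ⟨g, g.2, congrArg Subtype.val e⟩⟩
  have e : orbN Y X = Fintype.card (Quotient (MulAction.orbitRel Y hi.sub)) := by
    rw [← Nat.card_eq_fintype_card, ← Set.ncard_range_of_injective (f := Quotient.lift (fun a : hi.sub => orb Y (a : L))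
      fun a b => (k a b).2) fun a b => Quotient.inductionOn₂ a b fun a b e => Quotient.sound ((k a b).1 e), orbN]
    congr 1
    exact Set.ext fun O => ⟨fun ⟨a, ha, e⟩ => ⟨⟦⟨a, ha⟩⟧, e⟩, fun ⟨a, e⟩ => Quotient.inductionOn a (fun a e => ⟨a, a.2, e⟩) e⟩
  rw [e, Nat.card_eq_fintype_card, ← MulAction.sum_card_fixedBy_eq_card_orbits_mul_card_group, finsum_eq_sum_of_fintype]
  refine Finset.sum_congr rfl fun g _ => ?_
  rw [← Nat.card_eq_fintype_card, Nat.card_coe_set_eq, ← Set.ncard_image_of_injective _ Subtype.val_injective]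
  congr 1
  exact Set.ext fun a => ⟨by rintro ⟨a, h, rfl⟩; exact ⟨a.2, congrArg Subtype.val h⟩,
    fun ⟨h1, h2⟩ => ⟨⟨a, h1⟩, Subtype.ext h2, rfl⟩⟩

theorem ncard_fx_modEq {p : ℕ} (hp : p.Prime) {S : Subgroup G} (hS : IsPGroup p S) {X : Set L}
    (hi : Inv S X) : X.ncard ≡ {a | a ∈ X ∧ Fx S a}.ncard [MOD p] := by
  have := Fact.mk hp
  convert hS.card_modEq_card_fixedPoints hi.sub
  · rfl
  rw [Nat.card_coe_set_eq, ← Set.ncard_image_of_injective _ Subtype.val_injective]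
  congr 1
  exact Set.ext fun a => ⟨fun ⟨h1, h2⟩ => ⟨⟨a, h1⟩, fun g => Subtype.ext (h2 g g.2), rfl⟩,
    by rintro ⟨a, h, rfl⟩; exact ⟨a.2, fun g hg => congrArg Subtype.val (h ⟨g, hg⟩)⟩⟩

theorem exists_fx {p : ℕ} (hp : p.Prime) {S : Subgroup G} (hS : IsPGroup p S) {X : Set L}
    (hi : Inv S X) (hX : ¬ p ∣ X.ncard) : ∃ a ∈ X, Fx S a := by
  by_contra hn
  have := ncard_fx_modEq hp hS hi
  rw [show {a | a ∈ X ∧ Fx S a} = ∅ from Set.eq_empty_of_forall_notMem fun a ha => hn ⟨a, ha⟩, Set.ncard_empty] at this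
  exact hX (Nat.modEq_zero_iff_dvd.1 this)

/-- A `p`-group fixes every element of an invariant set with fewer than `p` elements. -/
theorem fx_of_lt {p : ℕ} (hp : p.Prime) {S : Subgroup G} (hS : IsPGroup p S) {X : Set L}
    (hi : Inv S X) (hX : X.ncard < p) {a : L} (ha : a ∈ X) : Fx S a := by
  have := Fact.mk hp
  obtain ⟨k, hk⟩ := hS.index ((Stab S a).subgroupOf S)
  have h1 : (orb S a).ncard ≤ X.ncard := Set.ncard_le_ncard (by rintro _ ⟨g, hg, rfl⟩; exact hi g hg a ha)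
  rw [ncard_orb, Subgroup.relIndex, hk] at h1
  obtain rfl : k = 0 := by_contra fun e => (h1.trans_lt hX).not_ge (Nat.le_self_pow e p)
  exact fun g hg => (Subgroup.relIndex_eq_one.1 hk hg).2

/-- (S2) -/
theorem syl_tr {p : ℕ} (hp : p.Prime) {S Y : Subgroup G} (hS : IsSylowIn p S Y) {X : Set L}
    (h : Tr Y X) (hi : Inv Y X) {k : ℕ} (hX : X.ncard = p ^ k) : Tr S X := by
  intro a ha b hb
  have h1 := Subgroup.relIndex_mul_relIndex (Stab S a) S Y (Stab_le S a) hS.le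
  have h2 := Subgroup.relIndex_mul_relIndex (Stab S a) (Stab Y a) Y (inf_le_inf_right _ hS.le) (Stab_le Y a)
  rw [h.relIndex hi ha, ← h1, hX, ← ncard_orb] at h2
  have h3 := (Nat.Coprime.pow_left k (hp.coprime_iff_not_dvd.2 hS.not_dvd)).dvd_of_dvd_mul_right (Dvd.intro_left _ h2)
  have h4 := Set.eq_of_subset_of_ncard_le (s := orb S a) (t := X) (by rintro _ ⟨g, hg, rfl⟩; exact hi g (hS.le hg) a ha)
    (hX ▸ Nat.le_of_dvd ((Set.ncard_pos (Set.toFinite _)).2 ⟨a, 1, one_mem S, one_smul G a⟩) h3)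
  exact h4.ge hb

theorem syl_of_Stab {p : ℕ} (hp : p.Prime) {S Y : Subgroup G} {X : Set L} (h : Tr Y X)
    (hi : Inv Y X) (hX : ¬ p ∣ X.ncard) {a : L} (ha : a ∈ X) (hS : IsSylowIn p S (Stab Y a)) :
    IsSylowIn p S Y := by
  have := Fact.mk hp
  exact hS.trans (Stab_le Y a) (by rwa [h.relIndex hi ha])

theorem exists_syl_fx {p : ℕ} (hp : p.Prime) {Y : Subgroup G} {X : Set L} (h : Tr Y X)
    (hi : Inv Y X) (hX : ¬ p ∣ X.ncard) {a : L} (ha : a ∈ X) :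
    ∃ S, IsSylowIn p S Y ∧ Fx S a := by
  have := Fact.mk hp
  obtain ⟨S, hS⟩ := exists_isSylowIn p (Stab Y a)
  exact ⟨S, syl_of_Stab hp h hi hX ha hS, (fx_Stab Y a).mono hS.le⟩

/-- Witt: the normaliser of a Sylow subgroup of a two-point stabiliser is 2-transitive on its fixed
points. -/
theorem witt {r : ℕ} (hr : r.Prime) {Y R : Subgroup G} {X : Set L}
    (h2 : ∀ a ∈ X, ∀ b ∈ X, a ≠ b → ∀ a' ∈ X, ∀ b' ∈ X, a' ≠ b' → ∃ g ∈ Y, g • a = a' ∧ g • b = b')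
    {x y : L} (hx : x ∈ X) (hy : y ∈ X) (hxy : x ≠ y) (hR : IsSylowIn r R (Stab (Stab Y x) y))
    {a b a' b' : L} (ha : a ∈ X) (hb : b ∈ X) (hab : a ≠ b) (ha' : a' ∈ X) (hb' : b' ∈ X)
    (hab' : a' ≠ b') (fa : Fx R a) (fb : Fx R b) (fa' : Fx R a') (fb' : Fx R b') :
    ∃ g ∈ Y ⊓ Subgroup.normalizer (R : Set G), g • a = a' ∧ g • b = b' := by
  have := Fact.mk hr
  have key : ∀ a ∈ X, ∀ b ∈ X, a ≠ b → Fx R a → Fx R b →
      ∃ n ∈ Y ⊓ Subgroup.normalizer (R : Set G), n • a = x ∧ n • b = y := fun a ha b hb hab fa fb => by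
    obtain ⟨g, hg, e1, e2⟩ := h2 a ha b hb hab x hx y hy hxy
    obtain ⟨k, hk, e⟩ := hR.exists_cj_le (isPGroup_cj g hR.pgroup) (le_Stab (le_Stab ((cj_mono g (hR.le.trans
      ((Stab_le _ _).trans (Stab_le _ _)))).trans (cj_eq_of_mem hg).le) (e1 ▸ fa.cj g)) (e2 ▸ fb.cj g))
    exact ⟨k * g, ⟨mul_mem hk.1.1 hg, mem_normalizer_of_cj_le (by rwa [cj_mul])⟩, by rw [mul_smul, e1]; exact hk.1.2,
      by rw [mul_smul, e2]; exact hk.2⟩
  obtain ⟨n, hn, e1, e2⟩ := key a ha b hb hab fa fb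
  obtain ⟨n', hn', e1', e2'⟩ := key a' ha' b' hb' hab' fa' fb'
  exact ⟨n'⁻¹ * n, mul_mem (inv_mem hn') hn, by rw [mul_smul, e1, ← e1', inv_smul_smul],
    by rw [mul_smul, e2, ← e2', inv_smul_smul]⟩

/-- Burnside: equal fixed point numbers give equal orbit numbers. -/
theorem orbN_congr {Y : Subgroup G} {X X' : Set L} (hi : Inv Y X) (hi' : Inv Y X')
    (h : ∀ g ∈ Y, {a | a ∈ X ∧ g • a = a}.ncard = {a | a ∈ X' ∧ g • a = a}.ncard) :
    orbN Y X = orbN Y X' := by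
  exact Nat.eq_of_mul_eq_mul_right Nat.card_pos ((hi.burnside.trans (finsum_congr fun g => h g g.2)).trans hi'.burnside.symm)

theorem orbN_union {Y : Subgroup G} {X X' : Set L} (hi : Inv Y X) (hi' : Inv Y X')
    (hd : Disjoint X X') : orbN Y (X ∪ X') = orbN Y X + orbN Y X' := by
  rw [orbN, Set.image_union, Set.ncard_union_eq (Set.disjoint_left.2 ?_)]
  · rfl
  rintro _ ⟨a, ha, rfl⟩ ⟨b, hb, e⟩
  obtain ⟨g, hg, rfl⟩ := orb_eq_iff.1 e
  exact Set.disjoint_left.1 hd ha (hi' g hg b hb)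

theorem orbN_pos (Y : Subgroup G) {X : Set L} (h : X.Nonempty) : 0 < orbN Y X := by
  exact (Set.ncard_pos (Set.toFinite _)).2 (h.image _)

theorem orbN_le_one_iff {Y : Subgroup G} {X : Set L} : orbN Y X ≤ 1 ↔ Tr Y X := by
  rw [orbN, Set.ncard_le_one_iff]
  exact ⟨fun h a ha b hb => orb_eq_iff.1 (h ⟨a, ha, rfl⟩ ⟨b, hb, rfl⟩),
    by rintro h _ _ ⟨a, ha, rfl⟩ ⟨b, hb, rfl⟩; exact orb_eq_iff.2 (h a ha b hb)⟩

theorem Tr.orbN_eq_one {Y : Subgroup G} {X : Set L} (h : Tr Y X) (hX : X.Nonempty) :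
    orbN Y X = 1 := by
  exact (orbN_le_one_iff.2 h).antisymm (orbN_pos Y hX)

/-- An equivariant surjection with equally many orbits: the fibres lie in orbits. -/
theorem tr_fibre {Y : Subgroup G} {X X' : Set L} (hi : Inv Y X) (f : L → L)
    (hf : ∀ g ∈ Y, ∀ a ∈ X, f (g • a) = g • f a) (him : f '' X = X') (h : orbN Y X = orbN Y X')
    {a b : L} (ha : a ∈ X) (hb : b ∈ X) (hab : f a = f b) : ∃ g ∈ Y, g • a = b := by
  have k : ∀ a ∈ X, f '' orb Y a = orb Y (f a) := fun a ha => Set.ext fun c =>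
    ⟨by rintro ⟨_, ⟨g, hg, rfl⟩, rfl⟩; exact ⟨g, hg, (hf g hg a ha).symm⟩,
      by rintro ⟨g, hg, rfl⟩; exact ⟨_, ⟨g, hg, rfl⟩, hf g hg a ha⟩⟩
  refine orb_eq_iff.1 (Set.injOn_of_ncard_image_eq (s := orb Y '' X) (f := Set.image f) ?_ (Set.toFinite _) ⟨a, ha, rfl⟩
    ⟨b, hb, rfl⟩ (by rw [k a ha, k b hb, hab]))
  rw [Set.image_image, Set.image_congr k, ← Set.image_image (orb Y) f, him]
  exact h.symm

end CfsgLib.CK
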