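import Cfsg.Agent.Lib.CK.Bas
import Cfsg.Agent.Lib.CK.Syl

/-!
Cameron–Kantor, package A12: antiflag transitive groups, A1, A2.
-/

set_option autoImplicit false

namespace CfsgLib.CK.PG

open CfsgLib.Tech

variable {G L : Type*} [Group G] [CompleteLattice L] [MulAction G L] [Finite G] [Finite L]
  {P : PG G L}

variable {Y : Subgroup G} {o t : L}

omit [Finite G] [Finite L] in
theorem Pt.lt_top {e : L} (he : P.Pt o t e) (h2 : 2 ≤ P.d o t) : e < t :=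
  lt_of_le_of_ne he.2.1 fun a => by have := he.2.2; rw [a] at this; omega

omit [Finite G] [Finite L] in
theorem Hy.bot_lt {D : L} (hD : P.Hy o t D) (h2 : 2 ≤ P.d o t) : o < D :=
  Pt.lt_top (P := P.dual) hD h2

omit [Finite G] [Finite L] in
theorem not_le_smul (P : PG G L) {g : G} {a b : L} (h : ¬ a ≤ b) : ¬ g • a ≤ g • b :=
  fun c => h ((P.smul_le_iff g).1 c)

omit [Finite G] in
theorem ncard_off_hy {D : L} (hD : P.Hy o t D) :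
    {e | P.Pt o t e ∧ ¬ e ≤ D}.ncard = P.q ^ P.d o D := by
  rw [P.ncard_pt_off hD.2.1 hD.1, hD.2.2, θ_one, mul_one]

omit [Finite G] [Finite L] in
theorem AT.not_dvd (h : P.AT Y o t) : ¬ P.p ∣ {e | P.Pt o t e}.ncard := by
  rw [P.ncard_pt h.le]; exact P.not_dvd_θ (le_trans one_le_two h.two)

omit [Finite G] in
theorem AT.tr_pt (h : P.AT Y o t) : Tr Y {e | P.Pt o t e} := by
  intro a ha b hb
  obtain ⟨D, hD, h1⟩ := P.exists_hy_of_lt ha.2.1 ha.lt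
  obtain ⟨D', hD', h2⟩ := P.exists_hy_of_lt hb.2.1 hb.lt
  obtain ⟨g, hg, e, -⟩ := h.tr a D b D' ha hD h1 hb hD' h2
  exact ⟨g, hg, e⟩

omit [Finite G] in
theorem AT.tr_hy (h : P.AT Y o t) : Tr Y {D | P.Hy o t D} := h.dual.tr_pt

theorem AT.exists_fx_hy (h : P.AT Y o t) {S : Subgroup G} (hS : IsSylowIn P.p S Y) :
    ∃ D, P.Hy o t D ∧ Fx S D := by
  exact exists_fx P.pp hS.pgroup ((inv_hy h.fo h.ft).mono hS.le) h.dual.not_dvd

theorem AT.exists_fx_pt (h : P.AT Y o t) {S : Subgroup G} (hS : IsSylowIn P.p S Y) :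
    ∃ e, P.Pt o t e ∧ Fx S e := h.dual.exists_fx_hy hS

theorem AT.syl_tr (h : P.AT Y o t) {S : Subgroup G} (hS : IsSylowIn P.p S Y) {D : L}
    (hD : P.Hy o t D) (hf : Fx S D) : Tr S {e | P.Pt o t e ∧ ¬ e ≤ D} := by
  haveI := Fact.mk P.pp
  obtain ⟨j, hj⟩ := P.exists_pow (P.d o D)
  refine CK.syl_tr P.pp (hS.of_le (le_Stab hS.le hf) (Stab_le Y D)) (fun a ha b hb => ?_)
    (inv_pt_off (h.fo.mono (Stab_le Y D)) (h.ft.mono (Stab_le Y D)) (fx_Stab Y D))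
    ((ncard_off_hy hD).trans hj)
  obtain ⟨g, hg, e1, e2⟩ := h.tr a D b D ha.1 hD ha.2 hb.1 hD hb.2
  exact ⟨g, ⟨hg, e2⟩, e1⟩

theorem AT.syl_tr' (h : P.AT Y o t) {S : Subgroup G} (hS : IsSylowIn P.p S Y) {e : L}
    (he : P.Pt o t e) (hf : Fx S e) : Tr S {D | P.Hy o t D ∧ ¬ e ≤ D} := h.dual.syl_tr hS he hf

theorem AT.fx_hy_unique (h : P.AT Y o t) {S : Subgroup G} (hS : IsSylowIn P.p S Y) {D D' : L}
    (hD : P.Hy o t D) (hf : Fx S D) (hD' : P.Hy o t D') (hf' : Fx S D') : D = D' := by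
  by_contra hn
  obtain ⟨e, he, h1, h2⟩ := P.exists_pt_two hD.2.1 hD.lt hD'.2.1 hD'.lt
  obtain ⟨y, hy, h3⟩ := P.exists_pt hD'.2.1 hD.2.1 fun c => hn (hD'.eq_of_le hD c).symm
  obtain ⟨g, hg, e1⟩ := h.syl_tr hS hD hf y ⟨hy.mono (hy.2.1.trans hD'.1), h3⟩ e ⟨he, h1⟩
  exact h2 (e1 ▸ hf' g hg ▸ P.smul_mono g hy.2.1)

theorem AT.fx_pt_unique (h : P.AT Y o t) {S : Subgroup G} (hS : IsSylowIn P.p S Y) {e e' : L}
    (he : P.Pt o t e) (hf : Fx S e) (he' : P.Pt o t e') (hf' : Fx S e') : e = e' :=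
  h.dual.fx_hy_unique hS he hf he' hf'

theorem AT.good_le (h : P.AT Y o t) {e D : L} (hg : P.Good Y o t e D) : e ≤ D := by
  obtain ⟨he, hD, S, hS, h1, h2⟩ := hg
  by_contra hn
  obtain ⟨y, hy, h3, h4⟩ := P.exists_pt_two hD.2.1 hD.lt he.1 (he.lt_top h.two)
  obtain ⟨g, hg, e1⟩ := h.syl_tr hS hD h2 e ⟨he, hn⟩ y ⟨hy, h3⟩
  exact h4 (e1.symm.trans (h1 g hg)).le

omit [Finite G] [Finite L] in
theorem AT.good_smul (h : P.AT Y o t) {e D : L} (hg : P.Good Y o t e D) {g : G} (hgY : g ∈ Y) :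
    P.Good Y o t (g • e) (g • D) := by
  haveI := Fact.mk P.pp
  obtain ⟨he, hD, S, hS, h1, h2⟩ := hg
  exact ⟨he.smul' (h.fo g hgY) (h.ft g hgY), hD.smul' (h.fo g hgY) (h.ft g hgY), _,
    hS.cj_of_mem hgY, h1.cj g, h2.cj g⟩

theorem AT.good_tr (h : P.AT Y o t) {e D e' D' : L} (hg : P.Good Y o t e D)
    (hg' : P.Good Y o t e' D') : ∃ g ∈ Y, g • e = e' ∧ g • D = D' := by
  haveI := Fact.mk P.pp
  obtain ⟨he, hD, S, hS, h1, h2⟩ := hg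
  obtain ⟨he', hD', S', hS', h1', h2'⟩ := hg'
  obtain ⟨g, hg, rfl⟩ := hS.exists_cj_eq hS'
  exact ⟨g, hg, h.fx_pt_unique hS' (he.smul' (h.fo g hg) (h.ft g hg)) (h1.cj g) he' h1',
    h.fx_hy_unique hS' (hD.smul' (h.fo g hg) (h.ft g hg)) (h2.cj g) hD' h2'⟩

theorem AT.exists_good_hy (h : P.AT Y o t) {e : L} (he : P.Pt o t e) : ∃ D, P.Good Y o t e D := by
  obtain ⟨S, hS, h1⟩ := exists_syl_fx P.pp h.tr_pt (inv_pt h.fo h.ft) h.not_dvd he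
  obtain ⟨D, hD, h2⟩ := h.exists_fx_hy hS
  exact ⟨D, he, hD, S, hS, h1, h2⟩

theorem AT.exists_good_pt (h : P.AT Y o t) {D : L} (hD : P.Hy o t D) : ∃ e, P.Good Y o t e D :=
  let ⟨e, he⟩ := h.dual.exists_good_hy hD; ⟨e, he.of_dual⟩

omit [Finite G] [Finite L] in
theorem AT.le_W (h : P.AT Y o t) {e : L} (he : P.Pt o t e) : e ≤ W Y o t e := by
  exact le_W_of_inv he.1 (he.lt_top h.two) fun _ _ a => a

omit [Finite G] [Finite L] in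
theorem AT.N_le (h : P.AT Y o t) {D : L} (hD : P.Hy o t D) : N Y o t D ≤ D := h.dual.le_W hD

theorem AT.W_eq (h : P.AT Y o t) {e : L} (he : P.Pt o t e) :
    W Y o t e = sInf {D | P.Good Y o t e D} := by
  apply le_antisymm
  · refine sSup_le fun U ⟨h1, h2, h3⟩ => le_sInf fun D ⟨_, hD, S, hS, f1, f2⟩ => ?_
    by_contra hn
    obtain ⟨y, hy, h4⟩ := P.exists_pt h1 hD.2.1 hn
    refine h2.ne (P.eq_of_off hD.2.1 hD.lt h1 h2.le fun z hz h5 => ?_)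
    obtain ⟨g, hg, rfl⟩ := h.syl_tr hS hD f2 y ⟨hy.mono (hy.2.1.trans h2.le), h4⟩ z ⟨hz, h5⟩
    exact h3 g (hS.le hg) (f1 g hg) ▸ P.smul_mono g hy.2.1
  · obtain ⟨D, hD⟩ := h.exists_good_hy he
    refine le_W_of_inv (le_sInf fun K hK => hK.2.1.2.1) (lt_of_le_of_lt (sInf_le hD) hD.2.1.lt)
      fun g hg e1 => P.smul_sInf g fun K => ⟨fun a => ?_, fun a => ?_⟩
    · exact e1 ▸ h.good_smul a hg
    · have := h.good_smul a (Y.inv_mem hg)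
      rwa [inv_smul_smul, inv_smul_eq_iff.2 e1.symm] at this

theorem AT.W_le_of_good (h : P.AT Y o t) {e D : L} (hg : P.Good Y o t e D) : W Y o t e ≤ D := by
  rw [h.W_eq hg.1]; exact sInf_le hg

theorem AT.le_N_of_good (h : P.AT Y o t) {e D : L} (hg : P.Good Y o t e D) : e ≤ N Y o t D :=
  h.dual.W_le_of_good hg.dual

theorem AT.W_lt (h : P.AT Y o t) {e : L} (he : P.Pt o t e) : W Y o t e < t :=
  let ⟨_, hD⟩ := h.exists_good_hy he; (h.W_le_of_good hD).trans_lt hD.2.1.lt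

theorem AT.lt_N (h : P.AT Y o t) {D : L} (hD : P.Hy o t D) : o < N Y o t D := h.dual.W_lt hD

/-- (A2) -/
theorem AT.tr_off_W (h : P.AT Y o t) {e : L} (he : P.Pt o t e) :
    Tr (Stab Y e) {y | P.Pt o t y ∧ ¬ y ≤ W Y o t e} := by
  rw [h.W_eq he]
  intro a ha b hb
  obtain ⟨D, ⟨-, hD, S, hS, f1, f2⟩, h1⟩ : ∃ D, P.Good Y o t e D ∧ ¬ a ≤ D := by
    by_contra! c; exact ha.2 (le_sInf c)
  obtain ⟨D', ⟨-, hD', S', hS', f1', f2'⟩, h2⟩ : ∃ D, P.Good Y o t e D ∧ ¬ b ≤ D := by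
    by_contra! c; exact hb.2 (le_sInf c)
  obtain ⟨z, hz, h3, h4⟩ := P.exists_pt_two hD.2.1 hD.lt hD'.2.1 hD'.lt
  obtain ⟨g, hg, rfl⟩ := h.syl_tr hS hD f2 a ⟨ha.1, h1⟩ z ⟨hz, h3⟩
  obtain ⟨k, hk, rfl⟩ := h.syl_tr hS' hD' f2' _ ⟨hz, h4⟩ b ⟨hb.1, h2⟩
  exact ⟨k * g, mul_mem (le_Stab hS'.le f1' hk) (le_Stab hS.le f1 hg), mul_smul k g a⟩

theorem AT.tr_off_N (h : P.AT Y o t) {D : L} (hD : P.Hy o t D) :
    Tr (Stab Y D) {K | P.Hy o t K ∧ ¬ N Y o t D ≤ K} := h.dual.tr_off_W hD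

end CfsgLib.CK.PG
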