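import Cfsg.Agent.Lib.CK.Bas
import Cfsg.Agent.Lib.CK.Syl

/-!
Cameron–Kantor, package BL: Block–Brauer lemma.
-/

set_option autoImplicit false

namespace CfsgLib.CK.PG

open CfsgLib.Tech

theorem bl_sq {A : Type*} [Fintype A] (σ τ : Equiv.Perm A) (M : Matrix A A ℚ) (hM : ∀ a b, M (σ a) (τ b) = M a b)
    (hi : ∀ v, Matrix.vecMul v M = 0 → v = 0) : (Function.fixedPoints σ).ncard = (Function.fixedPoints τ).ncard := by
  classical
  obtain ⟨u, rfl⟩ : IsUnit M := Matrix.vecMul_injective_iff_isUnit.1 fun v w e =>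
    sub_eq_zero.1 (hi _ (by rw [Matrix.sub_vecMul, sub_eq_zero]; exact e))
  have h1 : σ.permMatrix ℚ = u * τ.permMatrix ℚ * (u⁻¹ : (Matrix A A ℚ)ˣ) := by
    rw [Units.eq_mul_inv_iff_mul_eq, PEquiv.toMatrix_toPEquiv_mul, PEquiv.mul_toMatrix_toPEquiv]
    ext a b
    simpa using hM a (τ.symm b)
  have h2 := congrArg Matrix.trace h1
  rw [Matrix.trace_units_conj, Matrix.trace_permutation, Matrix.trace_permutation] at h2
  exact_mod_cast h2

theorem bl_perm {A B : Type*} [Fintype A] [Fintype B] (σ : Equiv.Perm A) (τ : Equiv.Perm B) (M : Matrix A B ℚ)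
    (hM : ∀ a b, M (σ a) (τ b) = M a b) (hc : Fintype.card A = Fintype.card B)
    (hi : ∀ v, Matrix.vecMul v M = 0 → v = 0) : (Function.fixedPoints σ).ncard = (Function.fixedPoints τ).ncard := by
  let e := Fintype.equivOfCardEq hc
  rw [bl_sq σ (e.symm.permCongr τ) (M.submatrix id e) (fun a b => by simpa using hM a (e b)) fun v hv => hi v (by
    ext b
    simpa [Matrix.vecMul, dotProduct] using congrFun hv (e.symm b)), ← Set.ncard_image_of_injective _ e.injective]
  congr 1
  ext b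
  simp only [Set.mem_image, Function.mem_fixedPoints, Function.IsFixedPt, Equiv.permCongr_apply, Equiv.symm_symm,
    Equiv.symm_apply_eq]
  exact ⟨by rintro ⟨a, h, rfl⟩; exact h, fun h => ⟨e.symm b, by simpa using h, by simp⟩⟩

variable {G L : Type*} [Group G] [CompleteLattice L] [MulAction G L] [Finite G] [Finite L]
  {P : PG G L}

omit [Finite G] in
theorem bl {o t : L} (hot : o ≤ t) {g : G} (ho : g • o = o) (ht : g • t = t) :
    {e | P.Pt o t e ∧ g • e = e}.ncard = {D | P.Hy o t D ∧ g • D = D}.ncard := by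
  classical
  rcases lt_or_ge (P.d o t) 2 with hk | hk
  · have key : ∀ X : Set L, X.ncard = P.θ (P.d o t) → (∀ a ∈ X, g • a ∈ X) →
        {a | a ∈ X ∧ g • a = a}.ncard = P.θ (P.d o t) := fun X h1 h2 => by
      rw [← h1]
      congr 1
      refine Set.ext fun a => and_iff_left_of_imp fun ha => ?_
      refine (Set.ncard_le_one_iff (Set.toFinite X)).1 ?_ (h2 a ha) ha
      rw [h1, ← P.θ_one]
      exact P.θ_le_iff.2 (by omega)
    exact (key _ (P.ncard_pt hot) fun a ha => Pt.smul' ha ho ht).trans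
      (key _ (P.ncard_hy hot) fun a ha => Hy.smul' ha ho ht).symm
  have ho' : g⁻¹ • o = o := by rw [inv_smul_eq_iff, ho]
  have ht' : g⁻¹ • t = t := by rw [inv_smul_eq_iff, ht]
  have := Fintype.ofFinite {e // P.Pt o t e}
  have := Fintype.ofFinite {D // P.Hy o t D}
  have h1 := bl_perm
    ((MulAction.toPerm g).subtypePerm (p := P.Pt o t) fun e => ⟨fun h => by simpa using Pt.smul' h ho' ht',
      fun h => Pt.smul' h ho ht⟩)
    ((MulAction.toPerm g).subtypePerm (p := P.Hy o t) fun e => ⟨fun h => by simpa using Hy.smul' h ho' ht',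
      fun h => Hy.smul' h ho ht⟩)
    (fun a b => if a.1 ≤ b.1 then 1 else 0) (fun a b => by simp [P.smul_le_iff]) (by
      rw [← Nat.card_eq_fintype_card, ← Nat.card_eq_fintype_card]
      exact (P.ncard_pt hot).trans (P.ncard_hy hot).symm) fun v hv => ?_
  · rw [← Set.ncard_image_of_injective _ Subtype.val_injective,
      ← Set.ncard_image_of_injective (Function.fixedPoints _) Subtype.val_injective] at h1
    convert h1 using 2 <;> ext a <;> simp [Function.IsFixedPt, Subtype.ext_iff, and_comm]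
  obtain ⟨k, hk⟩ : ∃ k, P.d o t = k + 2 := ⟨P.d o t - 2, by omega⟩
  have h2 : ∀ U, o ≤ U → U ≤ t → ∑ b : {D // P.Hy o t D}, (if U ≤ b.1 then (1 : ℚ) else 0) = P.θ (P.d U t) :=
    fun U h3 h4 => by
      rw [Finset.sum_boole, ← P.ncard_hy h4, ← Set.ncard_coe_finset,
        ← Set.ncard_image_of_injective _ Subtype.val_injective]
      congr 2
      ext D
      simp only [Finset.coe_filter, Finset.mem_univ, true_and, Set.mem_image, Set.mem_ofPred_eq, Subtype.exists,
        exists_and_right, exists_eq_right]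
      exact ⟨fun ⟨h5, h6⟩ => ⟨h5.1, h6, h5.2.2⟩, fun h5 => ⟨Hy.mono h5 (h3.trans h5.2.1), h5.2.1⟩⟩
  have h3 : ∀ a : {e // P.Pt o t e}, (P.θ k : ℚ) * ∑ e, v e + P.q ^ k * v a = 0 := fun a => by
    have h4 : ∑ b : {D // P.Hy o t D}, (if a.1 ≤ b.1 then (1 : ℚ) else 0) *
        ∑ e : {e // P.Pt o t e}, v e * (if e.1 ≤ b.1 then 1 else 0) = 0 :=
      Finset.sum_eq_zero fun b _ => mul_eq_zero_of_right _ (congrFun hv b)
    simp only [Finset.mul_sum] at h4
    rw [Finset.sum_comm] at h4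
    rw [← h4, Finset.mul_sum, ← Finset.sum_ite_eq_of_mem Finset.univ a (fun e => (P.q : ℚ) ^ k * v e) (Finset.mem_univ a),
      ← Finset.sum_add_distrib]
    refine Finset.sum_congr rfl fun e _ => ?_
    have h5 : ∀ b : {D // P.Hy o t D}, (if a.1 ≤ b.1 then (1 : ℚ) else 0) * (v e * if e.1 ≤ b.1 then 1 else 0) =
        v e * if a.1 ⊔ e.1 ≤ b.1 then 1 else 0 := fun b => by
      simp only [sup_le_iff]
      by_cases h6 : a.1 ≤ b.1 <;> by_cases h7 : e.1 ≤ b.1 <;> simp [h6, h7]
    simp only [h5]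
    have h6 := sup_le a.2.2.1 e.2.2.1
    rw [← Finset.mul_sum, h2 _ (a.2.1.trans le_sup_left) h6]
    have h7 := P.rk_add_d h6
    have h8 := P.rk_add_d hot
    have h9 := (P.pt_iff.1 a.2).2.2
    split_ifs with h
    · subst h
      rw [sup_idem] at h7 ⊢
      rw [show P.d a.1 t = k + 1 by omega, P.θ_succ]
      push_cast
      ring
    · have := e.2.rk_sup a.2.1 fun h' => h (Subtype.ext (e.2.eq_of_le a.2 h').symm)
      rw [show P.d (a.1 ⊔ e.1) t = k by omega]
      ring
  have hq : (0 : ℚ) < P.q ^ k := by have := P.q_pos; positivity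
  have h4 : ∑ e, v e = 0 := by
    have := Finset.sum_eq_zero fun a (_ : a ∈ Finset.univ) => h3 a
    rw [Finset.sum_add_distrib, ← Finset.mul_sum _ _ (P.q ^ k : ℚ), Finset.sum_const, nsmul_eq_mul, ← mul_assoc,
      ← add_mul] at this
    exact (mul_eq_zero.1 this).resolve_left (by positivity)
  ext a
  have := h3 a
  rw [h4, mul_zero, zero_add] at this
  exact (mul_eq_zero.1 this).resolve_left hq.ne'

theorem orbN_pt_hy {Y : Subgroup G} {o t : L} (hot : o ≤ t) (ho : Fx Y o) (ht : Fx Y t) :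
    orbN Y {e | P.Pt o t e} = orbN Y {D | P.Hy o t D} :=
  orbN_congr (inv_pt ho ht) (inv_hy ho ht) fun g hg => bl hot (ho g hg) (ht g hg)

end CfsgLib.CK.PG
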