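import Cfsg.Agent.Lib.CK.A12
import Cfsg.Agent.Lib.CK.BL

/-!
Cameron–Kantor, package A3: transitivity on lines.
-/

set_option autoImplicit false

namespace CfsgLib.CK.PG

open CfsgLib.Tech

variable {G L : Type*} [Group G] [CompleteLattice L] [MulAction G L] [Finite G] [Finite L]
  {P : PG G L}

variable {Y : Subgroup G} {o t : L}

omit [Finite G] [Finite L] in
theorem Pt.ne_iff {t' a b : L} (ha : P.Pt o t a) (hb : P.Pt o t' b) : a ≠ b ↔ ¬ a ≤ b :=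
  ⟨fun h c => h (ha.eq_of_le hb c), fun h c => h c.le⟩

/-- orbits of a group fixing a point `e` -/
theorem orbN_split (ho : Fx Y o) (ht : Fx Y t) {e : L} (he : P.Pt o t e) (hf : Fx Y e) :
    orbN Y {y | P.Pt o t y ∧ ¬ y ≤ e} + 1 =
      orbN Y {D | P.Hy e t D} + orbN Y {D | P.Hy o t D ∧ ¬ e ≤ D} := by
  have i1 : Inv Y {e} := fun g hg a ha => by rw [ha]; exact hf g hg
  have e1 : orbN Y {e} = 1 := Tr.orbN_eq_one
    (fun a ha b hb => ⟨1, one_mem _, by rw [ha, hb, one_smul]⟩) (Set.singleton_nonempty e)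
  rw [← e1, ← orbN_union (inv_pt_off ho ht hf) i1 (Set.disjoint_singleton_right.2 fun c => c.2 le_rfl),
    ← orbN_union (inv_hy hf ht) (inv_hy_off ho ht hf) (Set.disjoint_left.2 fun _ a b => b.2 a.2.1)]
  convert orbN_pt_hy (P := P) (he.1.trans he.2.1) ho ht using 2
  · ext y
    refine ⟨fun a => a.elim And.left fun b => b ▸ he, fun a => ?_⟩
    by_cases b : y ≤ e
    · exact .inr (Pt.eq_of_le a he b)
    · exact .inl ⟨a, b⟩
  · ext D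
    refine ⟨fun a => a.elim (fun b => Hy.mono b (he.1.trans b.2.1)) And.left, fun a => ?_⟩
    by_cases b : e ≤ D
    · exact .inl (Hy.mono a b)
    · exact .inr ⟨a, b⟩

omit [Finite G] [Finite L] in
theorem two_of_tr (hot : o ≤ t) (ho : Fx Y o) (ht : Fx Y t) (h1 : Tr Y {e | P.Pt o t e})
    (h2 : ∀ e, P.Pt o t e → Tr (Stab Y e) {y | P.Pt o t y ∧ ¬ y ≤ e}) : P.Two Y o t := by
  refine ⟨hot, ho, ht, fun a b a' b' ha hb hab ha' hb' hab' => ?_⟩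
  obtain ⟨g, hg, rfl⟩ := h1 a ha a' ha'
  obtain ⟨k, hk, rfl⟩ := h2 _ ha' (g • b) ⟨hb.smul' (ho g hg) (ht g hg),
    P.not_le_smul ((hb.ne_iff ha).1 hab.symm)⟩ b' ⟨hb', (hb'.ne_iff ha').1 hab'.symm⟩
  exact ⟨k * g, mul_mem hk.1 hg, by rw [mul_smul]; exact hk.2, mul_smul k g b⟩

theorem AT.line_tr (h : P.AT Y o t) {g l : L} (hg : P.Pt o t g) (hl : P.Pt g t l) :
    Tr (Stab (Stab Y g) l) {y | P.Pt o l y ∧ y ≠ g} := by
  have fo := h.fo.mono (Stab_le Y g)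
  have ft := h.ft.mono (Stab_le Y g)
  have h1 := orbN_split fo ft hg (fx_Stab Y g)
  have h2 : orbN (Stab Y g) {D | P.Hy o t D ∧ ¬ g ≤ D} = 1 := Tr.orbN_eq_one (fun a ha b hb =>
    let ⟨k, hk, e1, e2⟩ := h.tr g a g b hg ha.1 ha.2 hg hb.1 hb.2; ⟨k, ⟨hk, e1⟩, e2⟩)
    (P.exists_hy_of_lt hg.2.1 hg.lt)
  rw [h2, ← orbN_pt_hy hg.2.1 (fx_Stab Y g) ft, Nat.add_right_cancel_iff] at h1
  have k : ∀ {m a : L}, P.Pt g t m → P.Pt o m a → ¬ a ≤ g → g ⊔ a = m := fun hm ha hn =>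
    P.sup_eq_of_rk hm.1 ha.2.1 hn (P.pt_iff.1 hm).2.2.le
  intro a ha b hb
  have ha' := (ha.1.ne_iff hg).1 ha.2
  have hb' := (hb.1.ne_iff hg).1 hb.2
  obtain ⟨u, hu, e1⟩ := tr_fibre (inv_pt_off fo ft (fx_Stab Y g)) (g ⊔ ·)
    (fun u hu a _ => by rw [P.smul_sup, hu.2]) (Set.ext fun m => ⟨by
      rintro ⟨y, hy, rfl⟩; exact hy.1.sup_pt hg.1 hg.2.1 hy.2, fun hm =>
      let ⟨y, hy, hn⟩ := P.exists_pt_of_lt hg.1 (Pt.lt hm)
      ⟨y, ⟨hy.mono (hy.2.1.trans hm.2.1), hn⟩, k hm hy hn⟩⟩) h1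
    ⟨ha.1.mono (ha.1.2.1.trans hl.2.1), ha'⟩ ⟨hb.1.mono (hb.1.2.1.trans hl.2.1), hb'⟩
    ((k hl ha.1 ha').trans (k hl hb.1 hb').symm)
  refine ⟨u, ⟨hu, ?_⟩, e1⟩
  show u • l = l
  conv_lhs => rw [← k hl ha.1 ha', P.smul_sup, hu.2, e1, k hl hb.1 hb']

theorem AT.line_two (h : P.AT Y o t) {l : L} (h1 : o ≤ l) (h2 : l ≤ t) (hl : P.d o l = 2) :
    P.Two (Stab Y l) o l := by
  have k : ∀ e, P.Pt o l e → Tr (Stab (Stab Y l) e) {y | P.Pt o l y ∧ ¬ y ≤ e} := fun e he => by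
    rw [Stab_comm]
    refine (h.line_tr (he.mono (he.2.1.trans h2)) ⟨he.2.1, h2, ?_⟩).sub
      fun y hy => ⟨hy.1, fun c => hy.2 c.le⟩
    have := P.d_add he.1 he.2.1; have := he.2.2; omega
  refine two_of_tr h1 (h.fo.mono (Stab_le Y l)) (fx_Stab Y l) (fun a ha b hb => ?_) k
  obtain ⟨c, hc, h3, h4⟩ := P.exists_pt_two ha.1 (Pt.lt_top ha hl.ge) hb.1 (Pt.lt_top hb hl.ge)
  obtain ⟨g, hg, e1⟩ := k c hc a ⟨ha, fun u => h3 (Pt.eq_of_le ha hc u).ge⟩ b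
    ⟨hb, fun u => h4 (Pt.eq_of_le hb hc u).ge⟩
  exact ⟨g, hg.1, e1⟩

theorem AT.pencil_two (h : P.AT Y o t) {U : L} (h1 : U ≤ t) (h2 : o ≤ U) (hU : P.d U t = 2) :
    P.dual.Two (Stab Y U) t U := h.dual.line_two h1 h2 hU

theorem AT.swap (h : P.AT Y o t) {a b : L} (ha : P.Pt o t a) (hb : P.Pt o t b) :
    ∃ g ∈ Y, g • a = b ∧ g • b = a := by
  by_cases hab : a = b
  · exact ⟨1, one_mem _, by rw [hab, one_smul], by rw [hab, one_smul]⟩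
  have h1 := hb.sup_pt ha.1 ha.2.1 ((hb.ne_iff ha).1 (Ne.symm hab))
  obtain ⟨g, hg, e⟩ := (h.line_two (ha.1.trans h1.1) h1.2.1
    (by rw [P.d_add ha.1 h1.1, ha.2.2, h1.2.2])).tr a b b a (ha.mono le_sup_left)
    (hb.mono le_sup_right) hab (hb.mono le_sup_right) (ha.mono le_sup_left) (Ne.symm hab)
  exact ⟨g, hg.1, e⟩

theorem AT.swap' (h : P.AT Y o t) {a b : L} (ha : P.Hy o t a) (hb : P.Hy o t b) :
    ∃ g ∈ Y, g • a = b ∧ g • b = a := h.dual.swap ha hb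

theorem AT.W_symm (h : P.AT Y o t) {a b : L} (ha : P.Pt o t a) (hb : P.Pt o t b)
    (hab : a ≤ W Y o t b) : b ≤ W Y o t a := by
  obtain ⟨g, hg, e1, e2⟩ := h.swap ha hb
  have := P.smul_mono g hab
  rwa [P.smul_W' hg h.fo h.ft, e1, e2] at this

theorem AT.N_symm (h : P.AT Y o t) {a b : L} (ha : P.Hy o t a) (hb : P.Hy o t b)
    (hab : N Y o t b ≤ a) : N Y o t a ≤ b := h.dual.W_symm ha hb hab

theorem AT.W_inf_le (h : P.AT Y o t) {a b c : L} (ha : P.Pt o t a) (hb : P.Pt o t b)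
    (hc : P.Pt o t c) (hle : c ≤ a ⊔ b) : W Y o t a ⊓ W Y o t b ≤ W Y o t c := by
  refine P.le_of_pt (le_inf (ha.1.trans (h.le_W ha)) (hb.1.trans (h.le_W hb)))
    (hc.1.trans (h.le_W hc)) fun y hy => ?_
  have hy' := hy.mono (hy.2.1.trans (inf_le_left.trans (h.W_lt ha).le))
  exact h.W_symm hc hy' (hle.trans (sup_le (h.W_symm hy' ha (hy.2.1.trans inf_le_left))
    (h.W_symm hy' hb (hy.2.1.trans inf_le_right))))

theorem AT.N_le_sup (h : P.AT Y o t) {a b c : L} (ha : P.Hy o t a) (hb : P.Hy o t b)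
    (hc : P.Hy o t c) (hle : a ⊓ b ≤ c) : N Y o t c ≤ N Y o t a ⊔ N Y o t b :=
  h.dual.W_inf_le ha hb hc hle

end CfsgLib.CK.PG
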