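import Cfsg.Agent.Lib.CK.A3

/-!
Cameron–Kantor, package A4: good flags, A4, A5, A6.
-/

set_option autoImplicit false

namespace CfsgLib.CK.PG

open CfsgLib.Tech

variable {G L : Type*} [Group G] [CompleteLattice L] [MulAction G L] [Finite G] [Finite L]
  {P : PG G L}

variable {Y : Subgroup G} {o t : L}

omit [CompleteLattice L] [Finite G] [Finite L] in
theorem _root_.CfsgLib.CK.ncard_smul (g : G) {A B : Set L} (h : ∀ a, a ∈ A ↔ g • a ∈ B) :
    A.ncard = B.ncard :=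
  Nat.card_congr ((MulAction.toPerm g).subtypeEquiv h)

omit [CompleteLattice L] [Finite G] [Finite L] in
/-- an invariant relation has constant valency along an orbit -/
theorem _root_.CfsgLib.CK.ncard_rel {Z : Subgroup G} {A B : Set L} (r : L → L → Prop) (hA : Inv Z A)
    (hB : Tr Z B) (hr : ∀ g ∈ Z, ∀ a b, r a b → r (g • a) (g • b)) {b b' : L} (hb : b ∈ B)
    (hb' : b' ∈ B) : {a | a ∈ A ∧ r a b}.ncard = {a | a ∈ A ∧ r a b'}.ncard := by
  obtain ⟨g, hg, rfl⟩ := hB b hb b' hb'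
  refine ncard_smul g fun a => ⟨fun h => ⟨hA g hg a h.1, hr g hg a b h.2⟩, fun h => ?_⟩
  simpa using And.intro (hA _ (inv_mem hg) _ h.1) (hr _ (inv_mem hg) _ _ h.2)

omit [Finite G] [Finite L] in
theorem AT.inv_good (h : P.AT Y o t) (e : L) : Inv (Stab Y e) {D | P.Good Y o t e D} :=
  fun g hg D hD => by have := h.good_smul hD hg.1; rwa [hg.2] at this

omit [Finite G] [Finite L] in
theorem AT.o_le_W (h : P.AT Y o t) {e : L} (he : P.Pt o t e) : o ≤ W Y o t e :=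
  he.1.trans (h.le_W he)

omit [Finite G] in
theorem AT.d_W (h : P.AT Y o t) {e e' : L} (he : P.Pt o t e) (he' : P.Pt o t e') :
    P.d (W Y o t e) t = P.d (W Y o t e') t := by
  obtain ⟨g, hg, rfl⟩ := h.tr_pt e he e' he'
  rw [← P.smul_W' hg h.fo h.ft, ← P.d_smul g, h.ft g hg]

theorem AT.good_eq (h : P.AT Y o t) {e : L} (he : P.Pt o t e) :
    {D | P.Good Y o t e D} = {D | P.Hy (W Y o t e) t D} := by
  have h1 := h.o_le_W he
  have h2 := h.W_lt he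
  obtain ⟨y, hy⟩ := P.exists_pt_of_lt h1 h2
  obtain ⟨D, hD⟩ := h.exists_good_hy he
  have h3 := dc_eq {D | P.Good Y o t e D} {y | P.Pt o t y ∧ ¬ y ≤ W Y o t e} (fun D y => ¬ y ≤ D)
    (m := P.q ^ (P.d o t - 1)) (fun K hK => by
      have a1 := P.d_add hK.2.1.2.1 hK.2.1.1
      have a2 := hK.2.1.2.2
      rw [show P.d o t - 1 = P.d o K by omega, ← ncard_off_hy hK.2.1]
      congr 1; ext z
      exact ⟨fun a => ⟨a.1.1, a.2⟩, fun a => ⟨⟨a.1, fun b => a.2 (b.trans (h.W_le_of_good hK))⟩, a.2⟩⟩)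
    fun z hz => ncard_rel (fun D y => ¬ y ≤ D) (h.inv_good e) (h.tr_off_W he)
      (fun g _ _ _ => P.not_le_smul) hz hy
  rw [P.ncard_pt_off h1 h2.le] at h3
  refine Set.eq_of_subset_of_ncard_le (fun K hK => Hy.mono hK.2.1 (h.W_le_of_good hK)) ?_
  rw [P.ncard_hy h2.le]
  exact Nat.le_of_dvd ((Set.ncard_pos (Set.toFinite _)).2 ⟨D, hD⟩)
    ((P.coprime_θ _ (P.d_pos h2)).symm.dvd_of_dvd_mul_right
      ⟨_, h3.trans (by rw [mul_comm (P.q ^ _), mul_assoc])⟩)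

theorem AT.ncard_good (h : P.AT Y o t) {e : L} (he : P.Pt o t e) :
    {D | P.Good Y o t e D}.ncard = P.θ (P.d (W Y o t e) t) := by
  rw [h.good_eq he, P.ncard_hy (h.W_lt he).le]

theorem AT.good_iff_W (h : P.AT Y o t) {e D : L} (he : P.Pt o t e) (hD : P.Hy o t D) :
    P.Good Y o t e D ↔ W Y o t e ≤ D := by
  exact ⟨h.W_le_of_good, fun a => (h.good_eq he).ge (hD.mono a)⟩

theorem AT.good_iff_N (h : P.AT Y o t) {e D : L} (he : P.Pt o t e) (hD : P.Hy o t D) :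
    P.Good Y o t e D ↔ e ≤ N Y o t D :=
  ⟨fun hg => (h.dual.good_iff_W hD he).1 hg.dual, fun hg => ((h.dual.good_iff_W hD he).2 hg).of_dual⟩

theorem AT.W_le_iff (h : P.AT Y o t) {e D : L} (he : P.Pt o t e) (hD : P.Hy o t D) :
    W Y o t e ≤ D ↔ e ≤ N Y o t D := (h.good_iff_W he hD).symm.trans (h.good_iff_N he hD)

theorem AT.d_N (h : P.AT Y o t) {e D : L} (he : P.Pt o t e) (hD : P.Hy o t D) :
    P.d o (N Y o t D) = P.d (W Y o t e) t := by
  have h1 := dc_eq {e | P.Pt o t e} {D | P.Hy o t D} (P.Good Y o t)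
    (m := P.θ (P.d (W Y o t e) t)) (k := P.θ (P.d o (N Y o t D))) (fun a ha => by
      rw [h.d_W he ha, ← h.ncard_good ha]
      congr 1; ext K; exact ⟨And.right, fun b => ⟨b.2.1, b⟩⟩) fun K hK => by
      refine Eq.trans ?_ ((h.dual.ncard_good hK).trans (congrArg P.θ (h.dual.d_W hK hD)))
      congr 1; ext a; exact ⟨fun b => b.2.dual, fun b => ⟨b.2.1, Good.of_dual b⟩⟩
  rw [P.ncard_pt h.le, P.ncard_hy h.le] at h1
  exact (P.θ_inj (Nat.eq_of_mul_eq_mul_left (P.θ_pos (le_trans one_le_two h.two)) h1)).symm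

/-- (A5) -/
theorem AT.two_of_W (h : P.AT Y o t) {e : L} (he : P.Pt o t e) (hW : W Y o t e = e) :
    P.Two Y o t := by
  refine two_of_tr h.le h.fo h.ft h.tr_pt fun a ha => ?_
  have h1 := h.tr_off_W ha
  obtain ⟨g, hg, rfl⟩ := h.tr_pt e he a ha
  rwa [← P.smul_W' hg h.fo h.ft, hW] at h1

/-- (A6) -/
theorem AT.dich (h : P.AT Y o t) {e : L} (he : P.Pt o t e) :
    (∀ e' D, P.Good Y o t e' D → N Y o t D ≤ W Y o t e') ∨
      P.d o (W Y o t e) < P.d (W Y o t e) t := by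
  refine or_iff_not_imp_left.2 fun hn => ?_
  push Not at hn
  obtain ⟨x, D, hD, hn⟩ := hn
  have hx := hD.1
  have w1 := h.o_le_W hx
  have w2 := h.W_lt hx
  have n1 := h.lt_N hD.2.1
  have n2 := (h.N_le hD.2.1).trans hD.2.1.1
  obtain ⟨y, hy, hy'⟩ := P.exists_pt n1.le w1 hn
  have hyt := hy.mono (hy.2.1.trans n2)
  have fW : Fx (Stab Y x) (W Y o t x) := fun g hg => by rw [P.smul_W' hg.1 h.fo h.ft, hg.2]
  have hr : ∀ g ∈ Stab Y x, ∀ K z, z ≤ N Y o t K → g • z ≤ N Y o t (g • K) := fun g hg K z a => by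
    rw [← P.smul_N' hg.1 h.fo h.ft]; exact P.smul_mono g a
  have h3 := dc_eq {D | P.Good Y o t x D} {y | P.Pt o t y ∧ ¬ y ≤ W Y o t x}
    (fun D y => y ≤ N Y o t D) (fun K hK => ncard_rel (fun z K => z ≤ N Y o t K)
      (inv_pt_off (h.fo.mono (Stab_le Y x)) (h.ft.mono (Stab_le Y x)) fW)
      (B := {D | P.Good Y o t x D}) (fun a ha b hb =>
        let ⟨g, hg, e1, e2⟩ := h.good_tr ha hb; ⟨g, ⟨hg, e1⟩, e2⟩) (fun g hg a b => hr g hg b a) hK hD)
    fun z hz => ncard_rel _ (h.inv_good x) (h.tr_off_W hx) hr hz ⟨hyt, hy'⟩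
  have e1 : {a | a ∈ {y | P.Pt o t y ∧ ¬ y ≤ W Y o t x} ∧ a ≤ N Y o t D} =
      {a | P.Pt o (N Y o t D) a ∧ ¬ a ≤ N Y o t D ⊓ W Y o t x} := Set.ext fun a =>
    ⟨fun b => ⟨b.1.1.mono b.2, fun c => b.1.2 (c.trans inf_le_right)⟩,
      fun b => ⟨⟨b.1.mono (b.1.2.1.trans n2), fun c => b.2 (le_inf b.1.2.1 c)⟩, b.1.2.1⟩⟩
  have e2 : {K | K ∈ {D | P.Good Y o t x D} ∧ y ≤ N Y o t K} =
      {K | P.Hy (W Y o t x ⊔ W Y o t y) t K} := Set.ext fun K =>
    ⟨fun b => Hy.mono b.1.2.1 (sup_le (h.W_le_of_good b.1) ((h.W_le_iff hyt b.1.2.1).2 b.2)),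
      fun b => have c := Hy.mono b (w1.trans (le_sup_left.trans b.2.1))
        ⟨(h.good_iff_W hx c).2 (le_sup_left.trans b.2.1),
          (h.W_le_iff hyt c).1 (le_sup_right.trans b.2.1)⟩⟩
  have i1 : N Y o t D ⊓ W Y o t x < N Y o t D := inf_lt_left.2 hn
  rw [e1, e2, h.ncard_good hx, P.ncard_pt_off w1 w2.le, P.ncard_pt_off (le_inf n1.le w1) i1.le,
    P.ncard_hy (sup_le w2.le (h.W_lt hyt).le), mul_comm (P.q ^ P.d o (W Y o t x)), mul_assoc] at h3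
  replace h3 := Nat.eq_of_mul_eq_mul_left (P.θ_pos (P.d_pos w2)) h3
  have a1 := P.d_pos i1
  have a2 := (P.pow_mul_θ_inj a1 (Nat.pos_of_ne_zero fun c => by
    rw [c, θ_zero, mul_zero] at h3
    exact (Nat.mul_pos (pow_pos P.q_pos _) (P.θ_pos a1)).ne' h3) h3).1
  have a3 := P.d_add (le_inf n1.le w1) i1.le
  have a4 := h.d_N hx hD.2.1
  have a5 := h.d_W he hx
  have a6 := P.d_add w1 w2.le
  have a7 := P.d_add (h.o_le_W he) (h.W_lt he).le
  omega

end CfsgLib.CK.PG
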