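import Cfsg.Agent.Lib.CK.A4
import Cfsg.Agent.Lib.CK.BL

/-!
Cameron–Kantor, package B12: first consequences of 2-transitivity, B1, B2.
-/

set_option autoImplicit false

namespace CfsgLib.CK.PG

open CfsgLib.Tech

variable {G L : Type*} [Group G] [CompleteLattice L] [MulAction G L] [Finite G] [Finite L]
  {P : PG G L}

section Int
variable {Y : Subgroup G} {o t : L}

omit [Finite G] in
theorem Two.tr_pt (h : P.Two Y o t) (h2 : 2 ≤ P.d o t) : Tr Y {e | P.Pt o t e} := by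
  intro a ha b hb
  obtain ⟨c, hc, h3⟩ := P.exists_pt_of_lt ha.1 (Pt.lt_top ha h2)
  obtain ⟨d, hd, h4⟩ := P.exists_pt_of_lt hb.1 (Pt.lt_top hb h2)
  obtain ⟨g, hg, e, -⟩ := h.tr a c b d ha hc (fun u => h3 u.ge) hb hd fun u => h4 u.ge
  exact ⟨g, hg, e⟩

theorem Two.tr_hy_aux (h : P.Two Y o t) (h2 : 2 ≤ P.d o t) {e : L} (he : P.Pt o t e) :
    Tr (Stab Y e) {D | P.Hy e t D} ∧ Tr (Stab Y e) {D | P.Hy o t D ∧ ¬ e ≤ D} := by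
  have h1 := orbN_split (h.fo.mono (Stab_le Y e)) (h.ft.mono (Stab_le Y e)) he (fx_Stab Y e)
  have h3 : orbN (Stab Y e) {y | P.Pt o t y ∧ ¬ y ≤ e} ≤ 1 := orbN_le_one_iff.2 fun a ha b hb =>
    let ⟨g, hg, e1, e2⟩ := h.tr e a e b he ha.1 (fun u => ha.2 u.ge) he hb.1 fun u => hb.2 u.ge
    ⟨g, ⟨hg, e1⟩, e2⟩
  have h4 := orbN_pos (Stab Y e) (X := {D | P.Hy e t D}) (P.exists_hy' (he.lt_top h2))
  have h5 := orbN_pos (Stab Y e) (X := {D | P.Hy o t D ∧ ¬ e ≤ D})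
    (P.exists_hy_of_lt he.2.1 he.lt)
  exact ⟨orbN_le_one_iff.1 (by omega), orbN_le_one_iff.1 (by omega)⟩

theorem Two.at (h : P.Two Y o t) (h2 : 2 ≤ P.d o t) : P.AT Y o t := by
  refine ⟨h.le, h2, h.fo, h.ft, fun e D e' D' he hD hn he' hD' hn' => ?_⟩
  obtain ⟨g, hg, rfl⟩ := h.tr_pt h2 e he e' he'
  obtain ⟨k, hk, rfl⟩ := (h.tr_hy_aux h2 he').2 (g • D)
    ⟨hD.smul' (h.fo g hg) (h.ft g hg), P.not_le_smul hn⟩ D' ⟨hD', hn'⟩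
  exact ⟨k * g, mul_mem hk.1 hg, by rw [mul_smul]; exact hk.2, mul_smul k g D⟩

theorem Two.flag (h : P.Two Y o t) (h2 : 2 ≤ P.d o t) {e D e' D' : L} (he : P.Pt o t e)
    (hD : P.Hy o t D) (hle : e ≤ D) (he' : P.Pt o t e') (hD' : P.Hy o t D') (hle' : e' ≤ D') :
    ∃ g ∈ Y, g • e = e' ∧ g • D = D' := by
  obtain ⟨g, hg, rfl⟩ := h.tr_pt h2 e he e' he'
  obtain ⟨k, hk, rfl⟩ := (h.tr_hy_aux h2 he').1 (g • D)
    ((hD.smul' (h.fo g hg) (h.ft g hg)).mono (P.smul_mono g hle)) D' (hD'.mono hle')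
  exact ⟨k * g, mul_mem hk.1 hg, by rw [mul_smul]; exact hk.2, mul_smul k g D⟩

theorem Two.dual (h : P.Two Y o t) (h2 : 2 ≤ P.d o t) : P.dual.Two Y t o := by
  refine two_of_tr (P := P.dual) h.le h.ft h.fo (h.at h2).tr_hy fun D hD => orbN_le_one_iff.1 ?_
  have h1 := orbN_split (P := P.dual) (h.ft.mono (Stab_le Y D)) (h.fo.mono (Stab_le Y D)) hD
    (fx_Stab Y D)
  have h3 : orbN (Stab Y D) {y | P.dual.Hy D o y} ≤ 1 := orbN_le_one_iff.2 fun a ha b hb =>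
    let ⟨g, hg, e1, e2⟩ := h.flag h2 (Pt.mono ha (le_trans ha.2.1 hD.1)) hD ha.2.1
      (Pt.mono hb (le_trans hb.2.1 hD.1)) hD hb.2.1
    ⟨g, ⟨hg, e2⟩, e1⟩
  have h4 : orbN (Stab Y D) {y | P.dual.Hy t o y ∧ ¬ D ≤ y} ≤ 1 := orbN_le_one_iff.2 fun a ha b hb =>
    let ⟨g, hg, e1, e2⟩ := (h.at h2).tr a D b D ha.1 hD ha.2 hb.1 hD hb.2
    ⟨g, ⟨hg, e2⟩, e1⟩
  omega

omit [Finite G] [Finite L] in
theorem Two.of_dual (h : P.dual.dual.Two Y o t) : P.Two Y o t := ⟨h.le, h.fo, h.ft, h.tr⟩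

end Int

variable {Γ : Subgroup G}

theorem Two.b0 (h : P.Two Γ ⊥ ⊤) (h3 : 3 ≤ P.n) : P.B0 Γ :=
  ⟨h, h.dual (le_trans (by norm_num) h3), h3⟩

theorem B0.at (h : P.B0 Γ) : P.AT Γ ⊥ ⊤ := h.two.at (le_trans (by norm_num) h.three)

theorem B0.tr_pt (h : P.B0 Γ) : Tr Γ {x | P.rk x = 1} := by
  exact h.at.tr_pt.sub fun _ a => P.pt_bot_top.2 a

theorem B0.tr_hy (h : P.B0 Γ) : Tr Γ {H | P.ck H = 1} := h.dual.tr_pt

omit [Finite G] in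
theorem B0.tr_line (h : P.B0 Γ) {x l x' l' : L} (hx : P.rk x = 1) (hl : P.rk l = 2) (hxl : x ≤ l)
    (hx' : P.rk x' = 1) (hl' : P.rk l' = 2) (hxl' : x' ≤ l') : ∃ g ∈ Γ, g • x = x' ∧ g • l = l' := by
  obtain ⟨y, hy, h1, h2⟩ := P.exists_rk1 (a := l) (b := x) fun c => by have := P.rk_mono c; omega
  obtain ⟨y', hy', h1', h2'⟩ := P.exists_rk1 (a := l') (b := x') fun c => by
    have := P.rk_mono c; omega
  obtain ⟨g, hg, e1, e2⟩ := h.two.tr x y x' y' (P.pt_bot_top.2 hx) (P.pt_bot_top.2 hy)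
    (fun u => h2 u.ge) (P.pt_bot_top.2 hx') (P.pt_bot_top.2 hy') fun u => h2' u.ge
  refine ⟨g, hg, e1, ?_⟩
  rw [← P.sup_eq_of_rk hxl h1 h2 (by omega), P.smul_sup, e1, e2,
    P.sup_eq_of_rk hxl' h1' h2' (by omega)]

omit [Finite G] in
theorem B0.tr_co (h : P.B0 Γ) {H D H' D' : L} (hH : P.ck H = 1) (hD : P.ck D = 2) (hDH : D ≤ H)
    (hH' : P.ck H' = 1) (hD' : P.ck D' = 2) (hDH' : D' ≤ H') : ∃ g ∈ Γ, g • H = H' ∧ g • D = D' :=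
  h.dual.tr_line hH hD hDH hH' hD' hDH'

theorem B0.tr_flag (h : P.B0 Γ) {x H x' H' : L} (hx : P.rk x = 1) (hH : P.ck H = 1) (hxH : x ≤ H)
    (hx' : P.rk x' = 1) (hH' : P.ck H' = 1) (hxH' : x' ≤ H') :
    ∃ g ∈ Γ, g • x = x' ∧ g • H = H' := by
  exact h.two.flag h.at.two (P.pt_bot_top.2 hx) (P.hy_bot_top.2 hH) hxH (P.pt_bot_top.2 hx')
    (P.hy_bot_top.2 hH') hxH'

theorem B0.syl_x (h : P.B0 Γ) {x : L} (hx : P.rk x = 1) {S : Subgroup G}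
    (hS : IsSylowIn P.p S (Stab Γ x)) : IsSylowIn P.p S Γ := by
  exact syl_of_Stab P.pp h.at.tr_pt (inv_pt h.two.fo h.two.ft) h.at.not_dvd (P.pt_bot_top.2 hx) hS

theorem B0.syl_H (h : P.B0 Γ) {H : L} (hH : P.ck H = 1) {S : Subgroup G}
    (hS : IsSylowIn P.p S (Stab Γ H)) : IsSylowIn P.p S Γ := h.dual.syl_x hH hS

theorem B0.exists_syl (h : P.B0 Γ) {x H : L} (hx : P.rk x = 1) (hH : P.ck H = 1) (hxH : x ≤ H) :
    ∃ S, IsSylowIn P.p S Γ ∧ Fx S x ∧ Fx S H := by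
  obtain ⟨D, hD⟩ := h.at.exists_good_hy (P.pt_bot_top.2 hx)
  obtain ⟨g, hg, e1, e2⟩ := h.tr_flag hx (P.hy_bot_top.1 hD.2.1) (h.at.good_le hD) hx hH hxH
  have := h.at.good_smul hD hg
  rw [e1, e2] at this
  exact this.2.2

theorem B0.syl_tr (h : P.B0 Γ) {S : Subgroup G} (hS : IsSylowIn P.p S Γ) {H : L} (hH : P.ck H = 1)
    (hf : Fx S H) : Tr S {y | P.rk y = 1 ∧ ¬ y ≤ H} := by
  exact (h.at.syl_tr hS (P.hy_bot_top.2 hH) hf).sub fun _ a => ⟨P.pt_bot_top.2 a.1, a.2⟩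

theorem B0.syl_tr' (h : P.B0 Γ) {S : Subgroup G} (hS : IsSylowIn P.p S Γ) {x : L} (hx : P.rk x = 1)
    (hf : Fx S x) : Tr S {H | P.ck H = 1 ∧ ¬ x ≤ H} := h.dual.syl_tr hS hx hf

theorem B0.exists_syl_co (h : P.B0 Γ) {H D : L} (hH : P.ck H = 1) (hD : P.ck D = 2) (hDH : D ≤ H) :
    ∃ S, IsSylowIn P.p S Γ ∧ Fx S H ∧ Fx S D := by
  haveI := Fact.mk P.pp
  obtain ⟨x, -, -, S, hS, -, h1⟩ := h.at.exists_good_pt (P.hy_bot_top.2 hH)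
  obtain ⟨K, hK, h2⟩ := exists_fx P.pp hS.pgroup (inv_hy (P := P) (P.fx_bot S) h1) (by
    rw [P.ncard_hy bot_le, d_bot]
    exact P.not_dvd_θ (by have := P.rk_add_ck H; have := h.three; omega))
  obtain ⟨g, hg, e1, e2⟩ := h.tr_co hH ((P.hy_co hH).1 hK).2.2 hK.1 hH hD hDH
  exact ⟨_, hS.cj_of_mem hg, e1 ▸ h1.cj g, e2 ▸ h2.cj g⟩

/-- (B2) -/
theorem B0.at_H (h : P.B0 Γ) {H : L} (hH : P.ck H = 1) : P.AT (Stab Γ H) ⊥ H := by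
  refine ⟨bot_le, by rw [d_bot]; have := P.rk_add_ck H; have := h.three; omega, P.fx_bot _,
    fx_Stab Γ H, fun e D e' D' he hD hn he' hD' hn' => ?_⟩
  have c2 := ((P.hy_co hH).1 hD').2.2
  obtain ⟨g, hg, e1, rfl⟩ := h.tr_co hH ((P.hy_co hH).1 hD).2.2 hD.1 hH c2 hD'.1
  obtain ⟨K, hK, h1⟩ := P.exists_hy_of_lt le_top hD'.lt
  obtain ⟨S, hS, f1, f2⟩ := h.exists_syl_co (P.hy_top.1 hK).2 c2 hK.2.1
  have k : ∀ {y : L}, y ≤ H → ¬ y ≤ g • D → ¬ y ≤ K := fun a b c =>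
    h1 ((hD'.sup_eq a b).ge.trans (sup_le hK.2.1 c))
  have he1 := he.smul' (P.smul_bot g) e1
  obtain ⟨u, hu, rfl⟩ := h.syl_tr hS (P.hy_top.1 hK).2 f1 (g • e)
    ⟨(P.pt_bot.1 he1).2, k he1.2.1 (P.not_le_smul hn)⟩ e' ⟨(P.pt_bot.1 he').2, k he'.2.1 hn'⟩
  refine ⟨u * g, ⟨mul_mem (hS.le hu) hg, ?_⟩, mul_smul u g e, by rw [mul_smul, f2 u hu]⟩
  show (u * g) • H = H
  rw [mul_smul, e1]
  conv_lhs => rw [← hD'.sup_eq he1.2.1 (P.not_le_smul hn), P.smul_sup, f2 u hu,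
    hD'.sup_eq he'.2.1 hn']

theorem B0.at_x (h : P.B0 Γ) {x : L} (hx : P.rk x = 1) : P.AT (Stab Γ x) x ⊤ := by
  have := (h.dual.at_H (H := x) hx).dual
  exact ⟨this.le, this.two, this.fo, this.ft, this.tr⟩

omit [Finite G] [Finite L] in
theorem pt_of_line {x l : L} (hx : P.rk x = 1) (hl : P.rk l = 2) (hxl : x ≤ l) : P.Pt x ⊤ l :=
  (P.pt_line hx).2 ⟨hxl, le_top, hl⟩

theorem B0.tr_off (h : P.B0 Γ) {x l : L} (hx : P.rk x = 1) (hl : P.rk l = 2) (hxl : x ≤ l) :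
    Tr (Stab (Stab Γ x) l) {y | P.rk y = 1 ∧ ¬ y ≤ Wx Γ x l} := by
  have hp := pt_of_line hx hl hxl
  intro a ha b hb
  obtain ⟨K, hK, h1, h2⟩ := P.exists_hy_two le_top (left_lt_sup.2 ha.2) le_top (left_lt_sup.2 hb.2)
  obtain ⟨-, -, S, hS, f1, f2⟩ := ((h.at_x hx).good_iff_W hp
    (hK.mono (((h.at_x hx).o_le_W hp).trans hK.2.1))).2 hK.2.1
  obtain ⟨g, hg, e⟩ := h.syl_tr (h.syl_x hx hS) (P.hy_top.1 hK).2 f2 a
    ⟨ha.1, fun c => h1 (sup_le hK.2.1 c)⟩ b ⟨hb.1, fun c => h2 (sup_le hK.2.1 c)⟩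
  exact ⟨g, le_Stab hS.le f1 hg, e⟩

omit [Finite G] in
theorem B0.ck_Wx_eq (h : P.B0 Γ) {x l x' l' : L} (hx : P.rk x = 1) (hl : P.rk l = 2) (hxl : x ≤ l)
    (hx' : P.rk x' = 1) (hl' : P.rk l' = 2) (hxl' : x' ≤ l') :
    P.ck (Wx Γ x l) = P.ck (Wx Γ x' l') := by
  obtain ⟨g, hg, rfl, rfl⟩ := h.tr_line hx hl hxl hx' hl' hxl'
  rw [← P.smul_Wx hg, P.ck_smul]

theorem B0.exists_c (h : P.B0 Γ) : ∃ c, 1 ≤ c ∧ c + 2 ≤ P.n ∧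
    ∀ x l, P.rk x = 1 → P.rk l = 2 → x ≤ l → P.ck (Wx Γ x l) = c := by
  have h3 := h.three
  obtain ⟨x, -, -, hx⟩ := P.exists_rk (le_top : (⊥ : L) ≤ ⊤) (k := 1) (by rw [rk_bot]; omega)
    (by rw [rk_top]; omega)
  obtain ⟨l, hxl, -, hl⟩ := P.exists_rk (le_top : x ≤ ⊤) (k := 2) (by omega) (by rw [rk_top]; omega)
  have hp := pt_of_line hx hl hxl
  refine ⟨P.ck (Wx Γ x l), P.d_pos ((h.at_x hx).W_lt hp), ?_,
    fun x' l' a b c => h.ck_Wx_eq a b c hx hl hxl⟩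
  have h1 : P.ck (Wx Γ x l) ≤ P.ck l := P.ck_anti ((h.at_x hx).le_W hp)
  have := P.rk_add_ck l
  omega

theorem B0.two_x (h : P.B0 Γ) {x l : L} (hx : P.rk x = 1) (hl : P.rk l = 2) (hxl : x ≤ l)
    (hc : P.ck (Wx Γ x l) + 2 = P.n) : P.Two (Stab Γ x) x ⊤ := by
  have hp := pt_of_line hx hl hxl
  refine (h.at_x hx).two_of_W hp (P.eq_of_ck_le ((h.at_x hx).le_W hp) ?_).symm
  have := P.rk_add_ck l
  show _ ≤ P.ck (Wx Γ x l)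
  omega

theorem B0.one_of_c (h : P.B0 Γ) {x l : L} (hx : P.rk x = 1) (hl : P.rk l = 2) (hxl : x ≤ l)
    (hc : P.ck (Wx Γ x l) = 1) : P.One Γ ⊥ ⊤ := by
  have hp := pt_of_line hx hl hxl
  have hA := h.at_x hx
  have hH : P.Hy x ⊤ (Wx Γ x l) := P.hy_top.2 ⟨hA.o_le_W hp, hc⟩
  have e1 : l = Nx Γ x (Wx Γ x l) := hp.eq_of_le
    (⟨(hA.lt_N hH).le, le_top, (hA.d_N hp hH).trans hc⟩ : P.Pt x ⊤ (Nx Γ x (Wx Γ x l)))
    ((hA.W_le_iff hp hH).1 le_rfl)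
  refine ⟨x, Wx Γ x l, l, P.pt_bot_top.2 hx, P.hy_bot_top.2 hc, hp.mono (hA.le_W hp),
    fun g hg a b => ?_⟩
  conv_lhs => rw [e1, P.smul_Nx hg, a, b, ← e1]

theorem B0.c_of_one (h : P.B0 Γ) (h1 : P.One Γ ⊥ ⊤) {x l : L} (hx : P.rk x = 1) (hl : P.rk l = 2)
    (hxl : x ≤ l) : P.ck (Wx Γ x l) = 1 := by
  obtain ⟨y, H, m, hy, hH, hm, h2⟩ := h1
  have hy' := P.pt_bot_top.1 hy
  have hA := h.at_x hy'
  have hm' := (P.pt_line hy').1 hm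
  have hH' : P.Hy y ⊤ H := hH.mono (hm.1.trans hm.2.1)
  have h3 : N (Stab Γ y) y ⊤ H ≤ m := N_le_of_inv le_top hm.lt fun g hg => h2 g hg.1 hg.2
  have h4 := hA.d_N (hm.mono le_top) hH'
  have h5 := P.d_add (hA.lt_N hH').le h3
  have h6 := P.d_pos (hA.lt_N hH')
  have h7 := hm.2.2
  rw [h.ck_Wx_eq hx hl hxl hy' hm'.2.2 hm'.1]
  show P.d (W (Stab Γ y) y ⊤ m) ⊤ = 1
  omega

end CfsgLib.CK.PG
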