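import Cfsg.Agent.Lib.CK.LDefs

/-!
Cameron–Kantor, eigenvalues of `p`-elements; the interface of C2.
-/

set_option autoImplicit false

namespace CfsgLib.CK

open Module CfsgLib.Tech CfsgLib.TvGen

variable {F V : Type*} [Field F] [Finite F] [AddCommGroup V] [Module F V] [Finite V]

omit [Finite F] [Finite V] in
theorem pow_sub_mem {g : V ≃ₗ[F] V} {U : Submodule F V} (hU : g • U = U) {v : V} {c : F}
    (h : g v - c • v ∈ U) (m : ℕ) : (g ^ m) v - c ^ m • v ∈ U := by
  induction m with
  | zero => simp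
  | succ m ih =>
    have h1 := apply_mem_of_smul_eq hU ih
    have h2 := U.smul_mem (c ^ m) h
    have := U.add_mem h1 h2
    rw [map_sub, map_smul, ← LinearEquiv.mul_apply, ← pow_succ'] at this
    convert this using 1
    rw [pow_succ c, mul_smul, smul_sub]; abel

omit [Finite F] [Finite V] in
theorem pow_eq_one_of_pow {g : V ≃ₗ[F] V} {U : Submodule F V} (hU : g • U = U) {v : V} (hv : v ∉ U)
    {c : F} (h : g v - c • v ∈ U) {m : ℕ} (hg : g ^ m = 1) : c ^ m = 1 := by
  have h1 := pow_sub_mem hU h m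
  rw [hg] at h1
  by_contra hn
  have h2 : (1 - c ^ m) • v ∈ U := by rwa [sub_smul, one_smul]
  exact hv ((U.smul_mem_iff (sub_ne_zero.2 (Ne.symm hn))).1 h2)

omit [Finite V] in
/-- a `p`-element has eigenvalue one on every section of dimension one -/
theorem eig_one {g : V ≃ₗ[F] V} {U : Submodule F V} (hU : g • U = U) {v : V} (hv : v ∉ U)
    {c : F} (h : g v - c • v ∈ U) {k : ℕ} (hg : g ^ ringChar F ^ k = 1) : c = 1 := by
  have h1 := pow_eq_one_of_pow hU hv h hg
  have : Fact (ringChar F).Prime := ⟨CharP.char_is_prime F _⟩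
  have h2 : (c - 1) ^ ringChar F ^ k = 0 := by rw [sub_pow_char_pow, h1, one_pow, sub_self]
  exact sub_eq_zero.1 (pow_eq_zero_iff (pow_pos this.out.pos k).ne' |>.1 h2)

/-- the relation "good triple" of C2 -/
structure Gd (F : Type*) {V : Type*} [Field F] [AddCommGroup V] [Module F V]
    (R : V → V → V → Prop) : Prop where
  hyp : ∀ x y, LinearIndependent F ![x, y] → ∃ φ : Dual F V, φ ≠ 0 ∧ ∀ z, R x y z ↔ φ z = 0
  dep : ∀ x y z, ¬ LinearIndependent F ![x, y] → R x y z
  s12 : ∀ x y z, R x y z → R y x z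
  s23 : ∀ x y z, R x y z → R x z y

end CfsgLib.CK
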