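import Cfsg.Agent.Lib.CK.B12
import Cfsg.Agent.Lib.CK.Eig

/-!
Cameron–Kantor, package B34: the elation lemma and dimension three.
-/

set_option autoImplicit false

namespace CfsgLib.CK

open Module CfsgLib.Tech CfsgLib.TvGen

variable {F V : Type*} [Field F] [Finite F] [AddCommGroup V] [Module F V] [Finite V]

variable {H : Subgroup (V ≃ₗ[F] V)}

/-- The functionals `ψ` of the transvections of `H` with centre vector `v`. -/
def b34Q (H : Subgroup (V ≃ₗ[F] V)) (v : V) : AddSubgroup (Dual F V) where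
  carrier := {ψ | Tv H v ψ}
  zero_mem' := Tv.zr H v
  add_mem' := by
    rintro a b ⟨ha, g, hg, e⟩ ⟨hb, k, hk, e'⟩
    refine ⟨by simp [ha, hb], g * k, H.mul_mem hg hk, fun x => ?_⟩
    rw [LinearEquiv.mul_apply, e', e, map_add, map_smul, ha, LinearMap.add_apply, add_smul,
      add_smul, smul_zero, zero_smul]
    abel
  neg_mem' := by
    rintro a ⟨ha, g, hg, e⟩
    refine ⟨by simp [ha], g⁻¹, H.inv_mem hg, fun x => ?_⟩
    rw [tv_inv_apply ha e, LinearMap.neg_apply, neg_smul, sub_eq_add_neg]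

/-- The non-zero functionals with given centre and axis. -/
def b34A (H : Subgroup (V ≃ₗ[F] V)) (v : V) (D : Submodule F V) : Set (Dual F V) :=
  {ψ | ψ ∈ (b34Q H v : Set (Dual F V)) \ {0} ∧ LinearMap.ker ψ = D}

omit [Finite F] [Finite V] in
theorem b34_scale {v : V} {ψ : Dual F V} {c : F} (h : Tv H (c • v) ψ) (hc : c ≠ 0) :
    Tv H v (c • ψ) := by
  obtain ⟨h0, g, hg, e⟩ := h
  refine ⟨by simpa [hc] using h0, g, hg, fun x => ?_⟩
  rw [e, LinearMap.smul_apply, smul_smul, smul_eq_mul, mul_comm]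

theorem b34A_le {v v' : V} {D D' : Submodule F V} (hv : v ≠ 0) {g : V ≃ₗ[F] V} (hg : g ∈ H)
    (e1 : g • (F ∙ v) = F ∙ v') (e2 : g • D = D') :
    (b34A H v D).ncard ≤ (b34A H v' D').ncard := by
  rw [smul_span] at e1
  obtain ⟨c, hc⟩ : ∃ c : F, c • v' = g v :=
    Submodule.mem_span_singleton.1 (e1 ▸ Submodule.mem_span_singleton_self _)
  have hc0 : c ≠ 0 := by
    rintro rfl
    rw [zero_smul] at hc
    exact hv (g.map_eq_zero_iff.1 hc.symm)
  refine Set.ncard_le_ncard_of_injOn (fun ψ => c • (ψ ∘ₗ (g⁻¹ : V ≃ₗ[F] V))) ?_ ?_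
  · rintro ψ ⟨⟨h1, h2⟩, h3⟩
    have h4 : Tv H (g v) (ψ ∘ₗ (g⁻¹ : V ≃ₗ[F] V)) := Tv.conj_mem h1 hg
    rw [← hc] at h4
    refine ⟨⟨b34_scale h4 hc0, fun h0 => h2 ?_⟩, ?_⟩
    · ext x
      have := congrArg (fun χ : Dual F V => χ (g x)) (Set.mem_singleton_iff.1 h0)
      simpa [hc0] using this
    · rw [← e2, ← h3]
      ext x
      rw [mem_smul]
      simp [hc0]
  · intro a _ b _ hab
    ext x
    have := congrArg (fun χ : Dual F V => χ (g x)) hab
    simpa [hc0] using this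

theorem b34A_eq (h : (lin F V).B0 H) {v v' : V} {D D' : Submodule F V} (hv : v ≠ 0) (hv' : v' ≠ 0)
    (hD : (lin F V).ck D = 1) (hD' : (lin F V).ck D' = 1) (m : v ∈ D) (m' : v' ∈ D') :
    (b34A H v D).ncard = (b34A H v' D').ncard := by
  have key : ∀ {v v' : V} {D D' : Submodule F V}, v ≠ 0 → v' ≠ 0 → (lin F V).ck D = 1 →
      (lin F V).ck D' = 1 → v ∈ D → v' ∈ D' → (b34A H v D).ncard ≤ (b34A H v' D').ncard := by
    intro v v' D D' hv hv' hD hD' m m'
    obtain ⟨g, hg, e1, e2⟩ := h.tr_flag (rk_span hv) hD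
      ((Submodule.span_singleton_le_iff_mem _ _).2 m) (rk_span hv') hD'
      ((Submodule.span_singleton_le_iff_mem _ _).2 m')
    exact b34A_le hv hg e1 e2
  exact le_antisymm (key hv hv' hD hD' m m') (key hv' hv hD' hD m' m)

theorem b34_pow (A : AddSubgroup (Dual F V)) : ∃ j, Nat.card A = (lin F V).p ^ j := by
  have h1 := AddSubgroup.card_addSubgroup_dvd_card A
  obtain ⟨j, hj⟩ := (lin F V).exists_pow (finrank F (Dual F V))
  rw [Module.natCard_eq_pow_finrank (K := F) (V := Dual F V), ← lin_q (F := F) (V := V), hj] at h1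
  obtain ⟨i, -, hi⟩ := (Nat.dvd_prime_pow (lin F V).pp).1 h1
  exact ⟨i, hi⟩

theorem b34_arith {p e i j m a : ℕ} (hp : p.Prime) (ha : 0 < a) (hm : 0 < m) (h1 : a + 1 = p ^ i)
    (h2 : (1 + p ^ e * m) * a + 1 = p ^ j) : e ≤ i := by
  by_contra hlt
  push Not at hlt
  obtain ⟨d, rfl⟩ : ∃ d, e = i + (d + 1) := ⟨e - i - 1, by omega⟩
  have h3 : p ^ j = p ^ i * (1 + p * (p ^ d * m * a)) := by rw [← h2, ← h1, pow_add, ← h1]; ring
  have h4 : (1 + p * (p ^ d * m * a)) ∣ p ^ j := ⟨p ^ i, by rw [h3]; ring⟩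
  obtain ⟨k, -, hk⟩ := (Nat.dvd_prime_pow hp).1 h4
  have hpos : 0 < p * (p ^ d * m * a) := by have := hp.pos; positivity
  rcases k with _ | k
  · rw [pow_zero] at hk; omega
  · have h5 : p ∣ 1 + p * (p ^ d * m * a) := by rw [hk]; exact dvd_pow_self p (by omega)
    exact hp.one_lt.ne' (Nat.dvd_one.1 ((Nat.dvd_add_left (dvd_mul_right _ _)).1 h5))

omit [Finite F] [Finite V] in
theorem b34_ker_iff {φ ψ : Dual F V} (hφ : φ ≠ 0) (hψ : ψ ≠ 0) :
    LinearMap.ker ψ = LinearMap.ker φ ↔ ψ ∈ (F ∙ φ) := by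
  constructor
  · intro e
    obtain ⟨u, hu⟩ : ∃ u, φ u ≠ 0 := by
      by_contra hn; push Not at hn; exact hφ (LinearMap.ext hn)
    refine Submodule.mem_span_singleton.2 ⟨ψ u / φ u, LinearMap.ext fun x => ?_⟩
    have : x - (φ x / φ u) • u ∈ LinearMap.ker ψ := by
      rw [e, LinearMap.mem_ker, map_sub, map_smul, smul_eq_mul, div_mul_cancel₀ _ hu, sub_self]
    rw [LinearMap.mem_ker, map_sub, map_smul, smul_eq_mul, sub_eq_zero] at this
    rw [LinearMap.smul_apply, smul_eq_mul, this]; ring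
  · intro e
    obtain ⟨c, rfl⟩ := Submodule.mem_span_singleton.1 e
    exact LinearMap.ker_smul _ _ (by rintro rfl; simp at hψ)

/-- (B3) -/
theorem trv_of_hasT (h : (lin F V).B0 H) (ht : HasT H) : Trv H := by
  intro v φ h0
  by_cases hv : v = 0
  · rw [hv]; exact Tv.zl H φ
  by_cases hφ : φ = 0
  · rw [hφ]; exact Tv.zr H v
  obtain ⟨v0, φ0, hv0, hφ0, t0⟩ := ht
  set a := (b34A H v (LinearMap.ker φ)).ncard with ha
  have hapos : 0 < a := by
    rw [ha, b34A_eq h hv hv0 (ck_ker hφ) (ck_ker hφ0) h0 t0.1]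
    exact (Set.ncard_pos (Set.toFinite _)).2 ⟨φ0, ⟨t0, hφ0⟩, rfl⟩
  -- the count
  have hcount := dc_eq ((b34Q H v : Set (Dual F V)) \ {0}) {D | (lin F V).Hy (F ∙ v) ⊤ D}
    (fun ψ D => LinearMap.ker ψ = D) (m := 1) (k := a) (by
      rintro ψ ⟨h1, h2⟩
      rw [Set.ncard_eq_one]
      refine ⟨LinearMap.ker ψ, Set.ext fun D => ⟨fun hD => hD.2.symm, ?_⟩⟩
      rintro rfl
      exact ⟨(lin F V).hy_top.2 ⟨(Submodule.span_singleton_le_iff_mem _ _).2 h1.1, ck_ker h2⟩, rfl⟩)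
    (by
      intro D hD
      obtain ⟨h1, h2⟩ := (lin F V).hy_top.1 hD
      exact b34A_eq h hv hv h2 (ck_ker hφ) ((Submodule.span_singleton_le_iff_mem _ _).1 h1) h0)
  rw [(lin F V).ncard_hy le_top, (lin F V).d_top, mul_one] at hcount
  have hn := h.three
  have hck : (lin F V).ck (F ∙ v) = ((lin F V).n - 2) + 1 := by
    have := (lin F V).rk_add_ck (F ∙ v)
    rw [rk_span hv] at this; omega
  obtain ⟨e, he⟩ := (lin F V).qp
  rw [hck, PG.θ_succ', he] at hcount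
  obtain ⟨j, hj⟩ := b34_pow (b34Q H v)
  have hQ : ((b34Q H v : Set (Dual F V)) \ {0}).ncard + 1 = Nat.card (b34Q H v) :=
    Set.ncard_sdiff_singleton_add_one (b34Q H v).zero_mem
  obtain ⟨i, hi⟩ := b34_pow (b34Q H v ⊓ (F ∙ φ).toAddSubgroup)
  have hT : a + 1 = Nat.card ↥(b34Q H v ⊓ (F ∙ φ).toAddSubgroup) := by
    have : b34A H v (LinearMap.ker φ) =
        ((b34Q H v ⊓ (F ∙ φ).toAddSubgroup : AddSubgroup _) : Set (Dual F V)) \ {0} := by
      ext ψ
      exact ⟨fun ⟨⟨h1, h2⟩, h3⟩ => ⟨⟨h1, (b34_ker_iff hφ h2).1 h3⟩, h2⟩,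
        fun ⟨⟨h1, h3⟩, h2⟩ => ⟨⟨h1, h2⟩, (b34_ker_iff hφ h2).2 h3⟩⟩
    rw [ha, this]
    exact Set.ncard_sdiff_singleton_add_one (AddSubgroup.zero_mem _)
  have hle : e + 1 ≤ i := b34_arith (lin F V).pp hapos ((lin F V).θ_pos (k := (lin F V).n - 2)
    (by omega)) (hT.trans hi) (j := j) (by rw [← hcount, hQ, hj])
  have hcard : Nat.card (F ∙ φ).toAddSubgroup = (lin F V).p ^ (e + 1) := by
    rw [← he, lin_q]
    show Nat.card (F ∙ φ) = _
    rw [Module.natCard_eq_pow_finrank (K := F), finrank_span_singleton hφ, pow_one]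
  have heq : b34Q H v ⊓ (F ∙ φ).toAddSubgroup = (F ∙ φ).toAddSubgroup :=
    AddSubgroup.eq_of_le_of_card_ge inf_le_right
      (by rw [hcard, hi]; exact Nat.pow_le_pow_right (lin F V).pp.pos hle)
  have : φ ∈ b34Q H v ⊓ (F ∙ φ).toAddSubgroup := by
    rw [heq]; exact Submodule.mem_span_singleton_self φ
  exact this.1

/-- (B4) -/
theorem hasT_three (h : (lin F V).B0 H) (h3 : finrank F V = 3) : HasT H := by
  have hn : (lin F V).n = 3 := by rw [lin_n, h3]
  obtain ⟨x, -, -, hx⟩ := (lin F V).exists_rk (a := ⊥) (b := ⊤) le_top (k := 1)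
    (by rw [PG.rk_bot]; omega) (by rw [PG.rk_top]; omega)
  obtain ⟨D, hxD, -, hD⟩ := (lin F V).exists_ck (a := x) (b := ⊤) le_top (k := 1)
    (by rw [PG.ck_top]; omega) (by have := (lin F V).rk_add_ck x; omega)
  have hD2 : (lin F V).rk D = 2 := by have := (lin F V).rk_add_ck D; omega
  obtain ⟨S, hS, fx, fD⟩ := h.exists_syl hx hD hxD
  obtain ⟨e1, he1, rfl⟩ := exists_of_rk hx
  obtain ⟨φ, hφ, rfl⟩ := exists_of_ck hD
  obtain ⟨u, hu⟩ : ∃ u, φ u ≠ 0 := by
    by_contra hn; push Not at hn; exact hφ (LinearMap.ext hn)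
  have h1 : φ e1 = 0 := (Submodule.span_singleton_le_iff_mem _ _).1 hxD
  have hu' : φ (u + e1) ≠ 0 := by rwa [map_add, h1, add_zero]
  obtain ⟨g, hg, e⟩ := h.syl_tr hS hD fD (F ∙ u)
    ⟨rk_span (by rintro rfl; simp at hu), by rwa [Submodule.span_singleton_le_iff_mem]⟩
    (F ∙ (u + e1)) ⟨rk_span (fun h0 => hu' (by rw [h0, map_zero])),
      by rwa [Submodule.span_singleton_le_iff_mem]⟩
  obtain ⟨k, hk⟩ := hS.pgroup ⟨g, hg⟩
  have hk' : g ^ ringChar F ^ k = 1 := congrArg Subtype.val hk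
  have gx := fx g hg
  have gD := fD g hg
  -- `g u = u + e1`
  have gu : g u = u + e1 := by
    rw [smul_span] at e
    obtain ⟨c, hc⟩ : ∃ c : F, c • (u + e1) = g u :=
      Submodule.mem_span_singleton.1 (e ▸ Submodule.mem_span_singleton_self _)
    have : c = 1 := eig_one gD (v := u) hu (by rw [← hc]; simp [h1]) hk'
    rw [← hc, this, one_smul]
  have g1 : g e1 = e1 := by
    obtain ⟨c, hc⟩ : ∃ c : F, c • e1 = g e1 := Submodule.mem_span_singleton.1
      (apply_mem_of_smul_eq gx (Submodule.mem_span_singleton_self _))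
    have : c = 1 := eig_one ((lin F V).smul_bot g) (v := e1) he1 (by rw [← hc]; simp) hk'
    rw [← hc, this, one_smul]
  have gw : ∀ w ∈ LinearMap.ker φ, g w - w ∈ F ∙ e1 := by
    intro w hw
    by_cases hwx : w ∈ F ∙ e1
    · exact Submodule.sub_mem _ (apply_mem_of_smul_eq gx hwx) hwx
    have hs : (F ∙ e1) ⊔ (F ∙ w) = LinearMap.ker φ := (lin F V).sup_eq_of_rk hxD
      ((Submodule.span_singleton_le_iff_mem _ _).2 hw)
      (by rwa [Submodule.span_singleton_le_iff_mem]) (by omega)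
    have hm := apply_mem_of_smul_eq gD hw
    rw [← hs] at hm
    obtain ⟨y, hy, z, hz, hyz⟩ := Submodule.mem_sup.1 hm
    obtain ⟨c, rfl⟩ := Submodule.mem_span_singleton.1 hz
    have h5 : g w - c • w ∈ F ∙ e1 := by rw [← hyz]; simpa using hy
    have : c = 1 := eig_one gx hwx h5 hk'
    rwa [this, one_smul] at h5
  have gv : ∀ v, g v - v ∈ F ∙ e1 := by
    intro v
    have h5 := gw (v - (φ v / φ u) • u) (by
      rw [LinearMap.mem_ker, map_sub, map_smul, smul_eq_mul, div_mul_cancel₀ _ hu, sub_self])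
    have h6 := (F ∙ e1).add_mem h5
      ((F ∙ e1).smul_mem (φ v / φ u) (Submodule.mem_span_singleton_self e1))
    convert h6 using 1
    rw [map_sub, map_smul, gu, smul_add]; abel
  obtain ⟨χ, hχ⟩ : ∃ χ : Dual F V, χ e1 = 1 := Module.Projective.exists_dual_eq_one F he1
  refine ⟨e1, χ ∘ₗ ((g : V →ₗ[F] V) - LinearMap.id), he1, fun h0 => ?_, by simp [g1], g, hS.le hg,
    fun v => ?_⟩
  · have := congrArg (fun ψ : Dual F V => ψ u) h0
    simp [gu, hχ] at this
  · obtain ⟨c, hc⟩ := Submodule.mem_span_singleton.1 (gv v)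
    have : (χ ∘ₗ ((g : V →ₗ[F] V) - LinearMap.id)) v = c := by
      show χ (g v - v) = c
      rw [← hc, map_smul, hχ, smul_eq_mul, mul_one]
    rw [this, hc]; abel

end CfsgLib.CK
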