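import Cfsg.Agent.Lib.CK.Eig

/-!
Cameron–Kantor, package B5B: lifted transvections.
-/

set_option autoImplicit false

namespace CfsgLib.CK

open Module CfsgLib.Tech CfsgLib.TvGen

variable {F V : Type*} [Field F] [Finite F] [AddCommGroup V] [Module F V] [Finite V]

namespace B5b

omit [Finite F] in
theorem sep {U K : Submodule F V} (h : finrank F U < finrank F K) :
    ∃ v ∈ K, ∃ ψ : Dual F V, ψ v = 1 ∧ ∀ u ∈ U, ψ u = 0 := by
  have hn : ¬ K ≤ U := fun e => absurd (Submodule.finrank_mono e) (by omega)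
  obtain ⟨v, hv, hU⟩ := SetLike.not_le_iff_exists.1 hn
  obtain ⟨ψ, h1, h2⟩ := U.exists_dual_map_eq_bot_of_notMem hU inferInstance
  refine ⟨v, hv, (ψ v)⁻¹ • ψ, by simp [inv_mul_cancel₀ h1], fun u hu => ?_⟩
  have : ψ u ∈ U.map ψ := Submodule.mem_map_of_mem hu
  rw [h2, Submodule.mem_bot] at this
  simp [this]

omit [Finite F] [Finite V] in
theorem exists_coef {x : V} (hx : x ≠ 0) (f : V →ₗ[F] V) (h : ∀ v, f v ∈ F ∙ x) : ∃ β : Dual F V, ∀ v, f v = β v • x := by
  obtain ⟨ψ, e⟩ := Module.Projective.exists_dual_eq_one F hx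
  refine ⟨ψ ∘ₗ f, fun v => ?_⟩
  obtain ⟨c, hc⟩ := Submodule.mem_span_singleton.1 (h v)
  simp [← hc, e]

omit [Finite F] in
theorem rk_le (l : List V) : finrank F (Submodule.span F {v | v ∈ l}) ≤ l.length := by
  classical
  have := finrank_span_finset_le_card (R := F) l.toFinset
  rw [Set.finrank, List.coe_toFinset] at this
  exact this.trans l.toFinset_card_le

omit [Finite F] in
theorem rk_ker (φ : Dual F V) : finrank F V ≤ finrank F (LinearMap.ker φ) + 1 := by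
  by_cases h : φ = 0
  · rw [h, LinearMap.ker_zero, finrank_top]; omega
  · exact (Module.Dual.finrank_ker_add_one_of_ne_zero h).ge

omit [Finite F] in
theorem sep' (l : List V) (φ : Dual F V) (h : l.length + 2 ≤ finrank F V) :
    ∃ v, ∃ ψ : Dual F V, φ v = 0 ∧ ψ v = 1 ∧ ∀ u ∈ l, ψ u = 0 := by
  have h1 := rk_le (F := F) l
  have h2 := rk_ker φ
  obtain ⟨v, hv, ψ, e1, e2⟩ := sep (U := Submodule.span F {v | v ∈ l}) (K := LinearMap.ker φ) (by omega)
  exact ⟨v, ψ, hv, e1, fun u hu => e2 u (Submodule.subset_span hu)⟩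

/-- a lift of the transvection with centre `y` and axis `φ` -/
def Lf (H : Subgroup (V ≃ₗ[F] V)) (x y : V) (φ β : Dual F V) : Prop :=
  φ x = 0 ∧ φ y = 0 ∧ ∃ g ∈ H, ∀ v, g v = v + φ v • y + β v • x

variable {H : Subgroup (V ≃ₗ[F] V)} {x y y' : V} {φ φ' β β' γ : Dual F V}
  (hker : ∀ g ∈ H, (∀ v, g v - v ∈ F ∙ x) → g = 1)
include hker

omit [Finite F] [Finite V] in
theorem eq_of {g g' : V ≃ₗ[F] V} (hg : g ∈ H) (hg' : g' ∈ H) (e : g x = x) (h : ∀ v, ∃ c : F, g' v = g v + c • x) :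
    g' = g := by
  have e' : g⁻¹ x = x := by rw [← e, ← LinearEquiv.mul_apply, inv_mul_cancel, e]; rfl
  have := hker _ (mul_mem (inv_mem hg) hg') fun v => by
    obtain ⟨c, hc⟩ := h v
    rw [LinearEquiv.mul_apply, hc, map_add, map_smul, e', ← LinearEquiv.mul_apply, inv_mul_cancel]
    exact Submodule.mem_span_singleton.2 ⟨c, by simp⟩
  rw [inv_mul_eq_one] at this
  exact this.symm

variable (hx : x ≠ 0)
include hx

theorem Lf.x0 (h : Lf H x y φ β) : β x = 0 := by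
  obtain ⟨h1, h2, g, hg, e⟩ := h
  have k : ∀ m : ℕ, ∀ v, ∃ c : F, (g ^ m) v = v + ((m : F) * φ v) • y + c • x := fun m v => by
    induction m with
    | zero => exact ⟨0, by simp⟩
    | succ m ih =>
      obtain ⟨c, hc⟩ := ih
      refine ⟨c + β ((g ^ m) v), ?_⟩
      rw [pow_succ', LinearEquiv.mul_apply, e]
      generalize β ((g ^ m) v) = d
      rw [hc]
      simp only [map_add, map_smul, h1, h2, smul_eq_mul, mul_zero, add_zero, Nat.cast_succ]
      module
  have h3 : g ^ ringChar F ^ 1 = 1 := hker _ (pow_mem hg _) fun v => by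
    obtain ⟨c, hc⟩ := k (ringChar F ^ 1) v
    rw [hc, pow_one, ringChar.Nat.cast_ringChar]
    exact Submodule.mem_span_singleton.2 ⟨c, by simp⟩
  have h4 := eig_one (U := ⊥) (c := 1 + β x) ((lin F V).smul_bot g) (by simpa using hx)
    (by rw [e, h1, Submodule.mem_bot]; module) h3
  simpa using h4

theorem Lf.comm (h : Lf H x y φ β) (h' : Lf H x y' φ' β') (e1 : φ y' = 0) (e2 : φ' y = 0) (v : V) :
    φ' v * β y' = φ v * β' y := by
  have x1 := h.x0 hker hx
  have x2 := h'.x0 hker hx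
  obtain ⟨h1, -, g, hg, e⟩ := h
  obtain ⟨h1', -, g', hg', e'⟩ := h'
  have k : ∀ v, (g * g') v = (g' * g) v + (φ' v * β y' - φ v * β' y) • x := fun v => by
    simp only [LinearEquiv.mul_apply, e, e', map_add, map_smul, h1, h1', e1, e2, x1, x2, smul_eq_mul]
    module
  have h3 := eq_of hker (mul_mem hg' hg) (mul_mem hg hg')
    (by simp [LinearEquiv.mul_apply, e, e', h1, h1', x1, x2]) fun v => ⟨_, k v⟩
  have h4 := k v
  rw [h3, left_eq_add, smul_eq_zero, or_iff_left hx] at h4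
  exact sub_eq_zero.1 h4

theorem Lf.cmt (h : Lf H x y φ β) (h' : Lf H x y' φ' β') (h'' : Lf H x y (φ y' • φ') γ) (e2 : φ' y = 0)
    (e3 : γ y = 0) {v : V} (hv : φ v = 0) : φ' v * β y' = γ v + φ' v * γ y' := by
  have x1 := h.x0 hker hx
  have x2 := h'.x0 hker hx
  have x3 := h''.x0 hker hx
  obtain ⟨h1, -, g, hg, e⟩ := h
  obtain ⟨h1', h2', g', hg', e'⟩ := h'
  obtain ⟨-, -, g'', hg'', e''⟩ := h''
  have k : ∀ v, (g * g') v = (g'' * (g' * g)) v + (φ' v * β y' - φ v * β' y - γ v - φ' v * γ y') • x := fun v => by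
    simp only [LinearEquiv.mul_apply, e, e', e'', map_add, map_smul, h1, h1', h2', e2, e3, x1, x2, x3, smul_eq_mul,
      LinearMap.smul_apply]
    module
  have h3 := eq_of hker (mul_mem hg'' (mul_mem hg' hg)) (mul_mem hg hg')
    (by simp [LinearEquiv.mul_apply, e, e', e'', h1, h1', x1, x2, x3]) fun v => ⟨_, k v⟩
  have h4 := k v
  rw [h3, left_eq_add, smul_eq_zero, or_iff_left hx, hv] at h4
  linear_combination h4

end B5b

open B5b

theorem hasT_of_lift {H : Subgroup (V ≃ₗ[F] V)} {x : V} (hx : x ≠ 0) (h4 : 4 ≤ finrank F V)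
    (hne : ¬ (finrank F V = 4 ∧ Nat.card F = 2))
    (hker : ∀ g ∈ H, (∀ v, g v - v ∈ F ∙ x) → g = 1)
    (hl : ∀ (y : V) (φ : Dual F V), φ x = 0 → φ y = 0 →
      ∃ g ∈ H, ∀ v, g v - v - φ v • y ∈ F ∙ x) : HasT H := by
  have ex : ∀ (y : V) (φ : Dual F V), φ x = 0 → φ y = 0 → ∃ β, Lf H x y φ β := fun y φ h1 h2 => by
    obtain ⟨g, hg, e⟩ := hl y φ h1 h2
    obtain ⟨β, e'⟩ := exists_coef hx ((g : V →ₗ[F] V) - LinearMap.id - φ.smulRight y) e
    refine ⟨β, h1, h2, g, hg, fun v => ?_⟩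
    rw [← e' v]
    simp
  choose! f hf using ex
  have y0 : ∀ (y : V) (φ : Dual F V), φ x = 0 → φ y = 0 → f y φ y = 0 := fun y φ h1 h2 => by
    obtain ⟨v, ψ, e1, e2, e3⟩ := sep' [x, y] φ h4
    have := (hf y φ h1 h2).comm hker hx (hf y ψ (e3 x (by simp)) (e3 y (by simp))) h2 (e3 y (by simp)) v
    rwa [e1, e2, one_mul, zero_mul] at this
  obtain ⟨y, χ, -, y1, y2⟩ := sep' (F := F) [x] 0 (by simp; omega)
  have y2 := y2 x (by simp)
  have tv : ∀ (φ : Dual F V) (u : V), φ x = 0 → φ y = 0 → φ u ≠ 0 → (∀ w, φ w = 0 → f y φ w = 0) → HasT H := by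
    intro φ u h1 h2 h3 h5
    obtain ⟨-, -, g, hg, e⟩ := hf y φ h1 h2
    refine ⟨y + (f y φ u / φ u) • x, φ, fun l => ?_, fun l => h3 (by simp [l]), by simp [h1, h2], g, hg, fun v => ?_⟩
    · simpa [y1, y2] using congrArg χ l
    · have h6 := h5 (v - (φ v / φ u) • u) (by simp [div_mul_cancel₀ _ h3])
      rw [map_sub, map_smul, sub_eq_zero, smul_eq_mul] at h6
      rw [e, h6, smul_add, smul_smul, add_assoc]
      congr 3
      ring
  obtain ⟨u, ε, -, u1, u2⟩ := sep' (F := F) [x, y] 0 h4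
  have εx := u2 x (by simp)
  have εy := u2 y (by simp)
  by_cases h5 : 5 ≤ finrank F V
  · refine tv ε u εx εy (by simp [u1]) fun w hw => ?_
    obtain ⟨v, ψ, e1, e2, e3⟩ := sep' [x, y, w] ε h5
    have := (hf y ε εx εy).comm hker hx (hf w ψ (e3 x (by simp)) (e3 w (by simp))) hw (e3 y (by simp)) v
    rwa [e1, e2, one_mul, zero_mul] at this
  obtain ⟨a, a0, a1⟩ : ∃ a : F, a ≠ 0 ∧ a ≠ 1 := by
    by_contra hn
    refine hne ⟨by omega, Nat.card_eq_two_iff.2 ⟨0, 1, zero_ne_one, Set.eq_univ_of_forall fun a => ?_⟩⟩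
    by_contra l
    exact hn ⟨a, fun e => l (by simp [e]), fun e => l (by simp [e])⟩
  refine tv (a • ε) u (by simp [εx]) (by simp [εy]) (by simp [u1, a0]) fun w hw => ?_
  by_contra hb
  have εw : ε w = 0 := by simpa [a0] using hw
  have bx := (hf y (a • ε) (by simp [εx]) (by simp [εy])).x0 hker hx
  have by' := y0 y (a • ε) (by simp [εx]) (by simp [εy])
  obtain ⟨η, ηx, ηy, ηw⟩ : ∃ η : Dual F V, η x = 0 ∧ η y = 0 ∧ η w = 1 :=
    ⟨(f y (a • ε) w)⁻¹ • f y (a • ε), by simp [bx], by simp [by'], by simp [inv_mul_cancel₀ hb]⟩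
  obtain ⟨e, εe, ηe⟩ : ∃ e, ε e = 1 ∧ η e = 0 := ⟨u - η u • w, by simp [u1, εw], by simp [ηw]⟩
  have E : ∀ (α α' : Dual F V) (p p' : V), α x = 0 → α y = 0 → α' x = 0 → α' y = 0 → α p = 1 → α p' = 0 → α' p = 0 →
      α' p' = 1 → ∀ t s : F,
        s * f y (t • α) p = f y ((t * s) • α') p' + s * f y ((t * s) • α') p := by
    intro α α' p p' h1 h2 h3 h6 h7 h8 h9 h10 t s
    have e1 : (t • α) p • s • α' = (t * s) • α' := by simp [h7, smul_smul]
    have := (hf y (t • α) (by simp [h1]) (by simp [h2])).cmt hker hx (hf p (s • α') (by simp [h3]) (by simp [h9]))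
      (e1 ▸ hf y ((t * s) • α') (by simp [h3]) (by simp [h6])) (by simp [h6])
      (y0 y _ (by simp [h3]) (by simp [h6])) (v := p') (by simp [h8])
    rw [e1] at this
    simpa [h10] using this
  have E1 := E η ε w e ηx ηy εx εy ηw ηe εw εe
  have E2 := E ε η e w εx εy ηx ηy εe εw ηe ηw
  have e1 := E1 a 1
  have e2 := E1 (a * a) 1
  have e3 := E2 (a * a) 1
  have e4 := E1 a a
  have e5 := E2 a a
  have e6 := E1 1 a
  have e7 := E1 1 (a * a)
  simp only [mul_one, one_mul] at e1 e2 e3 e6 e7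
  have : a * (1 - a) ^ 2 * f y (a • ε) w = 0 := by
    linear_combination a * (1 - a) * (e4 - e5 - a * e1 - (1 - a) * e2 + a * e3) +
      (2 * a - 1) * (e7 - a * e6 - e4 + a * e1)
  simp [a0, hb, sub_eq_zero, a1.symm] at this

end CfsgLib.CK
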