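import Cfsg.Agent.Lib.CK.LDefs

/-!
Cameron–Kantor, package SIM: transfer along quotient, subspace, dual, isomorphism.
-/

set_option autoImplicit false

namespace CfsgLib.CK

open Module CfsgLib.Tech CfsgLib.TvGen

variable {F V : Type*} [Field F] [Finite F] [AddCommGroup V] [Module F V] [Finite V]

section Gen
variable {G L G' L' : Type*} [Group G] [CompleteLattice L] [MulAction G L] [Group G']
  [CompleteLattice L'] [MulAction G' L'] {P : PG G L} {P' : PG G' L'} {Y : Subgroup G}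
  {Y' : Subgroup G'} {o t : L} {f : L' → L}

theorem Sim.n_eq (s : Sim P P' Y Y' o t f) : P'.n = P.d o t := by
  rw [← s.bot, ← s.top, s.d _ _ bot_le]; rfl

theorem Sim.rk_eq (s : Sim P P' Y Y' o t f) (a : L') : P'.rk a = P.d o (f a) := by
  rw [← s.bot, s.d _ _ bot_le]; rfl

theorem Sim.inj (s : Sim P P' Y Y' o t f) {a b : L'} (h : f a = f b) : a = b :=
  le_antisymm ((s.le_iff _ _).1 h.le) ((s.le_iff _ _).1 h.ge)

theorem Sim.pt_iff (s : Sim P P' Y Y' o t f) {a b e : L'} :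
    P.Pt (f a) (f b) (f e) ↔ P'.Pt a b e := by
  simp only [PG.Pt, s.le_iff]
  exact and_congr_right fun h => by rw [s.d _ _ h]

theorem Sim.hy_iff (s : Sim P P' Y Y' o t f) {a b e : L'} :
    P.Hy (f a) (f b) (f e) ↔ P'.Hy a b e := by
  simp only [PG.Hy, s.le_iff]
  exact and_congr_right fun h => by rw [s.d _ _ h]

theorem Sim.two (s : Sim P P' Y Y' o t f) (h : P.Two Y o t) : P'.Two Y' ⊥ ⊤ := by
  refine ⟨bot_le, P'.fx_bot _, P'.fx_top _, fun a b a' b' ha hb hab ha' hb' hab' => ?_⟩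
  rw [← s.pt_iff, s.bot, s.top] at ha hb ha' hb'
  obtain ⟨g, hg, h1, h2⟩ := h.tr _ _ _ _ ha hb (fun e => hab (s.inj e)) ha' hb'
    (fun e => hab' (s.inj e))
  obtain ⟨k, hk, e⟩ := s.down g hg
  exact ⟨k, hk, s.inj (by rw [e, h1]), s.inj (by rw [e, h2])⟩

theorem Sim.two_x (s : Sim P P' Y Y' o t f) {x : L'} (h : P.Two (Stab Y (f x)) (f x) t) :
    P'.Two (Stab Y' x) x ⊤ := by
  refine ⟨le_top, fx_Stab _ _, P'.fx_top _, fun a b a' b' ha hb hab ha' hb' hab' => ?_⟩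
  rw [← s.pt_iff, s.top] at ha hb ha' hb'
  obtain ⟨g, hg, h1, h2⟩ := h.tr _ _ _ _ ha hb (fun e => hab (s.inj e)) ha' hb'
    (fun e => hab' (s.inj e))
  obtain ⟨k, hk, e⟩ := s.down g hg.1
  exact ⟨k, ⟨hk, s.inj (by rw [e]; exact hg.2)⟩, s.inj (by rw [e, h1]), s.inj (by rw [e, h2])⟩

theorem Sim.one (s : Sim P P' Y Y' o t f) (h : P.One Y o t) : P'.One Y' ⊥ ⊤ := by
  obtain ⟨x, H, l, hx, hH, hl, hf⟩ := h
  obtain ⟨x, rfl⟩ := s.range x hx.1 hx.2.1
  obtain ⟨H, rfl⟩ := s.range H hH.2.1 hH.1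
  obtain ⟨l, rfl⟩ := s.range l (hx.1.trans hl.1) (hl.2.1.trans hH.1)
  rw [← s.bot, ← s.top] at hx hH
  refine ⟨x, H, l, s.pt_iff.1 hx, s.hy_iff.1 hH, s.pt_iff.1 hl, fun k hk h1 h2 => ?_⟩
  obtain ⟨g, hg, e⟩ := s.up k hk
  exact s.inj (by rw [e]; exact hf g hg (by rw [← e, h1]) (by rw [← e, h2]))

end Gen

omit [Finite F] [Finite V] in
theorem exists_hom {V' : Type*} [AddCommGroup V'] [Module F V'] (Y : Subgroup (V ≃ₗ[F] V))
    (m : Y → V' →ₗ[F] V') (h1 : m 1 = LinearMap.id) (hm : ∀ a b, m (a * b) = m a ∘ₗ m b) :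
    ∃ φ : Y →* (V' ≃ₗ[F] V'), ∀ g v, φ g v = m g v := by
  refine ⟨MonoidHom.mk' (fun g => LinearEquiv.ofLinearMap (m g) (m g⁻¹)
    (by rw [← hm, mul_inv_cancel, h1]) (by rw [← hm, inv_mul_cancel, h1])) fun a b => ?_,
    fun _ _ => rfl⟩
  ext v
  exact LinearMap.congr_fun (hm a b) v

omit [Finite F] [Finite V] in
theorem sim_range {L : Type*} [MulAction (V ≃ₗ[F] V) L] {V' : Type*} [AddCommGroup V'] [Module F V']
    {Y : Subgroup (V ≃ₗ[F] V)} {φ : Y →* (V' ≃ₗ[F] V')} {f : Submodule F V' → L}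
    (h : ∀ (g : Y) a, f (φ g • a) = g.1 • f a) :
    (∀ k ∈ φ.range, ∃ g ∈ Y, ∀ a, f (k • a) = g • f a) ∧
      ∀ g ∈ Y, ∃ k ∈ φ.range, ∀ a, f (k • a) = g • f a :=
  ⟨fun _ ⟨g, e⟩ => ⟨g.1, g.2, e ▸ h g⟩, fun g hg => ⟨φ ⟨g, hg⟩, ⟨_, rfl⟩, h ⟨g, hg⟩⟩⟩

theorem exists_quo (x : Submodule F V) (Y : Subgroup (V ≃ₗ[F] V)) (hY : Fx Y x) :
    ∃ φ : Y →* ((V ⧸ x) ≃ₗ[F] (V ⧸ x)), (∀ (g : Y) (v : V), φ g (x.mkQ v) = x.mkQ (g.1 v)) ∧
      Sim (lin F V) (lin F (V ⧸ x)) Y φ.range x ⊤ (Submodule.comap x.mkQ) := by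
  obtain ⟨φ, hφ⟩ := exists_hom Y (fun g => x.mapQ x (g.1 : V →ₗ[F] V)
    fun v hv => apply_mem_of_smul_eq (hY g.1 g.2) hv)
    (by ext v; rfl) (fun a b => by ext v; rfl)
  have hφ' : ∀ (g : Y) (v : V), φ g (x.mkQ v) = x.mkQ (g.1 v) := fun g v => hφ g _
  have key : ∀ (g : Y) a, Submodule.comap x.mkQ (φ g • a) = g.1 • Submodule.comap x.mkQ a := by
    intro g a
    ext v
    obtain ⟨w, rfl⟩ := g.1.surjective v
    rw [Submodule.mem_comap, ← hφ', apply_mem_smul, apply_mem_smul, Submodule.mem_comap]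
  have hr : ∀ a : Submodule F (V ⧸ x), finrank F (a.comap x.mkQ) = finrank F a + finrank F x := by
    intro a
    have h1 := LinearMap.finrank_range_add_finrank_ker (x.mkQ.comp (a.comap x.mkQ).subtype)
    rw [LinearMap.range_comp, Submodule.range_subtype, LinearMap.ker_comp, Submodule.ker_mkQ,
      (Submodule.comapSubtypeEquivOfLe (x.le_comap_mkQ a)).finrank_eq,
      Submodule.map_comap_eq_of_surjective x.mkQ_surjective] at h1
    omega
  refine ⟨φ, hφ', fun a b => Submodule.comap_le_comap_iff_of_surjective x.mkQ_surjective,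
    fun u hu _ => ⟨u.map x.mkQ, by rw [Submodule.comap_map_mkQ, sup_eq_right.2 hu]⟩,
    by rw [Submodule.comap_bot, Submodule.ker_mkQ], Submodule.comap_top _, fun a b _ => ?_,
    (sim_range key).1, (sim_range key).2⟩
  rw [lin_d, lin_d, hr, hr]; omega

theorem exists_sub (t : Submodule F V) (Y : Subgroup (V ≃ₗ[F] V)) (hY : Fx Y t) :
    ∃ φ : Y →* (t ≃ₗ[F] t), (∀ (g : Y) (v : t), (φ g v : V) = g.1 v) ∧
      Sim (lin F V) (lin F t) Y φ.range ⊥ t (Submodule.map t.subtype) := by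
  obtain ⟨φ, hφ⟩ := exists_hom Y (fun g => (g.1 : V →ₗ[F] V).restrict (p := t) (q := t)
    fun v hv => apply_mem_of_smul_eq (hY g.1 g.2) hv)
    (by ext v; rfl) (fun a b => by ext v; rfl)
  have hφ' : ∀ (g : Y) (v : t), (φ g v : V) = g.1 v := fun g v => by rw [hφ]; rfl
  have key : ∀ (g : Y) a, Submodule.map t.subtype (φ g • a) = g.1 • Submodule.map t.subtype a := by
    intro g a
    rw [smul_def, smul_def, ← Submodule.map_comp, ← Submodule.map_comp]
    congr 1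
    ext v
    exact hφ' g v
  refine ⟨φ, hφ', fun a b => Submodule.map_le_map_iff_of_injective t.injective_subtype a b,
    fun u _ hu => ⟨u.comap t.subtype, by rw [Submodule.map_comap_subtype, inf_eq_right.2 hu]⟩,
    Submodule.map_bot _, Submodule.map_subtype_top _, fun a b _ => ?_,
    (sim_range key).1, (sim_range key).2⟩
  rw [lin_d, lin_d, Submodule.finrank_map_subtype_eq, Submodule.finrank_map_subtype_eq]

omit [Finite F] [Finite V] in
theorem dual_key {Y : Subgroup (V ≃ₗ[F] V)} {φ : Y →* (Dual F V ≃ₗ[F] Dual F V)}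
    (hφ' : ∀ (g : Y) (ψ : Dual F V) (v : V), φ g ψ (g.1 v) = ψ v) (g : Y)
    (a : Submodule F (Dual F V)) : (φ g • a).dualCoannihilator = g.1 • a.dualCoannihilator := by
  ext v
  obtain ⟨w, rfl⟩ := g.1.surjective v
  rw [apply_mem_smul, Submodule.mem_dualCoannihilator, Submodule.mem_dualCoannihilator]
  constructor
  · intro h ψ hψ
    rw [← hφ' g]; exact h _ (apply_mem_smul.2 hψ)
  · rintro h _ ⟨ψ, hψ, rfl⟩
    exact (hφ' g ψ w).trans (h ψ hψ)

theorem sim_dual {Y : Subgroup (V ≃ₗ[F] V)} {φ : Y →* (Dual F V ≃ₗ[F] Dual F V)}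
    (hφ' : ∀ (g : Y) (ψ : Dual F V) (v : V), φ g ψ (g.1 v) = ψ v) :
    Sim (lin F V).dual (lin F (Dual F V)) Y φ.range (⊤ : Submodule F V) (⊥ : Submodule F V)
      (fun A => OrderDual.toDual A.dualCoannihilator) where
  le_iff a b := by
    have hd : ∀ a : Submodule F (Dual F V), a.dualCoannihilator.dualAnnihilator = a :=
      fun a => Subspace.dualCoannihilator_dualAnnihilator_eq
    show b.dualCoannihilator ≤ a.dualCoannihilator ↔ a ≤ b
    rw [← Subspace.dualAnnihilator_le_dualAnnihilator_iff, hd, hd]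
  range u _ _ := ⟨(OrderDual.ofDual u).dualAnnihilator,
    congrArg OrderDual.toDual Subspace.dualAnnihilator_dualCoannihilator_eq⟩
  bot := congrArg OrderDual.toDual Submodule.dualCoannihilator_bot
  top := congrArg OrderDual.toDual Submodule.dualCoannihilator_top
  d a b hab := by
    have hr : ∀ a : Submodule F (Dual F V),
        finrank F a + finrank F a.dualCoannihilator = finrank F V :=
      fun a => Subspace.finrank_add_finrank_dualCoannihilator_eq a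
    show finrank F a.dualCoannihilator - finrank F b.dualCoannihilator = finrank F b - finrank F a
    have := hr a; have := hr b; have := Submodule.finrank_mono hab; omega
  up := by
    rintro _ ⟨g, rfl⟩
    exact ⟨g.1, g.2, fun a => congrArg OrderDual.toDual (dual_key hφ' g a)⟩
  down g hg := ⟨φ ⟨g, hg⟩, ⟨_, rfl⟩, fun a => congrArg OrderDual.toDual (dual_key hφ' ⟨g, hg⟩ a)⟩

theorem exists_dual (Y : Subgroup (V ≃ₗ[F] V)) :
    ∃ φ : Y →* (Dual F V ≃ₗ[F] Dual F V), Function.Injective φ ∧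
      (∀ (g : Y) (ψ : Dual F V) (v : V), φ g ψ (g.1 v) = ψ v) ∧
      Sim (lin F V).dual (lin F (Dual F V)) Y φ.range (⊤ : Submodule F V) (⊥ : Submodule F V)
        (fun A => OrderDual.toDual A.dualCoannihilator) := by
  obtain ⟨φ, hφ⟩ := exists_hom Y (fun g => (g.1.symm : V →ₗ[F] V).dualMap)
    (by ext v; rfl) (fun a b => by ext v; rfl)
  have hφ' : ∀ (g : Y) (ψ : Dual F V) (v : V), φ g ψ (g.1 v) = ψ v := fun g ψ v => by
    rw [hφ]; simp
  refine ⟨φ, (injective_iff_map_eq_one φ).2 fun g hg => ?_, hφ', sim_dual hφ'⟩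
  ext v
  have : ∀ ψ : Dual F V, ψ (g.1 v - v) = 0 := fun ψ => by
    have := hφ' g ψ v
    rw [hg] at this
    rw [map_sub]; exact sub_eq_zero.2 this
  exact sub_eq_zero.1 ((Module.forall_dual_apply_eq_zero_iff F _).1 this)

omit [Finite F] in
theorem trv_of_dual {Y : Subgroup (V ≃ₗ[F] V)} {φ : Y →* (Dual F V ≃ₗ[F] Dual F V)}
    (hφ : ∀ (g : Y) (ψ : Dual F V) (v : V), φ g ψ (g.1 v) = ψ v) (h : Trv φ.range) : Trv Y := by
  intro x ψ h0
  obtain ⟨-, _, ⟨g, rfl⟩, hg⟩ := h (-ψ) (Module.Dual.eval F V x) (by simp [h0])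
  refine ⟨h0, g.1, g.2, fun v => ?_⟩
  have h1 : ∀ χ : Dual F V, ∀ w, φ g χ w = χ w - χ x * ψ w := fun χ w => by
    rw [hg]; simp [sub_eq_add_neg]
  have h2 : ψ (g.1 v) = ψ v := by rw [← hφ g ψ v, h1, h0]; simp
  rw [← sub_eq_zero]
  refine (Module.forall_dual_apply_eq_zero_iff F _).1 fun χ => ?_
  have := hφ g χ v
  rw [h1, h2] at this
  rw [map_sub, map_add, map_smul, smul_eq_mul, ← this]; ring

theorem exists_congr {V' : Type*} [AddCommGroup V'] [Module F V'] [Finite V'] (e : V ≃ₗ[F] V')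
    (Y : Subgroup (V ≃ₗ[F] V)) :
    ∃ φ : Y →* (V' ≃ₗ[F] V'), Function.Injective φ ∧ (∀ (g : Y) (v : V), φ g (e v) = e (g.1 v)) ∧
      Sim (lin F V) (lin F V') Y φ.range ⊥ ⊤ (Submodule.comap (e : V →ₗ[F] V')) := by
  obtain ⟨φ, hφ⟩ := exists_hom Y (fun g => (e : V →ₗ[F] V') ∘ₗ (g.1 : V →ₗ[F] V) ∘ₗ
    (e.symm : V' →ₗ[F] V)) (by ext v; simp) (fun a b => by ext v; simp)
  have hφ' : ∀ (g : Y) (v : V), φ g (e v) = e (g.1 v) := fun g v => by rw [hφ]; simp
  have key : ∀ (g : Y) a, Submodule.comap (e : V →ₗ[F] V') (φ g • a) =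
      g.1 • Submodule.comap (e : V →ₗ[F] V') a := by
    intro g a
    ext v
    obtain ⟨w, rfl⟩ := g.1.surjective v
    rw [Submodule.mem_comap, LinearEquiv.coe_coe, ← hφ', apply_mem_smul, apply_mem_smul]
    rfl
  have hr : ∀ a : Submodule F V', finrank F (a.comap (e : V →ₗ[F] V')) = finrank F a := fun a => by
    rw [Submodule.comap_equiv_eq_map_symm, LinearEquiv.finrank_map_eq]
  refine ⟨φ, (injective_iff_map_eq_one φ).2 fun g hg => ?_, hφ',
    fun a b => Submodule.comap_le_comap_iff_of_surjective e.surjective,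
    fun u _ _ => ⟨u.map (e : V →ₗ[F] V'), Submodule.comap_map_eq_of_injective e.injective u⟩,
    by rw [Submodule.comap_bot, LinearEquiv.ker], Submodule.comap_top _, fun a b _ => ?_,
    (sim_range key).1, (sim_range key).2⟩
  · ext v
    have := hφ' g v
    rw [hg] at this
    exact (e.injective this).symm
  · rw [lin_d, lin_d, hr, hr]

omit [Finite F] [Finite V] in
theorem trv_of_congr {V' : Type*} [AddCommGroup V'] [Module F V'] [Finite V'] {e : V ≃ₗ[F] V'}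
    {Y : Subgroup (V ≃ₗ[F] V)} {φ : Y →* (V' ≃ₗ[F] V')}
    (hφ : ∀ (g : Y) (v : V), φ g (e v) = e (g.1 v)) (h : Trv φ.range) : Trv Y := by
  intro x ψ h0
  obtain ⟨-, _, ⟨g, rfl⟩, hg⟩ := h (e x) (ψ ∘ₗ (e.symm : V' →ₗ[F] V)) (by simp [h0])
  refine ⟨h0, g.1, g.2, fun v => e.injective ?_⟩
  rw [← hφ, hg]; simp

end CfsgLib.CK
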