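import Cfsg.Agent.Lib.CK.B12
import Cfsg.Agent.Lib.CK.B5b
import Cfsg.Agent.Lib.CK.SimL
import Cfsg.Agent.Lib.Forms.Stab

/-!
Cameron–Kantor, package B5A: the case `c = n - 2`.
-/

set_option autoImplicit false

namespace CfsgLib.CK

open Module CfsgLib.Tech CfsgLib.TvGen

variable {F V : Type*} [Field F] [Finite F] [AddCommGroup V] [Module F V] [Finite V]

variable {H : Subgroup (V ≃ₗ[F] V)}

omit [Finite F] [Finite V] in
theorem b5a_fix (hn : ¬ HasT H) {x : V} (hx : x ≠ 0) {g : V ≃ₗ[F] V} (hg : g ∈ H) (h1 : ∀ v, g v - v ∈ F ∙ x)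
    (h2 : g x = x) : g = 1 := by
  obtain ⟨φ, e⟩ := B5b.exists_coef hx ((g : V →ₗ[F] V) - LinearMap.id) h1
  have e' : ∀ v, g v = v + φ v • x := fun v => by rw [← e v]; simp
  have h3 : φ x = 0 := by simpa [h2, hx] using e' x
  have h4 : φ = 0 := by_contra fun h4 => hn ⟨x, φ, hx, h4, h3, g, hg, e'⟩
  ext v
  simp [e', h4]

theorem b5a_tr (h : (lin F V).B0 H) {x : Submodule F V} (hx : (lin F V).rk x = 1) :
    Tr (Stab H x) {D | (lin F V).Hy ⊥ ⊤ D ∧ ¬ x ≤ D} := fun D hD D' hD' =>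
  let ⟨g, hg, e1, e2⟩ := h.at.tr x D x D' ((lin F V).pt_bot_top.2 hx) hD.1 hD.2 ((lin F V).pt_bot_top.2 hx) hD'.1 hD'.2
  ⟨g, ⟨hg, e1⟩, e2⟩

theorem ker_triv (h : (lin F V).B0 H) (hn : ¬ HasT H) {x : V} (hx : x ≠ 0) {g : V ≃ₗ[F] V}
    (hg : g ∈ H) (h1 : ∀ v, g v - v ∈ F ∙ x) : g = 1 := by
  obtain ⟨φ, e⟩ := B5b.exists_coef hx ((g : V →ₗ[F] V) - LinearMap.id) h1
  have e' : ∀ v, g v = v + φ v • x := fun v => by rw [← e v]; simp
  by_cases h2 : φ x = 0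
  · exact b5a_fix hn hx hg h1 (by simp [e', h2])
  exfalso
  have h3 : φ ≠ 0 := fun l => h2 (by simp [l])
  have hD := ck_ker h3
  have n3 := h.three
  have r1 := rk_span (F := F) hx
  have r2 := (lin F V).rk_add_ck (LinearMap.ker φ)
  obtain ⟨D, d1, d2, d3⟩ := (lin F V).exists_hy_two (o := ⊥) (t := ⊤) (U := F ∙ x) (U' := LinearMap.ker φ) le_top
    ((lin F V).lt_of_rk_lt bot_le (by rw [PG.rk_bot]; omega)) le_top
    ((lin F V).lt_of_rk_lt bot_le (by rw [PG.rk_bot]; omega))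
  obtain ⟨k, ⟨hk, k1⟩, k2⟩ := b5a_tr h r1 D ⟨d1, d2⟩ (LinearMap.ker φ) ⟨(lin F V).hy_bot_top.2 hD, fun l =>
    h2 (l (Submodule.mem_span_singleton_self x))⟩
  have k1 : k • (F ∙ x) = F ∙ x := k1
  obtain ⟨c, hc⟩ := Submodule.mem_span_singleton.1 (apply_mem_of_smul_eq k1 (Submodule.mem_span_singleton_self x))
  have m : ∀ {a : V ≃ₗ[F] V}, a • (F ∙ x) = F ∙ x → ∀ {v}, v ∈ F ∙ x → a⁻¹ v ∈ F ∙ x := fun ha v hv =>
    apply_mem_of_smul_eq (inv_smul_eq_iff.2 ha.symm) hv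
  have g1 : g • (F ∙ x) = F ∙ x := smul_eq_of_le fun v hv => by
    simpa using add_mem (h1 v) hv
  have c1 : ∀ a b : V ≃ₗ[F] V, ∀ v, a⁻¹ (a v) = v := fun a b v => by
    rw [← LinearEquiv.mul_apply, inv_mul_cancel]; rfl
  have h4 := b5a_fix hn hx (mul_mem (inv_mem (mul_mem hg hk)) (mul_mem hk hg)) (fun v => by
    have e1 : ((g * k)⁻¹ * (k * g)) v - v = (g * k)⁻¹ (k (g v - v) - (g (k v) - k v)) := by
      rw [LinearEquiv.mul_apply, LinearEquiv.mul_apply, map_sub k, sub_sub_sub_cancel_right, map_sub,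
        ← LinearEquiv.mul_apply g k, c1 _ 1]
    rw [e1]
    exact m (by rw [mul_smul, k1, g1]) (sub_mem (apply_mem_of_smul_eq k1 (h1 v)) (h1 _))) (by
    have e1 : (k * g) x = (g * k) x := by
      simp only [LinearEquiv.mul_apply, e' x, map_add, map_smul, ← hc]
      module
    rw [LinearEquiv.mul_apply, e1, c1 _ 1])
  rw [inv_mul_eq_one] at h4
  refine d3 fun v hv => ?_
  rw [← apply_mem_smul (g := k), k2, LinearMap.mem_ker]
  have e1 := congrArg (fun a : V ≃ₗ[F] V => a v) h4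
  simp only [LinearEquiv.mul_apply] at e1
  rw [e' (k v), e' v, LinearMap.mem_ker.1 hv] at e1
  simpa [hx] using e1

theorem b5 (h : (lin F V).B0 H) (hn : ¬ HasT H) (h4 : 4 ≤ finrank F V) {x : V} (hx : x ≠ 0)
    (h2 : (lin F V).Two (Stab H (F ∙ x)) (F ∙ x) ⊤)
    (IH : ∀ K : Subgroup ((V ⧸ F ∙ x) ≃ₗ[F] (V ⧸ F ∙ x)), (lin F (V ⧸ F ∙ x)).Two K ⊥ ⊤ →
      Trv K ∨ Exc K) : Exc H := by
  obtain ⟨φ, e, s⟩ := exists_quo (F ∙ x) (Stab H (F ∙ x)) (fx_Stab _ _)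
  have r1 := rk_span (F := F) hx
  have inj : Function.Injective φ := (injective_iff_map_eq_one φ).2 fun g hg =>
    Subtype.ext (ker_triv h hn hx g.2.1 fun v => by
      rw [← Submodule.Quotient.eq, ← Submodule.mkQ_apply, ← e, hg]
      rfl)
  have c1 : Nat.card φ.range = Nat.card (Stab H (F ∙ x)) := (Nat.card_congr (MonoidHom.ofInjective inj).toEquiv).symm
  have rq : finrank F (V ⧸ F ∙ x) + 1 = finrank F V := by
    rw [← (F ∙ x).finrank_quotient_add_finrank, finrank_span_singleton hx]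
  by_cases hne : finrank F V = 4 ∧ Nat.card F = 2
  · refine ⟨hne.1, hne.2, fun l => ?_⟩
    have c2 := h.tr_pt.card_eq (fun g _ a ha => ((lin F V).rk_smul g a).trans ha) r1
    have c3 := (lin F V).ncard_pt (o := ⊥) (t := ⊤) le_top
    simp only [PG.pt_bot_top] at c3
    have c4 := φ.range.card_subgroup_dvd_card
    rw [Forms.card_linearEquiv (k := 3) (by omega), hne.2, c1] at c4
    rw [c2, c3, show (lin F V).d ⊥ ⊤ = 4 from lin_n.trans hne.1, PG.θ, lin_q, hne.2] at l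
    exact absurd (((show Nat.Coprime 16 (th 2 4) by decide).dvd_of_dvd_mul_right l).trans c4) (by decide)
  exfalso
  rcases IH _ (s.two h2) with t | ⟨t1, t2, t3⟩
  · refine hn (hasT_of_lift hx h4 hne (fun g hg => ker_triv h hn hx hg) fun y ψ h5 h6 => ?_)
    obtain ⟨-, _, ⟨g, rfl⟩, hg⟩ := t ((F ∙ x).mkQ y) (Submodule.liftQSpanSingleton x ψ h5) (by simpa using h6)
    refine ⟨g, g.2.1, fun v => ?_⟩
    rw [sub_sub, ← Submodule.Quotient.eq, ← Submodule.mkQ_apply, ← e, hg]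
    simp
  · have c2 := (lin F V).ncard_hy_off (o := ⊥) (U := F ∙ x) (t := ⊤) bot_le le_top
    have r2 := (lin F V).rk_add_ck (F ∙ x)
    rw [lin_n, r1] at r2
    rw [PG.d_bot, PG.d_top, r1, PG.θ_one, show (lin F V).ck (F ∙ x) = 4 by omega, lin_q, t2] at c2
    obtain ⟨D, hD⟩ := (lin F V).exists_hy_of_lt (o := ⊥) (U := F ∙ x) (t := ⊤) le_top
      ((lin F V).lt_of_rk_lt bot_le (by rw [PG.rk_bot]; omega))
    have c3 := (b5a_tr h r1).card_eq ((lin F V).inv_hy_off ((lin F V).fx_bot _) ((lin F V).fx_top _) (fx_Stab _ _)) hD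
    exact t3 (by rw [c1, c3, c2]; exact dvd_mul_left _ _)

end CfsgLib.CK
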