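import Cfsg.Agent.Lib.CK.Th

/-!
Cameron–Kantor: basic calculus in a projective lattice.
-/

set_option autoImplicit false

namespace CfsgLib.CK.PG

open CfsgLib.Tech

variable {G L : Type*} [Group G] [CompleteLattice L] [MulAction G L] (P : PG G L)

section Smul
include P

theorem smul_le_iff (g : G) {a b : L} : g • a ≤ g • b ↔ a ≤ b :=
  ⟨fun h => by simpa using P.smul_mono g⁻¹ h, P.smul_mono g⟩

theorem smul_le_iff' (g : G) {a b : L} : g • a ≤ b ↔ a ≤ g⁻¹ • b := by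
  rw [← P.smul_le_iff g⁻¹, inv_smul_smul]

theorem le_smul_iff' (g : G) {a b : L} : a ≤ g • b ↔ g⁻¹ • a ≤ b := by
  rw [← P.smul_le_iff g⁻¹, inv_smul_smul]

theorem smul_lt_iff (g : G) {a b : L} : g • a < g • b ↔ a < b := by
  simp only [lt_iff_le_not_ge, P.smul_le_iff]

/-- the order automorphism of `g` -/
def iso (g : G) : L ≃o L where
  toEquiv := MulAction.toPerm g
  map_rel_iff' := P.smul_le_iff g

theorem smul_sup (g : G) (a b : L) : g • (a ⊔ b) = g • a ⊔ g • b := (P.iso g).map_sup a b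
theorem smul_inf (g : G) (a b : L) : g • (a ⊓ b) = g • a ⊓ g • b := (P.iso g).map_inf a b
theorem smul_bot (g : G) : g • (⊥ : L) = ⊥ := (P.iso g).map_bot
theorem smul_top (g : G) : g • (⊤ : L) = ⊤ := (P.iso g).map_top

theorem fx_bot (Y : Subgroup G) : Fx Y (⊥ : L) := fun g _ => P.smul_bot g
theorem fx_top (Y : Subgroup G) : Fx Y (⊤ : L) := fun g _ => P.smul_top g

theorem smul_sSup (g : G) {S T : Set L} (h : ∀ a, a ∈ S ↔ g • a ∈ T) : g • sSup S = sSup T := by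
  apply le_antisymm
  · rw [P.smul_le_iff']
    exact sSup_le fun a ha => (P.smul_le_iff' g).1 (le_sSup ((h a).1 ha))
  · refine sSup_le fun b hb => (P.le_smul_iff' g).2 (le_sSup ((h _).2 ?_))
    rwa [smul_inv_smul]

theorem smul_sInf (g : G) {S T : Set L} (h : ∀ a, a ∈ S ↔ g • a ∈ T) : g • sInf S = sInf T :=
  P.dual.smul_sSup g h

theorem fx_sup {S : Subgroup G} {a b : L} (ha : Fx S a) (hb : Fx S b) : Fx S (a ⊔ b) :=
  fun g hg => by rw [P.smul_sup, ha g hg, hb g hg]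

theorem fx_inf {S : Subgroup G} {a b : L} (ha : Fx S a) (hb : Fx S b) : Fx S (a ⊓ b) :=
  fun g hg => by rw [P.smul_inf, ha g hg, hb g hg]

end Smul

section Rank

theorem d_self (a : L) : P.d a a = 0 := by
  have := P.d_add (le_refl a) (le_refl a); omega

theorem rk_add_d {a b : L} (h : a ≤ b) : P.rk a + P.d a b = P.rk b := (P.d_add bot_le h).symm

theorem d_add_ck {a b : L} (h : a ≤ b) : P.d a b + P.ck b = P.ck a := (P.d_add h le_top).symm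

theorem rk_add_ck (a : L) : P.rk a + P.ck a = P.n := (P.d_add bot_le le_top).symm

theorem rk_bot : P.rk ⊥ = 0 := P.d_self _
theorem ck_top : P.ck ⊤ = 0 := P.d_self _
theorem rk_top : P.rk ⊤ = P.n := rfl
theorem ck_bot : P.ck ⊥ = P.n := rfl
theorem d_bot (a : L) : P.d ⊥ a = P.rk a := rfl
theorem d_top (a : L) : P.d a ⊤ = P.ck a := rfl

theorem rk_mono {a b : L} (h : a ≤ b) : P.rk a ≤ P.rk b := by have := P.rk_add_d h; omega
theorem ck_anti {a b : L} (h : a ≤ b) : P.ck b ≤ P.ck a := by have := P.d_add_ck h; omega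
theorem rk_le_n (a : L) : P.rk a ≤ P.n := P.rk_mono le_top
theorem ck_le_n (a : L) : P.ck a ≤ P.n := P.ck_anti bot_le

theorem eq_of_rk_le {a b : L} (h : a ≤ b) (h' : P.rk b ≤ P.rk a) : a = b :=
  P.d_zero h (by have := P.rk_add_d h; omega)

theorem eq_of_ck_le {a b : L} (h : a ≤ b) (h' : P.ck a ≤ P.ck b) : a = b :=
  P.d_zero h (by have := P.d_add_ck h; omega)

theorem rk_lt {a b : L} (h : a < b) : P.rk a < P.rk b :=
  lt_of_not_ge fun h' => h.ne (P.eq_of_rk_le h.le h')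

theorem ck_lt {a b : L} (h : a < b) : P.ck b < P.ck a :=
  lt_of_not_ge fun h' => h.ne (P.eq_of_ck_le h.le h')

theorem lt_of_rk_lt {a b : L} (h : a ≤ b) (h' : P.rk a < P.rk b) : a < b :=
  lt_of_le_of_ne h fun e => by rw [e] at h'; omega

theorem lt_of_ck_lt {a b : L} (h : a ≤ b) (h' : P.ck b < P.ck a) : a < b :=
  lt_of_le_of_ne h fun e => by rw [e] at h'; omega

theorem d_pos {a b : L} (h : a < b) : 1 ≤ P.d a b := by
  have := P.rk_lt h; have := P.rk_add_d h.le; omega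

theorem rk_sup_inf (a b : L) : P.rk (a ⊔ b) + P.rk (a ⊓ b) = P.rk a + P.rk b := by
  have h1 := P.d_mod a b
  have h2 := P.rk_add_d (inf_le_left : a ⊓ b ≤ a)
  have h3 := P.rk_add_d (le_sup_right : b ≤ a ⊔ b)
  omega

theorem ck_sup_inf (a b : L) : P.ck (a ⊔ b) + P.ck (a ⊓ b) = P.ck a + P.ck b := by
  have := P.rk_sup_inf a b
  have := P.rk_add_ck a; have := P.rk_add_ck b
  have := P.rk_add_ck (a ⊔ b); have := P.rk_add_ck (a ⊓ b)
  omega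

theorem rk_smul (g : G) (a : L) : P.rk (g • a) = P.rk a := by
  have := P.d_smul g ⊥ a; rwa [P.smul_bot] at this

theorem ck_smul (g : G) (a : L) : P.ck (g • a) = P.ck a := P.dual.rk_smul g a

theorem eq_bot_of_rk {a : L} (h : P.rk a = 0) : a = ⊥ := (P.d_zero bot_le h).symm
theorem eq_top_of_ck {a : L} (h : P.ck a = 0) : a = ⊤ := P.d_zero le_top h

/-- `b` covers `a` and `a ≤ c ≤ b`. -/
theorem eq_or_eq_of_rk {a b c : L} (h1 : a ≤ c) (h2 : c ≤ b) (h : P.rk b ≤ P.rk a + 1) :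
    c = a ∨ c = b := by
  by_cases e : P.rk c ≤ P.rk a
  · exact Or.inl (P.eq_of_rk_le h1 e).symm
  · exact Or.inr (P.eq_of_rk_le h2 (by omega))

/-- `a ≰ b` and `c ≤ a ⊓ b` of corank one in `a`. -/
theorem inf_eq_of_rk {a b c : L} (h1 : c ≤ a) (h2 : c ≤ b) (hn : ¬ a ≤ b)
    (h : P.rk a ≤ P.rk c + 1) : a ⊓ b = c :=
  (P.eq_or_eq_of_rk (le_inf h1 h2) inf_le_left h).resolve_right fun e => hn (inf_eq_left.1 e)

theorem sup_eq_of_rk {a b c : L} (h1 : a ≤ c) (h2 : b ≤ c) (hn : ¬ b ≤ a)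
    (h : P.rk c ≤ P.rk a + 1) : a ⊔ b = c :=
  (P.eq_or_eq_of_rk le_sup_left (sup_le h1 h2) h).resolve_left fun e => hn (sup_eq_left.1 e)

theorem not_le_of_ne {a b : L} (h : P.rk b ≤ P.rk a) (hn : a ≠ b) : ¬ a ≤ b :=
  fun h' => hn (P.eq_of_rk_le h' h)

theorem rk_sup_pt {x U : L} (hx : P.rk x = 1) (hn : ¬ x ≤ U) : P.rk (U ⊔ x) = P.rk U + 1 := by
  have h1 := P.inf_eq_of_rk (c := ⊥) bot_le bot_le hn (by rw [P.rk_bot]; omega)
  have h2 := P.rk_sup_inf U x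
  rw [inf_comm, h1, P.rk_bot] at h2
  omega

theorem ck_inf_hy {H U : L} (hH : P.ck H = 1) (hn : ¬ U ≤ H) : P.ck (U ⊓ H) = P.ck U + 1 :=
  P.dual.rk_sup_pt (x := H) (U := U) hH hn

theorem rk_sup_pts {x y : L} (hx : P.rk x = 1) (hy : P.rk y = 1) (hn : x ≠ y) :
    P.rk (x ⊔ y) = 2 := by
  have := P.rk_sup_pt hy (P.not_le_of_ne (a := y) (b := x) (by omega) hn.symm); omega

theorem ck_inf_hys {H K : L} (hH : P.ck H = 1) (hK : P.ck K = 1) (hn : H ≠ K) :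
    P.ck (H ⊓ K) = 2 := P.dual.rk_sup_pts (x := H) (y := K) hH hK hn

include P in
theorem modular {a b c : L} (h : a ≤ c) : (a ⊔ b) ⊓ c = a ⊔ (b ⊓ c) := by
  symm
  apply P.eq_of_rk_le (sup_le (le_inf le_sup_left h) (inf_le_inf_right _ le_sup_right))
  have h1 := P.rk_sup_inf (a ⊔ b) c
  have h2 := P.rk_sup_inf a (b ⊓ c)
  have h3 := P.rk_sup_inf a b
  have h4 := P.rk_sup_inf b c
  have e1 : a ⊔ b ⊔ c = b ⊔ c := by rw [sup_comm a b, sup_assoc, sup_eq_right.2 h]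
  have e2 : a ⊓ (b ⊓ c) = a ⊓ b := by rw [inf_comm b c, ← inf_assoc, inf_eq_left.2 h]
  rw [e1] at h1; rw [e2] at h2
  omega

end Rank

section PtHy

theorem pt_iff {o t e : L} : P.Pt o t e ↔ o ≤ e ∧ e ≤ t ∧ P.rk e = P.rk o + 1 :=
  and_congr_right fun h => and_congr_right fun _ => by have := P.rk_add_d h; omega

theorem hy_iff {o t D : L} : P.Hy o t D ↔ D ≤ t ∧ o ≤ D ∧ P.rk D + 1 = P.rk t :=
  and_congr_right fun h => and_congr_right fun _ => by have := P.rk_add_d h; omega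

theorem pt_iff' {o t e : L} : P.Pt o t e ↔ o ≤ e ∧ e ≤ t ∧ P.ck e + 1 = P.ck o :=
  P.dual.hy_iff (o := t) (t := o) (D := e)

theorem hy_iff' {o t D : L} : P.Hy o t D ↔ D ≤ t ∧ o ≤ D ∧ P.ck D = P.ck t + 1 :=
  P.dual.pt_iff (o := t) (t := o) (e := D)

theorem pt_bot {t e : L} : P.Pt ⊥ t e ↔ e ≤ t ∧ P.rk e = 1 := by
  simp [Pt, rk]

theorem hy_top {o D : L} : P.Hy o ⊤ D ↔ o ≤ D ∧ P.ck D = 1 := by
  simp [Hy, ck]

theorem pt_bot_top {e : L} : P.Pt ⊥ ⊤ e ↔ P.rk e = 1 := by simp [pt_bot]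

theorem hy_bot_top {D : L} : P.Hy ⊥ ⊤ D ↔ P.ck D = 1 := by simp [hy_top]

theorem pt_line {x t l : L} (hx : P.rk x = 1) : P.Pt x t l ↔ x ≤ l ∧ l ≤ t ∧ P.rk l = 2 := by
  rw [pt_iff, hx]

theorem hy_co {o H D : L} (hH : P.ck H = 1) : P.Hy o H D ↔ D ≤ H ∧ o ≤ D ∧ P.ck D = 2 := by
  rw [hy_iff', hH]

variable {P}

theorem Pt.lt {o t e : L} (h : P.Pt o t e) : o < e :=
  lt_of_le_of_ne h.1 fun e' => by have := h.2.2; rw [← e', P.d_self] at this; omega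

theorem Hy.lt {o t D : L} (h : P.Hy o t D) : D < t := Pt.lt (P := P.dual) h

theorem Pt.mono {o t t' e : L} (h : P.Pt o t e) (ht : e ≤ t') : P.Pt o t' e := ⟨h.1, ht, h.2.2⟩

theorem Hy.mono {o o' t D : L} (h : P.Hy o t D) (ho : o' ≤ D) : P.Hy o' t D := ⟨h.1, ho, h.2.2⟩

theorem Pt.smul {o t e : L} (h : P.Pt o t e) (g : G) : P.Pt (g • o) (g • t) (g • e) :=
  ⟨P.smul_mono g h.1, P.smul_mono g h.2.1, by rw [P.d_smul]; exact h.2.2⟩

theorem Hy.smul {o t D : L} (h : P.Hy o t D) (g : G) : P.Hy (g • o) (g • t) (g • D) :=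
  Pt.smul (P := P.dual) h g

theorem Pt.smul' {o t e : L} (h : P.Pt o t e) {g : G} (ho : g • o = o) (ht : g • t = t) :
    P.Pt o t (g • e) := by have := h.smul g; rwa [ho, ht] at this

theorem Hy.smul' {o t D : L} (h : P.Hy o t D) {g : G} (ho : g • o = o) (ht : g • t = t) :
    P.Hy o t (g • D) := by have := h.smul g; rwa [ho, ht] at this

theorem Pt.eq_of_le {o t t' e e' : L} (h : P.Pt o t e) (h' : P.Pt o t' e') (hle : e ≤ e') :
    e = e' :=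
  P.eq_of_rk_le hle (by have := (P.pt_iff.1 h).2.2; have := (P.pt_iff.1 h').2.2; omega)

theorem Hy.eq_of_le {o o' t D D' : L} (h : P.Hy o t D) (h' : P.Hy o' t D') (hle : D ≤ D') :
    D = D' := (Pt.eq_of_le (P := P.dual) h' h hle).symm

theorem Pt.inf_eq {o t e U : L} (h : P.Pt o t e) (hU : o ≤ U) (hn : ¬ e ≤ U) : e ⊓ U = o :=
  P.inf_eq_of_rk h.1 hU hn (P.pt_iff.1 h).2.2.le

theorem Hy.sup_eq {o t D U : L} (h : P.Hy o t D) (hU : U ≤ t) (hn : ¬ U ≤ D) : D ⊔ U = t :=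
  Pt.inf_eq (P := P.dual) h hU hn

theorem Pt.rk_sup {o t e U : L} (h : P.Pt o t e) (hU : o ≤ U) (hn : ¬ e ≤ U) :
    P.rk (U ⊔ e) = P.rk U + 1 := by
  have h1 := P.rk_sup_inf U e
  rw [inf_comm, h.inf_eq hU hn, (P.pt_iff.1 h).2.2] at h1
  omega

theorem Hy.rk_inf {o t D U : L} (h : P.Hy o t D) (hU : U ≤ t) (hn : ¬ U ≤ D) :
    P.rk (U ⊓ D) + 1 = P.rk U := by
  have h1 := P.rk_sup_inf U D
  rw [sup_comm, h.sup_eq hU hn, ← (P.hy_iff.1 h).2.2] at h1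
  omega

theorem Pt.sup_pt {o t e U : L} (h : P.Pt o t e) (hU : o ≤ U) (hUt : U ≤ t) (hn : ¬ e ≤ U) :
    P.Pt U t (U ⊔ e) := P.pt_iff.2 ⟨le_sup_left, sup_le hUt h.2.1, h.rk_sup hU hn⟩

theorem Hy.inf_hy {o t D U : L} (h : P.Hy o t D) (hU : U ≤ t) (hoU : o ≤ U) (hn : ¬ U ≤ D) :
    P.Hy o U (U ⊓ D) := Pt.sup_pt (P := P.dual) h hU hoU hn

theorem inv_pt {Y : Subgroup G} {o t : L} (ho : Fx Y o) (ht : Fx Y t) : Inv Y {e | P.Pt o t e} :=
  fun g hg _ h => Pt.smul' h (ho g hg) (ht g hg)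

theorem inv_hy {Y : Subgroup G} {o t : L} (ho : Fx Y o) (ht : Fx Y t) : Inv Y {D | P.Hy o t D} :=
  fun g hg _ h => Hy.smul' h (ho g hg) (ht g hg)

theorem inv_pt_off {Y : Subgroup G} {o t U : L} (ho : Fx Y o) (ht : Fx Y t) (hU : Fx Y U) :
    Inv Y {e | P.Pt o t e ∧ ¬ e ≤ U} := fun g hg _ h =>
  ⟨Pt.smul' h.1 (ho g hg) (ht g hg), fun h' => h.2 (by rwa [← hU g hg, P.smul_le_iff] at h')⟩

theorem inv_hy_off {Y : Subgroup G} {o t U : L} (ho : Fx Y o) (ht : Fx Y t) (hU : Fx Y U) :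
    Inv Y {D | P.Hy o t D ∧ ¬ U ≤ D} := inv_pt_off (P := P.dual) ht ho hU

end PtHy

section Count

variable [Finite L]

omit [Finite L] in
theorem ncard_pt {o t : L} (h : o ≤ t) : {e | P.Pt o t e}.ncard = P.θ (P.d o t) := P.card_pt h

omit [Finite L] in
theorem ncard_hy {o t : L} (h : o ≤ t) : {D | P.Hy o t D}.ncard = P.θ (P.d o t) := P.card_hy h

theorem ncard_pt_off {o U t : L} (h1 : o ≤ U) (h2 : U ≤ t) :
    {e | P.Pt o t e ∧ ¬ e ≤ U}.ncard = P.q ^ P.d o U * P.θ (P.d U t) := by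
  have e1 : {e | P.Pt o t e ∧ ¬ e ≤ U} = {e | P.Pt o t e} \ {e | P.Pt o U e} := by
    ext e
    exact ⟨fun h => ⟨h.1, fun h' => h.2 h'.2.1⟩, fun h => ⟨h.1, fun h' => h.2 (h.1.mono h')⟩⟩
  have hs : {e | P.Pt o U e} ⊆ {e | P.Pt o t e} := fun e he => Pt.mono he (he.2.1.trans h2)
  rw [e1, Set.ncard_sdiff hs, P.ncard_pt h1,
    P.ncard_pt (h1.trans h2), P.d_add h1 h2, P.θ_add]
  omega

theorem ncard_hy_off {o U t : L} (h1 : o ≤ U) (h2 : U ≤ t) :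
    {D | P.Hy o t D ∧ ¬ U ≤ D}.ncard = P.q ^ P.d U t * P.θ (P.d o U) :=
  P.dual.ncard_pt_off (o := t) (t := o) (U := U) h2 h1

theorem exists_pt_of_lt {o U t : L} (h1 : o ≤ U) (h2 : U < t) : ∃ e, P.Pt o t e ∧ ¬ e ≤ U := by
  have h := P.ncard_pt_off h1 h2.le
  have h3 := Nat.mul_pos (pow_pos P.q_pos (P.d o U)) (P.θ_pos (P.d_pos h2))
  rw [← h] at h3
  exact (Set.ncard_pos (Set.toFinite _)).1 h3

theorem exists_pt {o a b : L} (ha : o ≤ a) (hb : o ≤ b) (hn : ¬ a ≤ b) :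
    ∃ e, P.Pt o a e ∧ ¬ e ≤ b := by
  obtain ⟨e, he, hn'⟩ := P.exists_pt_of_lt (le_inf ha hb) (inf_lt_left.2 hn)
  exact ⟨e, he, fun h => hn' (le_inf he.2.1 h)⟩

theorem exists_hy_of_lt {o U t : L} (h1 : U ≤ t) (h2 : o < U) : ∃ D, P.Hy o t D ∧ ¬ U ≤ D :=
  P.dual.exists_pt_of_lt (o := t) (t := o) (U := U) h1 h2

theorem exists_hy {t a b : L} (ha : a ≤ t) (hb : b ≤ t) (hn : ¬ b ≤ a) :
    ∃ D, P.Hy a t D ∧ ¬ b ≤ D := P.dual.exists_pt (o := t) (a := a) (b := b) ha hb hn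

theorem exists_pt' {o t : L} (h : o < t) : ∃ e, P.Pt o t e :=
  let ⟨e, he, _⟩ := P.exists_pt_of_lt le_rfl h; ⟨e, he⟩

theorem exists_hy' {o t : L} (h : o < t) : ∃ D, P.Hy o t D := P.dual.exists_pt' (o := t) (t := o) h

theorem le_of_pt {o a b : L} (ha : o ≤ a) (hb : o ≤ b) (h : ∀ e, P.Pt o a e → e ≤ b) : a ≤ b := by
  by_contra hn
  obtain ⟨e, he, hn'⟩ := P.exists_pt ha hb hn
  exact hn' (h e he)

theorem le_of_hy {t a b : L} (ha : a ≤ t) (hb : b ≤ t) (h : ∀ D, P.Hy a t D → b ≤ D) : b ≤ a :=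
  P.dual.le_of_pt (o := t) (a := a) (b := b) ha hb h

theorem le_of_rk1 {a b : L} (h : ∀ e, P.rk e = 1 → e ≤ a → e ≤ b) : a ≤ b :=
  P.le_of_pt bot_le bot_le fun e he => h e (P.pt_bot.1 he).2 he.2.1

theorem le_of_ck1 {a b : L} (h : ∀ H, P.ck H = 1 → a ≤ H → b ≤ H) : b ≤ a :=
  P.dual.le_of_rk1 (a := a) (b := b) h

theorem exists_rk1 {a b : L} (hn : ¬ a ≤ b) : ∃ e, P.rk e = 1 ∧ e ≤ a ∧ ¬ e ≤ b :=
  let ⟨e, he, h⟩ := P.exists_pt bot_le bot_le hn; ⟨e, (P.pt_bot.1 he).2, he.2.1, h⟩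

theorem exists_ck1 {a b : L} (hn : ¬ b ≤ a) : ∃ H, P.ck H = 1 ∧ a ≤ H ∧ ¬ b ≤ H :=
  P.dual.exists_rk1 (a := a) (b := b) hn

/-- two proper subspaces do not cover -/
theorem exists_pt_two {o U U' t : L} (h1 : o ≤ U) (h2 : U < t) (h1' : o ≤ U') (h2' : U' < t) :
    ∃ e, P.Pt o t e ∧ ¬ e ≤ U ∧ ¬ e ≤ U' := by
  by_contra hc
  push Not at hc
  have hs : {e | P.Pt o t e ∧ ¬ e ≤ U} ⊆ {e | P.Pt o U' e} := fun e he => he.1.mono (hc e he.1 he.2)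
  have h3 := Set.ncard_le_ncard hs (Set.toFinite _)
  rw [P.ncard_pt_off h1 h2.le, P.ncard_pt h1'] at h3
  have a1 := P.d_add h1 h2.le
  have a2 := P.d_add h1' h2'.le
  have a3 := P.d_pos h2
  have a4 := P.d_pos h2'
  obtain ⟨k, hk⟩ : ∃ k, P.d U t = k + 1 := ⟨P.d U t - 1, by omega⟩
  rw [hk, θ_succ, mul_add, ← pow_add] at h3
  have h4 := P.θ_lt_pow (P.d o U')
  have h5 : P.q ^ P.d o U' ≤ P.q ^ (P.d o U + k) := Nat.pow_le_pow_right P.q_pos (by omega)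
  omega

theorem exists_hy_two {o U U' t : L} (h1 : U ≤ t) (h2 : o < U) (h1' : U' ≤ t) (h2' : o < U') :
    ∃ D, P.Hy o t D ∧ ¬ U ≤ D ∧ ¬ U' ≤ D :=
  P.dual.exists_pt_two (o := t) (t := o) (U := U) (U' := U') h1 h2 h1' h2'

theorem exists_d {a b : L} (h : a ≤ b) {k : ℕ} (hk : k ≤ P.d a b) :
    ∃ c, a ≤ c ∧ c ≤ b ∧ P.d a c = k := by
  induction k with
  | zero => exact ⟨a, le_rfl, h, P.d_self a⟩
  | succ k ih =>
    obtain ⟨c, h1, h2, h3⟩ := ih (by omega)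
    have := P.d_add h1 h2
    obtain ⟨e, he⟩ := P.exists_pt' (lt_of_le_of_ne h2 fun e => by
      rw [e, P.d_self] at this; rw [e] at h3; omega)
    exact ⟨e, h1.trans he.1, he.2.1, by rw [P.d_add h1 he.1, h3, he.2.2]⟩

theorem exists_rk {a b : L} (h : a ≤ b) {k : ℕ} (h1 : P.rk a ≤ k) (h2 : k ≤ P.rk b) :
    ∃ c, a ≤ c ∧ c ≤ b ∧ P.rk c = k := by
  have := P.rk_add_d h
  obtain ⟨c, h3, h4, h5⟩ := P.exists_d h (k := k - P.rk a) (by omega)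
  exact ⟨c, h3, h4, by have := P.rk_add_d h3; omega⟩

theorem exists_ck {a b : L} (h : a ≤ b) {k : ℕ} (h1 : P.ck b ≤ k) (h2 : k ≤ P.ck a) :
    ∃ c, a ≤ c ∧ c ≤ b ∧ P.ck c = k :=
  let ⟨c, h3, h4, h5⟩ := P.dual.exists_rk (a := b) (b := a) h h1 h2; ⟨c, h4, h3, h5⟩

/-- all points off a proper subspace span -/
theorem eq_of_off {o U M t : L} (h1 : o ≤ U) (h2 : U < t) (hM : o ≤ M) (hMt : M ≤ t)
    (h : ∀ e, P.Pt o t e → ¬ e ≤ U → e ≤ M) : M = t := by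
  by_contra hn
  obtain ⟨e, he, h3, h4⟩ := P.exists_pt_two h1 h2 hM (lt_of_le_of_ne hMt hn)
  exact h4 (h e he h3)

/-- A set of points closed under joining lines is the set of all points of a subspace. -/
theorem closed_pt {o t : L} (hot : o ≤ t) {X : Set L} (hX : ∀ e ∈ X, P.Pt o t e)
    (hc : ∀ a ∈ X, ∀ b ∈ X, ∀ e, P.Pt o t e → e ≤ a ⊔ b → e ∈ X) :
    ∀ e, P.Pt o t e → e ≤ o ⊔ sSup X → e ∈ X := by
  -- a maximal subspace all of whose points are in `X`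
  obtain ⟨M, ⟨hM1, hM2, hM3⟩, hmax⟩ := (Set.toFinite
    {M | o ≤ M ∧ M ≤ t ∧ ∀ e, P.Pt o M e → e ∈ X}).exists_maximal
    ⟨o, le_rfl, hot, fun e he => absurd he.2.1 he.lt.not_ge⟩
  have key : ∀ a ∈ X, a ≤ M := by
    intro a ha
    by_contra hn
    have hp := hX a ha
    have hr := hp.rk_sup hM1 hn
    refine hn (le_sup_right.trans (hmax ⟨hM1.trans le_sup_left, sup_le hM2 hp.2.1, fun e he => ?_⟩
      le_sup_left))
    by_cases hea : e = a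
    · exact hea ▸ ha
    by_cases heM : e ≤ M
    · exact hM3 e (he.mono heM)
    have hea' : ¬ e ≤ a := fun h => hea (he.eq_of_le hp h)
    have h1 := he.rk_sup hp.1 hea'
    have h2 := P.rk_sup_inf M (a ⊔ e)
    have h3 : M ⊔ (a ⊔ e) = M ⊔ a := by
      rw [← sup_assoc]; exact sup_eq_left.2 he.2.1
    have h4 := (P.pt_iff.1 hp).2.2
    have hb : P.Pt o M (M ⊓ (a ⊔ e)) := P.pt_iff.2
      ⟨le_inf hM1 (hp.1.trans le_sup_left), inf_le_left, by rw [h3] at h2; omega⟩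
    refine hc a ha _ (hM3 _ hb) e (he.mono (he.2.1.trans (sup_le hM2 hp.2.1))) ?_
    have hba : ¬ M ⊓ (a ⊔ e) ≤ a := fun h => hn ((hb.eq_of_le hp h) ▸ inf_le_left)
    have := P.sup_eq_of_rk (le_sup_left : a ≤ a ⊔ e) inf_le_right hba h1.le
    rw [this]; exact le_sup_right
  intro e he hle
  exact hM3 e (he.mono (hle.trans (sup_le hM1 (sSup_le key))))

theorem closed_hy {o t : L} (hot : o ≤ t) {X : Set L} (hX : ∀ D ∈ X, P.Hy o t D)
    (hc : ∀ a ∈ X, ∀ b ∈ X, ∀ D, P.Hy o t D → a ⊓ b ≤ D → D ∈ X) :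
    ∀ D, P.Hy o t D → t ⊓ sInf X ≤ D → D ∈ X :=
  P.dual.closed_pt (o := t) (t := o) hot hX hc

end Count

section Equiv
include P

theorem smul_W (g : G) (Y : Subgroup G) (o t e : L) :
    g • W Y o t e = W (cj g Y) (g • o) (g • t) (g • e) := by
  refine P.smul_sSup g fun U => ?_
  simp only [Set.mem_ofPred_eq, P.smul_le_iff, P.smul_lt_iff]
  refine and_congr_right fun _ => and_congr_right fun _ => ⟨fun h k hk he => ?_, fun h k hk he => ?_⟩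
  · have := h _ (mem_cj.1 hk) (by rw [mul_smul, mul_smul, he, inv_smul_smul])
    rwa [mul_smul, mul_smul, inv_smul_eq_iff] at this
  · have := h _ (conj_mem_cj.2 hk) (by rw [mul_smul, mul_smul, inv_smul_smul, he])
    rwa [mul_smul, mul_smul, inv_smul_smul, smul_left_cancel_iff] at this

theorem smul_N (g : G) (Y : Subgroup G) (o t D : L) :
    g • N Y o t D = N (cj g Y) (g • o) (g • t) (g • D) := P.dual.smul_W g Y t o D

theorem smul_W' {g : G} {Y : Subgroup G} {o t : L} (hg : g ∈ Y) (ho : Fx Y o) (ht : Fx Y t)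
    (e : L) : g • W Y o t e = W Y o t (g • e) := by
  rw [P.smul_W, cj_eq_of_mem hg, ho g hg, ht g hg]

theorem smul_N' {g : G} {Y : Subgroup G} {o t : L} (hg : g ∈ Y) (ho : Fx Y o) (ht : Fx Y t)
    (D : L) : g • N Y o t D = N Y o t (g • D) := P.dual.smul_W' hg ht ho D

omit P [CompleteLattice L] in
theorem cj_Stab' {g : G} {Γ : Subgroup G} (hg : g ∈ Γ) (a : L) :
    cj g (Stab Γ a) = Stab Γ (g • a) := by
  ext k
  rw [mem_cj, mem_Stab, mem_Stab, mul_smul, mul_smul, inv_smul_eq_iff, Γ.mul_mem_cancel_right hg,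
    Γ.mul_mem_cancel_left (Γ.inv_mem hg)]

theorem smul_Wx {g : G} {Γ : Subgroup G} (hg : g ∈ Γ) (x l : L) :
    g • Wx Γ x l = Wx Γ (g • x) (g • l) := by
  rw [Wx, P.smul_W, cj_Stab' hg, P.smul_top]; rfl

theorem smul_Nx {g : G} {Γ : Subgroup G} (hg : g ∈ Γ) (x H : L) :
    g • Nx Γ x H = Nx Γ (g • x) (g • H) := by
  rw [Nx, P.smul_N, cj_Stab' hg, P.smul_top]; rfl

theorem smul_Ux {g : G} {Γ : Subgroup G} (hg : g ∈ Γ) (x H : L) :
    g • Ux Γ x H = Ux Γ (g • x) (g • H) := P.dual.smul_Nx hg H x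

theorem smul_NH {g : G} {Γ : Subgroup G} (hg : g ∈ Γ) (H D : L) :
    g • NH Γ H D = NH Γ (g • H) (g • D) := P.dual.smul_Wx hg H D

theorem smul_WL {g : G} {Γ : Subgroup G} (hg : g ∈ Γ) (l : L) : g • P.WL Γ l = P.WL Γ (g • l) := by
  refine P.smul_sInf g fun U => ⟨?_, ?_⟩
  · rintro ⟨x, h1, h2, rfl⟩
    exact ⟨g • x, by rwa [P.rk_smul], P.smul_mono g h2, P.smul_Wx hg x l⟩
  · rintro ⟨x, h1, h2, h3⟩
    refine ⟨g⁻¹ • x, by rwa [P.rk_smul], (P.le_smul_iff' g).1 h2, ?_⟩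
    have := P.smul_Wx (Γ.inv_mem hg) x (g • l)
    rw [← h3, inv_smul_smul, inv_smul_smul] at this
    exact this

theorem smul_NL {g : G} {Γ : Subgroup G} (hg : g ∈ Γ) (D : L) : g • P.NL Γ D = P.NL Γ (g • D) :=
  P.dual.smul_WL hg D

variable {P} in
theorem Sp.smul {g : G} {Γ : Subgroup G} {E : L} (h : P.Sp Γ E) (hg : g ∈ Γ) : P.Sp Γ (g • E) := by
  obtain ⟨x, H, h1, h2, h3, rfl⟩ := h
  exact ⟨g • x, g • H, by rwa [P.rk_smul], by rwa [P.ck_smul], P.smul_mono g h3, P.smul_Nx hg x H⟩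

variable {P} in
theorem Sq.smul {g : G} {Γ : Subgroup G} {U : L} (h : P.Sq Γ U) (hg : g ∈ Γ) : P.Sq Γ (g • U) :=
  Sp.smul (P := P.dual) h hg

theorem smul_B {g : G} {Γ : Subgroup G} (hg : g ∈ Γ) (l : L) : g • P.B Γ l = P.B Γ (g • l) := by
  refine P.smul_sSup g fun E => ⟨fun h => ⟨h.1.smul hg, P.smul_mono g h.2⟩, fun h => ⟨?_, ?_⟩⟩
  · simpa using h.1.smul (Γ.inv_mem hg)
  · exact (P.smul_le_iff g).1 h.2

theorem smul_Z {g : G} {Γ : Subgroup G} (hg : g ∈ Γ) (D : L) : g • P.Z Γ D = P.Z Γ (g • D) :=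
  P.dual.smul_B hg D

omit P in
/-- (A5) invariant proper subspaces lie in `W`. -/
theorem le_W_of_inv {Y : Subgroup G} {o t e U : L} (h1 : o ≤ U) (h2 : U < t)
    (h : ∀ g ∈ Y, g • e = e → g • U = U) : U ≤ W Y o t e := le_sSup ⟨h1, h2, h⟩

omit P in
theorem N_le_of_inv {Y : Subgroup G} {o t D U : L} (h1 : U ≤ t) (h2 : o < U)
    (h : ∀ g ∈ Y, g • D = D → g • U = U) : N Y o t D ≤ U := sInf_le ⟨h1, h2, h⟩

variable {P} in
theorem Sp.le_B {Γ : Subgroup G} {E l : L} (h : P.Sp Γ E) (hl : l ≤ E) : E ≤ P.B Γ l :=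
  le_sSup ⟨h, hl⟩

variable {P} in
theorem Sq.Z_le {Γ : Subgroup G} {U D : L} (h : P.Sq Γ U) (hl : U ≤ D) : P.Z Γ D ≤ U :=
  sInf_le ⟨h, hl⟩

end Equiv

end CfsgLib.CK.PG
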