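import Cfsg.Agent.Lib.CK.A3
import Cfsg.Agent.Lib.CK.B12

/-!
Cameron–Kantor, package C1: planes, `W(ℓ)`, the global dictionary.
-/

set_option autoImplicit false

namespace CfsgLib.CK.PG

open CfsgLib.Tech

variable {G L : Type*} [Group G] [CompleteLattice L] [MulAction G L] [Finite G] [Finite L]
  {P : PG G L}

variable {Γ : Subgroup G}

omit [Finite G] [Finite L] in
theorem c1_pt {x l : L} (hx : P.rk x = 1) (hl : P.rk l = 2) (hxl : x ≤ l) : P.Pt x ⊤ l :=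
  (P.pt_line hx).2 ⟨hxl, le_top, hl⟩

omit [Finite G] [Finite L] in
theorem c1_hy {x H : L} (hH : P.ck H = 1) (hxH : x ≤ H) : P.Hy x ⊤ H := P.hy_top.2 ⟨hxH, hH⟩

omit [Finite G] in
theorem c1_ex_pt {l : L} (hl : P.rk l = 2) : ∃ x, P.rk x = 1 ∧ x ≤ l :=
  let ⟨x, _, h2, h3⟩ := P.exists_rk (bot_le (a := l)) (k := 1) (by rw [P.rk_bot]; omega) (by omega); ⟨x, h3, h2⟩

omit [Finite G] in
theorem B0.c1_ex_line (h : P.B0 Γ) {x : L} (hx : P.rk x = 1) : ∃ l, P.rk l = 2 ∧ x ≤ l :=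
  let ⟨l, h1, _, h3⟩ := P.exists_rk (le_top (a := x)) (k := 2) (by omega)
    (by have := h.three; rw [P.rk_top]; omega); ⟨l, h3, h1⟩

theorem B0.plane_two' (h : P.B0 Γ) {E : L} (hE : P.rk E = 3) :
    P.dual.Two (Stab Γ E) E (⊥ : L) := by
  have h1 : ∀ x, P.Pt ⊥ E x → P.Two (Stab (Stab Γ x) E) x E := fun x hx => by
    obtain ⟨h1, h2⟩ := P.pt_bot.1 hx
    have := P.rk_add_d h1
    exact (h.at_x h2).line_two h1 le_top (by omega)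
  have h2 : ∀ a b, P.Hy ⊥ E a → P.Hy ⊥ E b → a ≠ b → P.Pt ⊥ E (a ⊓ b) := fun a b ha hb hab => by
    have := hb.rk_inf ha.1 fun h => hab (ha.eq_of_le hb h)
    have := (P.hy_iff.1 ha).2.2
    exact P.pt_bot.2 ⟨inf_le_left.trans ha.1, by omega⟩
  have h3 : ∀ x a, P.Pt ⊥ E x → P.Hy ⊥ E a → x ≤ a → P.Pt x E a := fun x a hx ha hxa => by
    have := (P.hy_iff.1 ha).2.2
    exact (P.pt_line (P.pt_bot.1 hx).2).2 ⟨hxa, ha.1, by omega⟩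
  have h4 : Tr (Stab Γ E) {D | P.Hy ⊥ E D} := fun a ha b hb => by
    rcases eq_or_ne a b with rfl | hab
    · exact ⟨1, one_mem _, one_smul _ _⟩
    have hx := h2 a b ha hb hab
    obtain ⟨g, hg, e, -⟩ := (h1 _ hx).tr a b b a (h3 _ _ hx ha inf_le_left) (h3 _ _ hx hb inf_le_right) hab
      (h3 _ _ hx hb inf_le_right) (h3 _ _ hx ha inf_le_left) hab.symm
    exact ⟨g, ⟨hg.1.1, hg.2⟩, e⟩
  have h5 : Tr (Stab Γ E) {e | P.Pt ⊥ E e} := orbN_le_one_iff.1 (by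
    rw [orbN_pt_hy bot_le (P.fx_bot _) (fx_Stab Γ E)]
    exact orbN_le_one_iff.2 h4)
  refine ⟨bot_le (α := L), fx_Stab Γ E, P.fx_bot _, fun (a b a' b' : L) (ha : P.Hy ⊥ E a) (hb : P.Hy ⊥ E b) hab
    (ha' : P.Hy ⊥ E a') (hb' : P.Hy ⊥ E b') hab' => ?_⟩
  have hx := h2 a' b' ha' hb' hab'
  obtain ⟨g, hg, e⟩ := h5 _ (h2 a b ha hb hab) _ hx
  obtain ⟨k, hk, e1, e2⟩ := (h1 _ hx).tr (g • a) (g • b) a' b'
    (h3 _ _ hx (ha.smul' (P.smul_bot g) hg.2) (by rw [← e]; exact P.smul_mono g inf_le_left))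
    (h3 _ _ hx (hb.smul' (P.smul_bot g) hg.2) (by rw [← e]; exact P.smul_mono g inf_le_right))
    (fun h => hab (MulAction.injective g h)) (h3 _ _ hx ha' inf_le_left) (h3 _ _ hx hb' inf_le_right) hab'
  exact ⟨k * g, mul_mem ⟨hk.1.1, hk.2⟩ hg, (mul_smul k g a).trans e1, (mul_smul k g b).trans e2⟩

theorem B0.plane_two (h : P.B0 Γ) {E : L} (hE : P.rk E = 3) : P.Two (Stab Γ E) ⊥ E :=
  ((h.plane_two' hE).dual (by rw [dual_d, d_bot, hE]; norm_num)).of_dual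

theorem B0.plane_flag (h : P.B0 Γ) {E x l x' l' : L} (hE : P.rk E = 3) (hx : P.rk x = 1)
    (hl : P.rk l = 2) (hxl : x ≤ l) (hlE : l ≤ E) (hx' : P.rk x' = 1) (hl' : P.rk l' = 2)
    (hxl' : x' ≤ l') (hlE' : l' ≤ E) : ∃ g ∈ Γ, g • E = E ∧ g • x = x' ∧ g • l = l' := by
  obtain ⟨g, hg, e⟩ := (h.plane_two hE).flag (by rw [d_bot, hE]; norm_num) (P.pt_bot.2 ⟨hxl.trans hlE, hx⟩)
    (P.hy_iff.2 ⟨hlE, bot_le, by omega⟩) hxl (P.pt_bot.2 ⟨hxl'.trans hlE', hx'⟩) (P.hy_iff.2 ⟨hlE', bot_le, by omega⟩) hxl'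
  exact ⟨g, hg.1, hg.2, e⟩

theorem B0.swap_line (h : P.B0 Γ) {x l l' : L} (hx : P.rk x = 1) (hl : P.rk l = 2) (hxl : x ≤ l)
    (hl' : P.rk l' = 2) (hxl' : x ≤ l') : ∃ g ∈ Γ, g • x = x ∧ g • l = l' ∧ g • l' = l := by
  obtain ⟨g, hg, e⟩ := (h.at_x hx).swap (c1_pt hx hl hxl) (c1_pt hx hl' hxl')
  exact ⟨g, hg.1, hg.2, e⟩

theorem B0.Wx_eq (h : P.B0 Γ) {x l : L} (hx : P.rk x = 1) (hl : P.rk l = 2) (hxl : x ≤ l) :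
    Wx Γ x l = P.WL Γ l := by
  refine le_antisymm (le_sInf ?_) (sInf_le ⟨x, hx, hxl, rfl⟩)
  rintro _ ⟨x', hx', hxl', rfl⟩
  refine P.le_of_rk1 fun y hy hyW => ?_
  by_cases hyl : y ≤ l
  · exact hyl.trans ((h.at_x hx').le_W (c1_pt hx' hl hxl'))
  obtain ⟨g, hg, e1, e2, e3⟩ := h.plane_flag (E := l ⊔ y) (by rw [P.rk_sup_pt hy hyl, hl]) hx hl hxl le_sup_left
    hx' hl hxl' le_sup_left
  have := P.smul_mono g (sup_le ((h.at_x hx).le_W (c1_pt hx hl hxl)) hyW : l ⊔ y ≤ Wx Γ x l)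
  rw [e1, P.smul_Wx hg, e2, e3] at this
  exact le_sup_right.trans this

theorem B0.NH_eq (h : P.B0 Γ) {H D : L} (hH : P.ck H = 1) (hD : P.ck D = 2) (hDH : D ≤ H) :
    NH Γ H D = P.NL Γ D := h.dual.Wx_eq hH hD hDH

theorem B0.le_WL (h : P.B0 Γ) {l : L} (hl : P.rk l = 2) : l ≤ P.WL Γ l := by
  obtain ⟨x, hx, hxl⟩ := c1_ex_pt hl
  rw [← h.Wx_eq hx hl hxl]
  exact (h.at_x hx).le_W (c1_pt hx hl hxl)

theorem B0.NL_le (h : P.B0 Γ) {D : L} (hD : P.ck D = 2) : P.NL Γ D ≤ D := h.dual.le_WL hD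

theorem B0.lt_Nx (h : P.B0 Γ) {x H : L} (hx : P.rk x = 1) (hH : P.ck H = 1) (hxH : x ≤ H) :
    x < Nx Γ x H := by
  exact (h.at_x hx).lt_N (c1_hy hH hxH)

theorem B0.Ux_lt (h : P.B0 Γ) {x H : L} (hx : P.rk x = 1) (hH : P.ck H = 1) (hxH : x ≤ H) :
    Ux Γ x H < H := h.dual.lt_Nx hH hx hxH

theorem B0.Nx_le (h : P.B0 Γ) {x H : L} (hx : P.rk x = 1) (hH : P.ck H = 1) (hxH : x ≤ H) :
    Nx Γ x H ≤ H := by
  exact (h.at_x hx).N_le (c1_hy hH hxH)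

theorem B0.le_Ux (h : P.B0 Γ) {x H : L} (hx : P.rk x = 1) (hH : P.ck H = 1) (hxH : x ≤ H) :
    x ≤ Ux Γ x H := h.dual.Nx_le hH hx hxH

theorem B0.WL_symm (h : P.B0 Γ) {x l l' : L} (hx : P.rk x = 1) (hl : P.rk l = 2) (hxl : x ≤ l)
    (hl' : P.rk l' = 2) (hxl' : x ≤ l') (hle : l' ≤ P.WL Γ l) : l ≤ P.WL Γ l' := by
  rw [← h.Wx_eq hx hl hxl] at hle
  rw [← h.Wx_eq hx hl' hxl']
  exact (h.at_x hx).W_symm (c1_pt hx hl' hxl') (c1_pt hx hl hxl) hle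

theorem B0.le_Nx_iff (h : P.B0 Γ) {x l H : L} (hx : P.rk x = 1) (hl : P.rk l = 2)
    (hH : P.ck H = 1) (hxl : x ≤ l) (hxH : x ≤ H) : l ≤ Nx Γ x H ↔ P.WL Γ l ≤ H := by
  rw [← h.Wx_eq hx hl hxl]
  exact ((h.at_x hx).W_le_iff (c1_pt hx hl hxl) (c1_hy hH hxH)).symm

theorem B0.Ux_le_iff (h : P.B0 Γ) {x D H : L} (hH : P.ck H = 1) (hD : P.ck D = 2)
    (hx : P.rk x = 1) (hDH : D ≤ H) (hxH : x ≤ H) : Ux Γ x H ≤ D ↔ x ≤ P.NL Γ D :=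
  h.dual.le_Nx_iff hH hD hx hDH hxH

theorem B0.WL_inf_le (h : P.B0 Γ) {x a b c : L} (hx : P.rk x = 1) (ha : P.rk a = 2) (hxa : x ≤ a)
    (hb : P.rk b = 2) (hxb : x ≤ b) (hc : P.rk c = 2) (hxc : x ≤ c) (hle : c ≤ a ⊔ b) :
    P.WL Γ a ⊓ P.WL Γ b ≤ P.WL Γ c := by
  rw [← h.Wx_eq hx ha hxa, ← h.Wx_eq hx hb hxb, ← h.Wx_eq hx hc hxc]
  exact (h.at_x hx).W_inf_le (c1_pt hx ha hxa) (c1_pt hx hb hxb) (c1_pt hx hc hxc) hle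

theorem B0.Nx_le_sup (h : P.B0 Γ) {x a b c : L} (hx : P.rk x = 1) (ha : P.ck a = 1) (hxa : x ≤ a)
    (hb : P.ck b = 1) (hxb : x ≤ b) (hc : P.ck c = 1) (hle : a ⊓ b ≤ c) :
    Nx Γ x c ≤ Nx Γ x a ⊔ Nx Γ x b := by
  exact (h.at_x hx).N_le_sup (c1_hy ha hxa) (c1_hy hb hxb) (c1_hy hc ((le_inf hxa hxb).trans hle)) hle

theorem B0.Ux_inf_le (h : P.B0 Γ) {H a b c : L} (hH : P.ck H = 1) (ha : P.rk a = 1) (haH : a ≤ H)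
    (hb : P.rk b = 1) (hbH : b ≤ H) (hc : P.rk c = 1) (hle : c ≤ a ⊔ b) :
    Ux Γ a H ⊓ Ux Γ b H ≤ Ux Γ c H := h.dual.Nx_le_sup hH ha haH hb hbH hc hle

/-- `Γ_{x,H}` is transitive on the lines through `x` in `N(x,H)`. -/
theorem B0.tr_Nx (h : P.B0 Γ) {x H : L} (hx : P.rk x = 1) (hH : P.ck H = 1) (hxH : x ≤ H) :
    Tr (Stab (Stab Γ x) H) {l | P.rk l = 2 ∧ x ≤ l ∧ l ≤ Nx Γ x H} := by
  rintro l ⟨h1, h2, h3⟩ l' ⟨h1', h2', h3'⟩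
  obtain ⟨g, hg, e1, e2⟩ := (h.at_x hx).good_tr (((h.at_x hx).good_iff_N (c1_pt hx h1 h2) (c1_hy hH hxH)).2 h3)
    (((h.at_x hx).good_iff_N (c1_pt hx h1' h2') (c1_hy hH hxH)).2 h3')
  exact ⟨g, ⟨hg, e2⟩, e1⟩

theorem B0.tr_Ux (h : P.B0 Γ) {x H : L} (hx : P.rk x = 1) (hH : P.ck H = 1) (hxH : x ≤ H) :
    Tr (Stab (Stab Γ H) x) {D | P.ck D = 2 ∧ D ≤ H ∧ Ux Γ x H ≤ D} := h.dual.tr_Nx hH hx hxH

/-- a line through `x` fixed by a Sylow subgroup fixing `x ≤ H` lies in `N(x,H)` -/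
theorem B0.le_Nx_of_syl (h : P.B0 Γ) {S : Subgroup G} (hS : IsSylowIn P.p S Γ) {x l H : L}
    (hx : P.rk x = 1) (hl : P.rk l = 2) (hH : P.ck H = 1) (hxl : x ≤ l) (hxH : x ≤ H)
    (fx : Fx S x) (fl : Fx S l) (fH : Fx S H) : l ≤ Nx Γ x H := by
  exact (h.at_x hx).le_N_of_good ⟨c1_pt hx hl hxl, c1_hy hH hxH, S, hS.of_le (le_Stab hS.le fx) (Stab_le _ _), fl, fH⟩

theorem B0.Ux_le_of_syl (h : P.B0 Γ) {S : Subgroup G} (hS : IsSylowIn P.p S Γ) {x D H : L}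
    (hH : P.ck H = 1) (hD : P.ck D = 2) (hx : P.rk x = 1) (hDH : D ≤ H) (hxH : x ≤ H)
    (fH : Fx S H) (fD : Fx S D) (fx : Fx S x) : Ux Γ x H ≤ D :=
  h.dual.le_Nx_of_syl hS hH hD hx hDH hxH fH fD fx

/-- `Γ_{x,D,H}` is transitive on `H − D` when `U(x,H) ≤ D`. -/
theorem B0.tr_HD (h : P.B0 Γ) {x D H : L} (hH : P.ck H = 1) (hD : P.ck D = 2) (hx : P.rk x = 1)
    (hDH : D ≤ H) (hxH : x ≤ H) (hU : Ux Γ x H ≤ D) :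
    Tr (Stab (Stab (Stab Γ H) x) D) {y | P.rk y = 1 ∧ y ≤ H ∧ ¬ y ≤ D} := by
  have hD' := (P.hy_co hH).2 ⟨hDH, bot_le, hD⟩
  obtain ⟨-, -, S, hS, f1, f2⟩ := ((h.at_H hH).good_iff_W (P.pt_bot.2 ⟨hxH, hx⟩) hD').2 hU
  exact (((h.at_H hH).syl_tr hS hD' f2).mono (le_Stab (le_Stab hS.le f1) f2)).sub
    fun y hy => ⟨P.pt_bot.2 ⟨hy.2.1, hy.1⟩, hy.2.2⟩

theorem B0.rk_Nx (h : P.B0 Γ) {x l H : L} (hx : P.rk x = 1) (hl : P.rk l = 2) (hH : P.ck H = 1)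
    (hxl : x ≤ l) (hxH : x ≤ H) : P.rk (Nx Γ x H) = P.ck (P.WL Γ l) + 1 := by
  rw [← h.Wx_eq hx hl hxl, ← P.rk_add_d (h.lt_Nx hx hH hxH).le, hx, add_comm]
  exact congrArg (· + 1) ((h.at_x hx).d_N (c1_pt hx hl hxl) (c1_hy hH hxH))

variable {c c' : ℕ}

theorem C0.ck_WL (h : P.C0 Γ c c') {l : L} (hl : P.rk l = 2) : P.ck (P.WL Γ l) = c := by
  obtain ⟨x, hx, hxl⟩ := c1_ex_pt hl
  rw [← h.b0.Wx_eq hx hl hxl, h.hc x l hx hl hxl]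

theorem C0.rk_NL (h : P.C0 Γ c c') {D : L} (hD : P.ck D = 2) : P.rk (P.NL Γ D) = c' :=
  h.dual.ck_WL hD

theorem C0.rk_Nx (h : P.C0 Γ c c') {x H : L} (hx : P.rk x = 1) (hH : P.ck H = 1) (hxH : x ≤ H) :
    P.rk (Nx Γ x H) = c + 1 := by
  obtain ⟨l, hl, hxl⟩ := h.b0.c1_ex_line hx
  rw [h.b0.rk_Nx hx hl hH hxl hxH, h.ck_WL hl]

theorem C0.ck_Ux (h : P.C0 Γ c c') {x H : L} (hx : P.rk x = 1) (hH : P.ck H = 1) (hxH : x ≤ H) :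
    P.ck (Ux Γ x H) = c' + 1 := h.dual.rk_Nx hH hx hxH

theorem C0.Nx_le_Ux (h : P.C0 Γ c c') {x H : L} (hx : P.rk x = 1) (hH : P.ck H = 1)
    (hxH : x ≤ H) : Nx Γ x H ≤ Ux Γ x H := by
  refine le_W_of_inv bot_le (P.lt_of_rk_lt (h.b0.Nx_le hx hH hxH) ?_) fun g hg e => ?_
  · have := P.rk_add_ck H
    have := h.lt
    rw [h.rk_Nx hx hH hxH]
    omega
  · rw [P.smul_Nx hg.1, e, hg.2]

theorem C0.dich (h : P.C0 Γ c c') : (∀ x l H, P.rk x = 1 → P.rk l = 2 → P.ck H = 1 → x ≤ l →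
    x ≤ H → l ≤ Nx Γ x H → Nx Γ x H ≤ P.WL Γ l) ∨ P.n < 2 * c + 1 := by
  refine or_iff_not_imp_right.2 fun hn x l H hx hl hH hxl hxH hle => ?_
  have he := c1_pt hx hl hxl
  rw [← h.b0.Wx_eq hx hl hxl]
  refine ((h.b0.at_x hx).dich he).resolve_right (fun h1 => hn ?_) l H
    (((h.b0.at_x hx).good_iff_N he (c1_hy hH hxH)).2 hle)
  have h2 := P.rk_add_d (hxl.trans ((h.b0.at_x hx).le_W he))
  have h3 := P.rk_add_ck (Wx Γ x l)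
  have h4 := h.hc x l hx hl hxl
  rw [d_top] at h1
  unfold Wx at h3 h4
  omega

end CfsgLib.CK.PG
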