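import Cfsg.Agent.Lib.CK.C2i

/-!
Cameron–Kantor, package C2II: the trilinear form.
-/

set_option autoImplicit false
set_option maxHeartbeats 400000
set_option linter.unusedSectionVars false

namespace CfsgLib.CK

open Module CfsgLib.Tech CfsgLib.TvGen

variable {F V : Type*} [Field F] [Finite F] [AddCommGroup V] [Module F V] [Finite V]

namespace C2

omit [Finite F] [Finite V] in
/-- functionals with the same kernel are proportional -/
theorem prop_of_ker {α β : Dual F V} (hα : α ≠ 0) (h : ∀ z, α z = 0 ↔ β z = 0) :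
    ∃ c : F, c ≠ 0 ∧ α = c • β := by
  obtain ⟨w, hw⟩ : ∃ w, α w ≠ 0 := by
    by_contra hn; push Not at hn; exact hα (LinearMap.ext hn)
  have hb : β w ≠ 0 := fun h1 => hw ((h w).2 h1)
  refine ⟨α w / β w, div_ne_zero hw hb, LinearMap.ext fun z => ?_⟩
  have h1 : β (z - (β z / β w) • w) = 0 := by
    rw [map_sub, map_smul, smul_eq_mul, div_mul_cancel₀ _ hb, sub_self]
  have h2 := (h _).2 h1
  rw [map_sub, map_smul, smul_eq_mul] at h2
  rw [LinearMap.smul_apply, smul_eq_mul]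
  field_simp
  field_simp at h2
  linear_combination h2

omit [Finite F] [Finite V] in
theorem off_two {α β : Dual F V} (hα : α ≠ 0) (hβ : β ≠ 0) : ∃ u, α u ≠ 0 ∧ β u ≠ 0 := by
  obtain ⟨a, ha⟩ : ∃ w, α w ≠ 0 := by
    by_contra hn; push Not at hn; exact hα (LinearMap.ext hn)
  obtain ⟨b, hb⟩ : ∃ w, β w ≠ 0 := by
    by_contra hn; push Not at hn; exact hβ (LinearMap.ext hn)
  by_cases h1 : β a = 0
  · by_cases h2 : α b = 0
    · exact ⟨a + b, by rw [map_add, h2, add_zero]; exact ha, by rw [map_add, h1, zero_add]; exact hb⟩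
    · exact ⟨b, h2, hb⟩
  · exact ⟨a, ha, h1⟩

omit [Finite F] [Finite V] in
/-- three hyperplanes do not cover the space if the field has a third element -/
theorem off_three {α β γ : Dual F V} (hα : α ≠ 0) (hβ : β ≠ 0) (hγ : γ ≠ 0) {t : F} (h0 : t ≠ 0)
    (h1 : t ≠ 1) : ∃ z, α z ≠ 0 ∧ β z ≠ 0 ∧ γ z ≠ 0 := by
  obtain ⟨u, hu, hu'⟩ := off_two hα hβ
  by_cases hγu : γ u = 0
  swap
  · exact ⟨u, hu, hu', hγu⟩
  obtain ⟨c, hc⟩ : ∃ w, γ w ≠ 0 := by
    by_contra hn; push Not at hn; exact hγ (LinearMap.ext hn)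
  have key : ∀ δ : Dual F V, δ u ≠ 0 → ¬ (δ c = 0 ∧ δ (u + c) = 0) ∧
      ¬ (δ c = 0 ∧ δ (u + t • c) = 0) ∧ ¬ (δ (u + c) = 0 ∧ δ (u + t • c) = 0) := by
    intro δ hδ
    simp only [map_add, map_smul, smul_eq_mul]
    refine ⟨fun h => hδ ?_, fun h => hδ ?_, fun h => hδ ?_⟩
    · linear_combination h.2 - h.1
    · linear_combination h.2 - t * h.1
    · have : (t - 1) * δ u = 0 := by linear_combination t * h.1 - h.2
      exact (mul_eq_zero.1 this).resolve_left (sub_ne_zero.2 h1)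
  have g2 : γ (u + c) ≠ 0 := by rw [map_add, hγu, zero_add]; exact hc
  have g3 : γ (u + t • c) ≠ 0 := by
    rw [map_add, hγu, zero_add, map_smul, smul_eq_mul]; exact mul_ne_zero h0 hc
  have ka := key α hu
  have kb := key β hu'
  have hn : ∀ z, γ z ≠ 0 → (∃ z, α z ≠ 0 ∧ β z ≠ 0 ∧ γ z ≠ 0) ∨ α z = 0 ∨ β z = 0 := by
    intro z hz
    by_cases a1 : α z = 0
    · exact Or.inr (Or.inl a1)
    by_cases a2 : β z = 0
    · exact Or.inr (Or.inr a2)
    exact Or.inl ⟨z, a1, a2, hz⟩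
  rcases hn c hc with n1 | n1 | n1
  · exact n1
  all_goals rcases hn _ g2 with n2 | n2 | n2
  any_goals exact n2
  all_goals rcases hn _ g3 with n3 | n3 | n3
  any_goals exact n3
  all_goals first
    | exact (ka.1 (And.intro n1 n2)).elim
    | exact (ka.2.1 (And.intro n1 n3)).elim
    | exact (ka.2.2 (And.intro n2 n3)).elim
    | exact (kb.1 (And.intro n1 n2)).elim
    | exact (kb.2.1 (And.intro n1 n3)).elim
    | exact (kb.2.2 (And.intro n2 n3)).elim

omit [Finite F] [Finite V] in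
theorem skew_of_alt {B : V →ₗ[F] V →ₗ[F] F} (h : ∀ y, B y y = 0) (y z : V) : B y z = -B z y := by
  have := h (y + z)
  simp only [map_add, LinearMap.add_apply, h] at this
  linear_combination this

omit [Finite F] [Finite V] in
theorem indep_of_notMem {x0 x : V} (h0 : x0 ≠ 0) (hx : x ∉ F ∙ x0) :
    LinearIndependent F ![x0, x] := by
  rw [LinearIndependent.pair_iff' h0]
  intro a ha
  exact hx (Submodule.mem_span_singleton.2 ⟨a, ha⟩)

end C2

open C2 in
theorem Gd.tri {R : V → V → V → Prop} (h : Gd F R) (h4 : 4 ≤ finrank F V) :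
    ∃ f : V →ₗ[F] V →ₗ[F] V →ₗ[F] F, ∀ x y z, f x y z = 0 ↔ R x y z := by
  have : Nontrivial V := Module.nontrivial_of_finrank_pos (R := F) (by omega)
  obtain ⟨x0, hx0⟩ := exists_ne (0 : V)
  obtain ⟨B0, hB0⟩ := h.form' x0
  have s12 : ∀ x y z, R x y z ↔ R y x z := fun x y z => ⟨h.s12 _ _ _, h.s12 _ _ _⟩
  have hne : ∀ {B : V →ₗ[F] V →ₗ[F] F} {x : V}, (∀ y z, B y z = 0 ↔ R x y z) →
      ∀ y, LinearIndependent F ![x, y] → B y ≠ 0 := by
    intro B x hB y hi h0
    obtain ⟨φ, hφ, hφ'⟩ := h.hyp x y hi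
    exact hφ (LinearMap.ext fun z => (hφ' z).1 ((hB y z).1 (by rw [h0]; rfl)))
  have hex : ∀ x, ∃ B : V →ₗ[F] V →ₗ[F] F, (∀ y z, B y z = 0 ↔ R x y z) ∧
      (x ∉ F ∙ x0 → B x0 = -B0 x) := by
    intro x
    obtain ⟨B, hB⟩ := h.form' x
    by_cases hx : x ∈ F ∙ x0
    · exact ⟨B, hB, fun h => absurd hx h⟩
    obtain ⟨c, hc, hc'⟩ := prop_of_ker (hne hB0 x (indep_of_notMem hx0 hx)) (β := B x0)
      fun z => by rw [hB0, hB, s12]
    refine ⟨(-c) • B, fun y z => ?_, fun _ => ?_⟩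
    · rw [← hB]; simp [hc]
    · rw [hc']; simp
  choose B hB hBn using hex
  have sk : ∀ x y z, B x y z = -B x z y := fun x =>
    skew_of_alt fun y => (hB x y y).2 (h.r22 x y)
  have sk0 : ∀ y z, B0 y z = -B0 z y := skew_of_alt fun y => (hB0 y y).2 (h.r22 x0 y)
  have hκ : ∀ x y, B x y ≠ 0 → ∃ c : F, c ≠ 0 ∧ B x y = c • B y x := fun x y hxy =>
    prop_of_ker hxy fun z => by rw [hB, hB, s12]
  have hz : ∀ x y, B x y = 0 → B x y = -B y x := by
    intro x y hxy
    have : B y x = 0 := LinearMap.ext fun z =>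
      (hB y x z).2 (h.s12 _ _ _ ((hB x y z).1 (by rw [hxy]; rfl)))
    rw [hxy, this, neg_zero]
  have hA : ∀ x y, x ∉ F ∙ x0 → y ∉ F ∙ x0 → B0 x y ≠ 0 → B x y = -B y x := by
    intro x y hx hy h0
    by_cases hxy : B x y = 0
    · exact hz x y hxy
    obtain ⟨c, -, hc⟩ := hκ x y hxy
    have h1 := LinearMap.congr_fun hc x0
    rw [LinearMap.smul_apply, sk x y x0, sk y x x0, hBn x hx, hBn y hy, LinearMap.neg_apply,
      LinearMap.neg_apply, sk0 y x, smul_eq_mul] at h1
    have h2 : (c + 1) * B0 x y = 0 := by linear_combination h1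
    have h3 : c = -1 := by
      have := (mul_eq_zero.1 h2).resolve_right h0
      linear_combination this
    rw [hc, h3]; exact LinearMap.ext fun z => by simp
  have hS : ∀ x y, x ∉ F ∙ x0 → y ∉ F ∙ x0 → B x y = -B y x := by
    intro x y hx hy
    by_cases hxy : B x y = 0
    · exact hz x y hxy
    obtain ⟨c, hc0, hc⟩ := hκ x y hxy
    by_cases hc1 : -c = 1
    · rw [hc, show c = -1 by linear_combination -hc1]; exact LinearMap.ext fun z => by simp
    obtain ⟨z, z1, z2, z3⟩ := off_three hxy (hne hB0 x (indep_of_notMem hx0 hx))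
      (hne hB0 y (indep_of_notMem hx0 hy)) (neg_ne_zero.2 hc0) hc1
    have hzz : z ∉ F ∙ x0 := by
      intro hm
      obtain ⟨a, rfl⟩ := Submodule.mem_span_singleton.1 hm
      apply z2
      rw [map_smul, (hB0 x x0).2 (h.s23 _ _ _ (h.r11 x0 x)), smul_zero]
    have e1 := LinearMap.congr_fun (hA x z hx hzz z2) y
    have e2 := LinearMap.congr_fun (hA y z hy hzz z3) x
    have e3 := LinearMap.congr_fun hc z
    rw [LinearMap.neg_apply] at e1 e2
    rw [LinearMap.smul_apply, smul_eq_mul] at e3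
    have e4 : B x y z = -B y x z := by
      rw [sk x y z, e1, sk z x y, sk y x z, e2]
    exfalso
    apply hc1
    have e5 : (c + 1) * B y x z = 0 := by linear_combination e4 - e3
    have e6 : B y x z ≠ 0 := fun h => z1 (by rw [e4, h, neg_zero])
    have := (mul_eq_zero.1 e5).resolve_right e6
    linear_combination -this
  obtain ⟨w, hw⟩ : ∃ w, w ∉ F ∙ x0 := by
    by_contra hn
    push Not at hn
    have h1 : (F ∙ x0) = ⊤ := eq_top_iff.2 fun v _ => hn v
    have h2 := finrank_span_singleton (K := F) hx0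
    rw [h1, finrank_top] at h2
    omega
  have hG : ∀ x, ∃ G : V →ₗ[F] V →ₗ[F] F, ∀ y, y ∉ F ∙ x0 → G y = -B y x := by
    intro x
    by_cases hx : x ∈ F ∙ x0
    · obtain ⟨a, rfl⟩ := Submodule.mem_span_singleton.1 hx
      exact ⟨a • B0, fun y hy => by rw [map_smul, hBn y hy]; simp⟩
    · exact ⟨B x, fun y hy => hS x y hx hy⟩
  choose G hG using hG
  let f : V →ₗ[F] V →ₗ[F] V →ₗ[F] F :=
    { toFun := G
      map_add' := fun x x' => ext_off hw fun y hy => by
        rw [LinearMap.add_apply, hG _ y hy, hG _ y hy, hG _ y hy, map_add, neg_add]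
      map_smul' := fun c x => ext_off hw fun y hy => by
        rw [LinearMap.smul_apply, hG _ y hy, hG _ y hy, map_smul]; simp }
  refine ⟨f, fun x y z => ?_⟩
  change G x y z = 0 ↔ _
  by_cases hy : y ∈ F ∙ x0
  swap
  · rw [hG x y hy, LinearMap.neg_apply, neg_eq_zero, hB, s12]
  by_cases hx : x ∈ F ∙ x0
  swap
  · have : G x = B x := ext_off hw fun y hy => by rw [hG x y hy, hS x y hx hy]
    rw [this, hB]
  obtain ⟨a, rfl⟩ := Submodule.mem_span_singleton.1 hx
  obtain ⟨b, rfl⟩ := Submodule.mem_span_singleton.1 hy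
  have h1 : G (a • x0) = a • B0 := ext_off hw fun y hy => by
    rw [hG _ y hy, map_smul, hBn y hy]; simp
  have h2 : R (a • x0) (b • x0) z := by
    refine h.dep _ _ _ fun hi => ?_
    rw [LinearIndependent.pair_iff] at hi
    have := hi b (-a) (by rw [smul_smul, smul_smul, ← add_smul]; simp [mul_comm])
    obtain ⟨rfl, h3⟩ := this
    have := hi 0 1 (by simp)
    exact one_ne_zero this.2
  refine iff_of_true ?_ h2
  rw [h1]
  simp [(hB0 x0 z).2 (h.r11 x0 z)]

end CfsgLib.CK
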