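import Cfsg.Agent.Lib.CK.Eig

/-!
Cameron–Kantor, package C2IV: no nonsingular alternating trilinear form in dimension at least 4.
-/

set_option autoImplicit false
set_option maxHeartbeats 400000

namespace CfsgLib.CK

open Module CfsgLib.Tech CfsgLib.TvGen

variable {F V : Type*} [Field F] [Finite F] [AddCommGroup V] [Module F V] [Finite V]

namespace C2iv

open MvPolynomial Matrix

/-- an alternating double sum vanishes -/
theorem sum_alt {R ι : Type*} [AddCommGroup R] [Fintype ι] (a : ι → ι → R)
    (h1 : ∀ i j, a i j = -a j i) (h2 : ∀ i, a i i = 0) : ∑ i, ∑ j, a i j = 0 := by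
  rw [← Finset.sum_product']
  refine Finset.sum_involution (fun p _ => p.swap) (fun p _ => ?_) (fun p _ hp he => hp ?_)
    (fun p _ => by simp) (fun p _ => rfl)
  · rw [Prod.fst_swap, Prod.snd_swap, h1 p.2 p.1, add_neg_cancel]
  · have : p.2 = p.1 := congrArg Prod.fst he
    rw [this, h2]

/-- kernel vectors of a matrix with a nonzero principal cofactor are proportional -/
theorem ker_prop {R ι : Type*} [CommRing R] [IsDomain R] [Fintype ι] [DecidableEq ι]
    {A : Matrix ι ι R} {k : ι} (hk : A.adjugate k k ≠ 0) {u v : ι → R} (hu : A *ᵥ u = 0)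
    (hv : A *ᵥ v = 0) (j : ι) : u k * v j = v k * u j := by
  rw [adjugate_apply] at hk
  have h : (A.updateRow k (Pi.single k 1)) *ᵥ (u k • v - v k • u) = 0 := by
    funext i
    by_cases hi : i = k
    · subst hi
      simp [mulVec, mul_comm]
    · have : (A *ᵥ (u k • v - v k • u)) i = 0 := by
        rw [mulVec_sub, mulVec_smul, mulVec_smul, hu, hv]; simp
      simpa [mulVec, updateRow_ne hi] using this
  have := congrFun (eq_zero_of_mulVec_eq_zero hk h) j
  simpa [sub_eq_zero] using this

theorem adj_rel {R ι : Type*} [CommRing R] [IsDomain R] [Fintype ι] [DecidableEq ι]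
    {A : Matrix ι ι R} (hA : Aᵀ = -A) {k : ι} (hk : A.adjugate k k ≠ 0) {u : ι → R} (hu0 : u ≠ 0)
    (hu : A *ᵥ u = 0) (j : ι) : u k ^ 2 * A.adjugate j j = u j ^ 2 * A.adjugate k k := by
  have hd : A.det = 0 := exists_mulVec_eq_zero_iff.1 ⟨u, hu0, hu⟩
  have h1 : A *ᵥ (fun i => A.adjugate i j) = 0 := by
    funext i
    have := congrFun (congrFun (mul_adjugate A) i) j
    rw [hd, zero_smul, mul_apply] at this
    exact this
  have h2 : A *ᵥ (fun i => A.adjugate k i) = 0 := by
    funext i
    have := congrFun (congrFun (adjugate_mul A) k) i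
    rw [hd, zero_smul, mul_apply] at this
    have h3 : ∀ l, A i l = -A l i := fun l => by
      have := congrFun (congrFun hA l) i
      simpa using this
    simp only [mulVec, dotProduct, h3, Pi.zero_apply, neg_mul, Finset.sum_neg_distrib, neg_eq_zero]
    simpa [mul_comm] using this
  have e1 := ker_prop hk hu h1 j
  have e2 := ker_prop hk hu h2 j
  linear_combination u k * e1 + u j * e2

theorem adj_hom {R ι : Type*} [CommRing R] [Fintype ι] [DecidableEq ι]
    {A : Matrix ι ι (MvPolynomial ι R)} (hA : ∀ i j, (A i j).IsHomogeneous 1) (k : ι) :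
    (A.adjugate k k).IsHomogeneous (Fintype.card ι - 1) := by
  rw [adjugate_apply, det_apply']
  refine IsHomogeneous.sum _ _ _ fun σ _ => ?_
  have h1 : (∏ i, A.updateRow k (Pi.single k 1) (σ i) i).IsHomogeneous
      (∑ i, if σ i = k then 0 else 1) := by
    refine IsHomogeneous.prod _ _ _ fun i _ => ?_
    split_ifs with hi
    · rw [hi, updateRow_self, Pi.single_apply]
      split_ifs
      · exact isHomogeneous_one _ _
      · exact isHomogeneous_zero _ _ _
    · rw [updateRow_ne hi]; exact hA _ _
  have h2 : (∑ i, if σ i = k then 0 else 1) = Fintype.card ι - 1 := by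
    rw [Equiv.sum_comp σ (fun i => if i = k then 0 else 1)]
    simp [Finset.sum_ite, Finset.filter_ne', Finset.card_erase_of_mem]
  rw [h2] at h1
  have h3 := (isHomogeneous_C ι (((Equiv.Perm.sign σ : ℤˣ) : ℤ) : R)).mul h1
  rw [zero_add] at h3
  simpa using h3

/-- the polynomial core -/
theorem core {ι : Type*} [Fintype ι] [DecidableEq ι] (h4 : 4 ≤ Fintype.card ι)
    (D : ι → MvPolynomial ι F) (hD : ∀ k, (D k).IsHomogeneous (Fintype.card ι - 1))
    (hrel : ∀ k j, D k ≠ 0 → X k ^ 2 * D j = X j ^ 2 * D k)
    (hev : ∀ (x : ι → F) (j : ι), x j ≠ 0 → eval x (D j) ≠ 0) : False := by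
  have := Fintype.ofFinite F
  classical
  obtain ⟨k, l, hkl⟩ := Fintype.exists_pair_of_one_lt_card (α := ι) (by omega)
  have hk : D k ≠ 0 := fun h => hev (fun _ => 1) k one_ne_zero (by rw [h, map_zero])
  have hp : Prime (X k : MvPolynomial ι F) := X_prime
  have h1 : (X k : MvPolynomial ι F) ^ 2 ∣ D k := by
    refine hp.pow_dvd_of_dvd_mul_left 2 (a := X l ^ 2) (fun h => ?_) ⟨D l, (hrel k l hk).symm⟩
    exact hkl (X_dvd_X.1 (hp.dvd_of_dvd_pow h))
  obtain ⟨h, hh⟩ := h1
  have hj : ∀ j, D j = X j ^ 2 * h := fun j => by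
    have := hrel k j hk
    rw [hh] at this
    refine mul_left_cancel₀ (pow_ne_zero 2 hp.ne_zero) ?_
    rw [this]; ring
  have h0 : h ≠ 0 := fun h0 => hk (by rw [hh, h0, mul_zero])
  have hdeg : h.totalDegree < Fintype.card ι := by
    have := totalDegree_le_of_dvd_of_isDomain (f := h) (g := D k) ⟨X k ^ 2, by rw [hh, mul_comm]⟩ hk
    have := (hD k).totalDegree_le
    omega
  have hz : eval (0 : ι → F) h = 0 := by
    have h2 := (hD k).coeff_eq_zero (d := Finsupp.single k 2) (by simp; omega)
    rw [hh, X_pow_eq_monomial] at h2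
    have h3 := coeff_monomial_mul (0 : ι →₀ ℕ) (Finsupp.single k 2) (1 : F) h
    rw [add_zero, one_mul] at h3
    rw [eval_zero, constantCoeff_eq, ← h3, h2]
  have : Fact (ringChar F).Prime := ⟨CharP.char_is_prime F _⟩
  have hc := char_dvd_card_solutions (ringChar F) hdeg
  have h5 : Fintype.card {x : ι → F // eval x h = 0} = 1 := by
    refine Fintype.card_eq_one_iff.2 ⟨⟨0, hz⟩, fun y => Subtype.ext (funext fun j => ?_)⟩
    by_contra hy
    refine hev y.1 j hy ?_
    rw [hj j, map_mul, y.2, mul_zero]
  rw [h5] at hc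
  exact this.out.one_lt.ne' (Nat.dvd_one.1 hc)

end C2iv

open MvPolynomial Matrix C2iv in
theorem no_tri (h4 : 4 ≤ finrank F V) (f : V →ₗ[F] V →ₗ[F] V →ₗ[F] F) (h1 : ∀ x z, f x x z = 0)
    (h2 : ∀ x y, f x y y = 0) (h3 : ∀ x y, LinearIndependent F ![x, y] → f x y ≠ 0) : False := by
  classical
  have b := Module.finBasis F V
  set n := finrank F V
  have s23 : ∀ x y z, f x y z = -f x z y := fun x y z => by
    have := h2 x (y + z)
    simp only [map_add, LinearMap.add_apply, h2] at this
    linear_combination this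
  have s12 : ∀ x y z, f x y z = -f y x z := fun x y z => by
    have := h1 (x + y) z
    simp only [map_add, LinearMap.add_apply, h1] at this
    linear_combination this
  have s13 : ∀ x y z, f x y z = -f z y x := fun x y z => by
    rw [s12 x y z, s23 y x z, s12 y z x]; ring
  have a13 : ∀ x y, f x y x = 0 := fun x y => by rw [s23, h1, neg_zero]
  let A : Matrix (Fin n) (Fin n) (MvPolynomial (Fin n) F) :=
    Matrix.of fun j k => ∑ i, C (f (b i) (b j) (b k)) * X i
  have hA : Aᵀ = -A := by
    ext1 j k
    simp only [A, Matrix.transpose_apply, Matrix.neg_apply, of_apply, ← Finset.sum_neg_distrib]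
    refine Finset.sum_congr rfl fun i _ => ?_
    rw [s23, map_neg, neg_mul]
  have hX : A *ᵥ (fun i => X i) = 0 := by
    funext j
    simp only [A, mulVec, dotProduct, of_apply, Finset.sum_mul, Pi.zero_apply]
    refine sum_alt (fun k i => C (f (b i) (b j) (b k)) * X i * X k) (fun k i => ?_) fun k => ?_
    · rw [s13, map_neg]; ring
    · rw [a13, map_zero, zero_mul, zero_mul]
  have hX0 : (fun i => X i : Fin n → MvPolynomial (Fin n) F) ≠ 0 := fun h =>
    X_ne_zero (R := F) (⟨0, by omega⟩ : Fin n) (congrFun h _)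
  refine core (F := F) (ι := Fin n) (by simpa using h4) (fun k => A.adjugate k k)
    (adj_hom fun i j => IsHomogeneous.sum Finset.univ (fun l => C (f (b l) (b i) (b j)) * X l) 1
      fun l _ => isHomogeneous_C_mul_X _ _)
    (fun k j hk => adj_rel hA hk hX0 hX j) fun x j hx h0 => ?_
  have hm := congrFun (congrFun (RingHom.map_adjugate (eval x) A) j) j
  rw [RingHom.mapMatrix_apply, Matrix.map_apply, h0, adjugate_apply] at hm
  obtain ⟨w, hw0, hw⟩ := exists_mulVec_eq_zero_iff.2 hm.symm
  set X' : V := ∑ i, x i • b i with hX'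
  set W : V := ∑ i, w i • b i with hW
  have hwj : w j = 0 := by
    have := congrFun hw j
    simpa [mulVec] using this
  have hrow : ∀ i, i ≠ j → f X' (b i) W = 0 := fun i hi => by
    have := congrFun hw i
    simp only [mulVec, dotProduct, updateRow_ne hi, RingHom.mapMatrix_apply, Matrix.map_apply, A, of_apply,
      map_sum, map_mul, eval_C, eval_X, Pi.zero_apply] at this
    rw [← this]
    simp only [hX', hW, map_sum, map_smul, LinearMap.sum_apply, LinearMap.smul_apply, smul_eq_mul]
    refine Finset.sum_congr rfl fun k _ => ?_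
    rw [mul_comm]
    congr 1
    exact Finset.sum_congr rfl fun l _ => mul_comm _ _
  have hj : f X' (b j) W = 0 := by
    have h5 := h1 X' W
    nth_rewrite 2 [hX'] at h5
    simp only [map_sum, map_smul, LinearMap.sum_apply, LinearMap.smul_apply, smul_eq_mul] at h5
    rw [Finset.sum_eq_single j (fun i _ hi => by rw [hrow i hi, mul_zero]) (by simp)] at h5
    exact (mul_eq_zero.1 h5).resolve_left hx
  have hall : f X' W = 0 := b.ext fun i => by
    rw [s23, LinearMap.zero_apply, neg_eq_zero]
    by_cases hi : i = j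
    · rw [hi, hj]
    · exact hrow i hi
  refine h3 X' W ?_ hall
  rw [LinearIndependent.pair_iff]
  intro s t hst
  have hc : ∀ i, s * x i + t * w i = 0 := fun i => by
    have := congrArg (fun v => b.repr v i) hst
    simpa [hX', hW, Finsupp.single_apply] using this
  have hs : s = 0 := by
    have := hc j
    rw [hwj, mul_zero, add_zero] at this
    exact (mul_eq_zero.1 this).resolve_right hx
  refine ⟨hs, ?_⟩
  by_contra ht
  refine hw0 (funext fun i => ?_)
  have := hc i
  rw [hs, zero_mul, zero_add] at this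
  exact (mul_eq_zero.1 this).resolve_left ht

end CfsgLib.CK
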