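import Cfsg.Agent.Lib.CK.C1
import Cfsg.Agent.Lib.CK.C2ii
import Cfsg.Agent.Lib.CK.C2iv

/-!
Cameron–Kantor, package C2L: `c = 1` is impossible.
-/

set_option autoImplicit false
set_option maxHeartbeats 400000

namespace CfsgLib.CK

open Module CfsgLib.Tech CfsgLib.TvGen

variable {F V : Type*} [Field F] [Finite F] [AddCommGroup V] [Module F V] [Finite V]

theorem Gd.false {R : V → V → V → Prop} (h : Gd F R) (h4 : 4 ≤ finrank F V) : False := by
  obtain ⟨f, hf⟩ := h.tri h4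
  refine no_tri h4 f (fun x z => (hf x x z).2 (h.r11 x z)) (fun x y => (hf x y y).2 (h.r22 x y))
    fun x y hi h0 => ?_
  obtain ⟨φ, hφ, hφ'⟩ := h.hyp x y hi
  exact hφ (LinearMap.ext fun z => (hφ' z).1 ((hf x y z).1 (by rw [h0]; rfl)))

namespace C2

theorem rk_line {x y : V} (hi : LinearIndependent F ![x, y]) :
    (lin F V).rk ((F ∙ x) ⊔ (F ∙ y)) = 2 := by
  have hx : x ≠ 0 := hi.ne_zero 0
  have hy : y ≠ 0 := hi.ne_zero 1
  refine (lin F V).rk_sup_pts (rk_span hx) (rk_span hy) fun he => ?_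
  rw [LinearIndependent.pair_iff' hx] at hi
  obtain ⟨a, ha⟩ := Submodule.mem_span_singleton.1 (he ▸ Submodule.mem_span_singleton_self y :
    y ∈ F ∙ x)
  exact hi a ha

end C2

theorem not_one {H : Subgroup (V ≃ₗ[F] V)} (h : (lin F V).B0 H) (h4 : 4 ≤ finrank F V) :
    ¬ (lin F V).One H ⊥ ⊤ := by
  intro h1
  refine Gd.false (F := F) (R := fun x y z => LinearIndependent F ![x, y] →
    z ∈ (lin F V).WL H ((F ∙ x) ⊔ (F ∙ y))) ⟨fun x y hi => ?_, fun x y z hi h => absurd h hi,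
    fun x y z hz hi => ?_, fun x y z hz hi => ?_⟩ h4
  · have hx := rk_span (F := F) (hi.ne_zero 0 : x ≠ 0)
    have h2 := h.c_of_one h1 hx (C2.rk_line hi) le_sup_left
    rw [h.Wx_eq hx (C2.rk_line hi) le_sup_left] at h2
    obtain ⟨φ, hφ, he⟩ := exists_of_ck h2
    refine ⟨φ, hφ, fun z => ?_⟩
    rw [he, LinearMap.mem_ker]
    exact ⟨fun h => h hi, fun h _ => h⟩
  · rw [sup_comm]; exact hz (LinearIndependent.pair_symm_iff.1 hi)
  · have hx0 : x ≠ 0 := hi.ne_zero 0
    have hx := rk_span (F := F) hx0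
    by_cases hy : LinearIndependent F ![x, y]
    · have h2 : (F ∙ x) ⊔ (F ∙ z) ≤ (lin F V).WL H ((F ∙ x) ⊔ (F ∙ y)) :=
        sup_le (le_sup_left.trans (h.le_WL (C2.rk_line hy)))
          ((Submodule.span_singleton_le_iff_mem _ _).2 (hz hy))
      exact h.WL_symm hx (C2.rk_line hy) le_sup_left (C2.rk_line hi) le_sup_left h2
        (Submodule.mem_sup_right (Submodule.mem_span_singleton_self y))
    · have h2 : y ∈ F ∙ x := by
        by_contra hn
        exact hy (C2.indep_of_notMem hx0 hn)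
      exact h.le_WL (C2.rk_line hi) (Submodule.mem_sup_left h2)

end CfsgLib.CK
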