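import Cfsg.Agent.Lib.CK.Eig

/-!
Cameron–Kantor, package C2I: null polarity gives a form.
-/

set_option autoImplicit false
set_option maxHeartbeats 400000

namespace CfsgLib.CK

open Module CfsgLib.Tech CfsgLib.TvGen

variable {F V : Type*} [Field F] [Finite F] [AddCommGroup V] [Module F V] [Finite V]

namespace C2

omit [Finite F] [Finite V] in
/-- linear maps agreeing off a proper subspace agree -/
theorem ext_off {W : Type*} [AddCommGroup W] [Module F W] {U : Submodule F V} {w : V} (hw : w ∉ U)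
    {f g : V →ₗ[F] W} (h : ∀ v, v ∉ U → f v = g v) : f = g := by
  ext v
  by_cases hv : v ∈ U
  · have h1 : v + w ∉ U := fun h2 => hw ((U.add_mem_iff_right hv).1 h2)
    have h2 := h _ h1
    rw [map_add, map_add, h w hw] at h2
    exact add_right_cancel h2
  · exact h v hv

omit [Finite F] [Finite V] in
/-- functionals whose kernels agree off a hyperplane have the same kernel -/
theorem ker_off {φ α β : Dual F V} {w : V} (hw : φ w ≠ 0)
    (h : ∀ z, φ z ≠ 0 → (α z = 0 ↔ β z = 0)) {z : V} (hz : α z = 0) : β z = 0 := by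
  by_cases hφ : φ z = 0
  swap
  · exact (h z hφ).1 hz
  by_cases hu : ∃ u, φ u ≠ 0 ∧ α u = 0
  · obtain ⟨u, hu, hα⟩ := hu
    have h1 := (h u hu).1 hα
    have h2 := (h (z + u) (by rw [map_add, hφ, zero_add]; exact hu)).1
      (by rw [map_add, hz, hα, add_zero])
    rwa [map_add, h1, add_zero] at h2
  · by_contra hb
    refine hu ⟨w - (β w / β z) • z, ?_, ?_⟩
    · rw [map_sub, map_smul, hφ, smul_zero, sub_zero]; exact hw
    · refine (h _ ?_).2 ?_
      · rw [map_sub, map_smul, hφ, smul_zero, sub_zero]; exact hw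
      · rw [map_sub, map_smul, smul_eq_mul, div_mul_cancel₀ _ hb, sub_self]

omit [Finite F] [Finite V] in
/-- a null polarity comes from a bilinear form -/
theorem form_of_ker {P : V → V → Prop} (hs : ∀ y z, P y z → P z y) (ha : ∀ y, P y y)
    (hk : ∀ y, ∃ ψ : Dual F V, ∀ z, P y z ↔ ψ z = 0) :
    ∃ B : V →ₗ[F] V →ₗ[F] F, ∀ y z, B y z = 0 ↔ P y z := by
  choose ψ hψ using hk
  by_cases h0 : ∀ y z, P y z
  · exact ⟨0, fun y z => by simp [h0 y z]⟩
  push Not at h0
  obtain ⟨e, w0, hew⟩ := h0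
  have hw0 : ψ e w0 ≠ 0 := fun h => hew ((hψ e w0).2 h)
  set φ0 := ψ e with hφ0
  obtain ⟨w, hw⟩ : ∃ w, φ0 w = 1 :=
    ⟨(φ0 w0)⁻¹ • w0, by rw [map_smul, smul_eq_mul, inv_mul_cancel₀ hw0]⟩
  have hw' : φ0 w ≠ 0 := by rw [hw]; exact one_ne_zero
  have hne : ∀ y, φ0 y ≠ 0 → ψ y e ≠ 0 := fun y hy h =>
    hy ((hψ e y).1 (hs _ _ ((hψ y e).2 h)))
  obtain ⟨φ, hφe, hφk⟩ : ∃ φ : V → Dual F V, (∀ y, φ0 y ≠ 0 → φ y e = -φ0 y) ∧
      ∀ y, φ0 y ≠ 0 → ∀ z, P y z ↔ φ y z = 0 := by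
    refine ⟨fun y => (-φ0 y / ψ y e) • ψ y, fun y hy => ?_, fun y hy z => ?_⟩
    · simp only [LinearMap.smul_apply, smul_eq_mul]
      exact div_mul_cancel₀ _ (hne y hy)
    · simp only [LinearMap.smul_apply, smul_eq_mul, mul_eq_zero]
      rw [hψ]
      have : -φ0 y / ψ y e ≠ 0 := div_ne_zero (neg_ne_zero.2 hy) (hne y hy)
      tauto
  have he : φ0 e = 0 := (hψ e e).1 (ha e)
  have hsk : ∀ y z, φ0 y ≠ 0 → φ0 z ≠ 0 → φ y z = -φ z y := by
    intro y z hy hz
    set r := z - (φ0 z / φ0 y) • y + (φ y z / φ0 y) • e with hr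
    have hyy : φ y y = 0 := (hφk y hy y).1 (ha y)
    have hzz : φ z z = 0 := (hφk z hz z).1 (ha z)
    have h1 : φ0 r = 0 := by
      simp only [hr, map_add, map_sub, map_smul, smul_eq_mul, he]
      field_simp; ring
    have h2 : φ y r = 0 := by
      simp only [hr, map_add, map_sub, map_smul, smul_eq_mul, hyy, hφe y hy]
      field_simp; ring
    have h3 : ψ r e = 0 := (hψ r e).1 (hs _ _ ((hψ e r).2 h1))
    have h4 : ψ r y = 0 := (hψ r y).1 (hs _ _ ((hφk y hy r).2 h2))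
    have h5 : ψ r r = 0 := (hψ r r).1 (ha r)
    have h6 : ψ r z = 0 := by
      have : z = r + (φ0 z / φ0 y) • y - (φ y z / φ0 y) • e := by rw [hr]; abel
      rw [this]
      simp only [map_add, map_sub, map_smul, h3, h4, h5, smul_zero, add_zero, sub_zero]
    have h7 : φ z r = 0 := (hφk z hz r).1 (hs _ _ ((hψ r z).2 h6))
    simp only [hr, map_add, map_sub, map_smul, smul_eq_mul, hzz, hφe z hz] at h7
    field_simp at h7
    have h8 : φ0 z * (φ y z + φ z y) = 0 := by linear_combination -h7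
    rcases mul_eq_zero.1 h8 with h | h
    · exact absurd h hz
    · linear_combination h
  obtain ⟨G, hG⟩ : ∃ G : V → Dual F V, ∀ y z, φ0 z ≠ 0 → G y z = -φ z y := by
    refine ⟨fun y => φ (y + (1 - φ0 y) • w) - (1 - φ0 y) • φ w, fun y z hz => ?_⟩
    have h1 : φ0 (y + (1 - φ0 y) • w) ≠ 0 := by
      rw [map_add, map_smul, hw, smul_eq_mul, mul_one, add_sub_cancel]; exact one_ne_zero
    simp only [LinearMap.sub_apply, LinearMap.smul_apply, smul_eq_mul]
    rw [hsk _ z h1 hz, hsk w z hw' hz, map_add, map_smul, smul_eq_mul]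
    ring
  have hwk : w ∉ LinearMap.ker φ0 := hw'
  let B : V →ₗ[F] V →ₗ[F] F :=
    { toFun := G
      map_add' := fun y y' => ext_off hwk fun z hz => by
        rw [LinearMap.add_apply, hG _ z hz, hG _ z hz, hG _ z hz, map_add]; ring
      map_smul' := fun c y => ext_off hwk fun z hz => by
        rw [LinearMap.smul_apply, hG _ z hz, hG _ z hz, map_smul]; simp }
  refine ⟨B, fun y z => ?_⟩
  have hoff : ∀ z, φ0 z ≠ 0 → (G y z = 0 ↔ ψ y z = 0) := fun z hz => by
    rw [hG y z hz, neg_eq_zero, ← hφk z hz, ← hψ]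
    exact ⟨hs _ _, hs _ _⟩
  change G y z = 0 ↔ _
  rw [hψ]
  exact ⟨ker_off hw' hoff, ker_off hw' fun z hz => (hoff z hz).symm⟩

omit [Finite F] [Finite V] in
theorem not_indep_self (x : V) : ¬ LinearIndependent F ![x, x] := fun h => by
  have := h.injective (a₁ := 0) (a₂ := 1) (by simp)
  exact absurd this (by decide)

end C2

omit [Finite F] [Finite V] in
theorem Gd.r11 {R : V → V → V → Prop} (h : Gd F R) (x z : V) : R x x z :=
  h.dep x x z (C2.not_indep_self x)

omit [Finite F] [Finite V] in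
theorem Gd.r22 {R : V → V → V → Prop} (h : Gd F R) (x y : V) : R x y y :=
  h.s12 _ _ _ (h.s23 _ _ _ (h.r11 y x))

omit [Finite F] [Finite V] in
theorem Gd.form' {R : V → V → V → Prop} (h : Gd F R) (x : V) :
    ∃ B : V →ₗ[F] V →ₗ[F] F, ∀ y z, B y z = 0 ↔ R x y z := by
  refine C2.form_of_ker (fun y z => h.s23 x y z) (h.r22 x) fun y => ?_
  by_cases hi : LinearIndependent F ![x, y]
  · obtain ⟨φ, -, hφ⟩ := h.hyp x y hi
    exact ⟨φ, hφ⟩
  · exact ⟨0, fun z => by simp [h.dep x y z hi]⟩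

omit [Finite F] in
theorem Gd.form {R : V → V → V → Prop} (h : Gd F R) (h4 : 4 ≤ finrank F V) {x : V} (hx : x ≠ 0) :
    ∃ B : V →ₗ[F] V →ₗ[F] F, ∀ y z, B y z = 0 ↔ R x y z := by
  exact h.form' x

end CfsgLib.CK
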