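import Cfsg.Agent.Lib.CK.C1

/-!
Cameron–Kantor, package C3: `c = c'`.
-/

set_option autoImplicit false

namespace CfsgLib.CK.PG

open CfsgLib.Tech

variable {G L : Type*} [Group G] [CompleteLattice L] [MulAction G L] [Finite G] [Finite L]
  {P : PG G L}

variable {Γ : Subgroup G} {c c' : ℕ}

omit [Finite G] in
theorem B0.c3_flag (h : P.B0 Γ) : ∃ x H, P.rk x = 1 ∧ P.ck H = 1 ∧ x ≤ H := by
  have := h.three
  obtain ⟨x, -, -, hx⟩ := P.exists_rk (bot_le (a := (⊤ : L))) (k := 1) (by rw [P.rk_bot]; omega) (by rw [P.rk_top]; omega)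
  have := P.rk_add_ck x
  obtain ⟨H, h1, -, hH⟩ := P.exists_ck (le_top (a := x)) (k := 1) (by rw [P.ck_top]; omega) (by omega)
  exact ⟨x, H, hx, hH, h1⟩

/-- the count of C3 -/
theorem C0.count (h : P.C0 Γ c c') {x H : L} (hx : P.rk x = 1) (hH : P.ck H = 1) (hxH : x ≤ H) :
    ∃ i j, 1 ≤ i ∧ i < c ∧ 1 ≤ j ∧ P.θ c * P.θ i = P.θ c' * P.θ j ∧
      (∀ l, P.rk l = 2 → x ≤ l → l ≤ Nx Γ x H → P.ck (P.WL Γ l ⊔ Ux Γ x H) = i + 1) ∧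
      ∀ D, P.ck D = 2 → D ≤ H → Ux Γ x H ≤ D → ∃ M, x ≤ M ∧ M ≤ Nx Γ x H ∧ P.rk M = j + 1 ∧
        (∀ l, P.rk l = 2 → x ≤ l → (l ≤ M ↔ P.WL Γ l ≤ D)) ∧
        ∀ H', P.ck H' = 1 → D ≤ H' → M ≤ Nx Γ x H' := by
  have b := h.b0
  have xU := b.le_Ux hx hH hxH
  have UH := (b.Ux_lt hx hH hxH).le
  have xN := (b.lt_Nx hx hH hxH).le
  obtain ⟨S, hS, fx, fH⟩ := b.exists_syl hx hH hxH
  obtain ⟨l₀, h1, fl⟩ := (b.at_x hx).exists_fx_pt (hS.of_le (le_Stab hS.le fx) (Stab_le _ _))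
  obtain ⟨xl, -, hl⟩ := (P.pt_line hx).1 h1
  have lN := b.le_Nx_of_syl hS hx hl hH xl hxH fx fl fH
  have WH := (b.le_Nx_iff hx hl hH xl hxH).1 lN
  have e1 := P.d_add_ck WH
  have e2 := h.ck_WL hl
  have e3 := h.two_le
  obtain ⟨D₀, h2, fD⟩ := exists_fx P.pp hS.pgroup
    (inv_hy (P := P) (fun g hg => by rw [P.smul_WL (hS.le hg), fl g hg] : Fx S (P.WL Γ l₀)) fH) (by
      rw [P.ncard_hy WH]
      exact P.not_dvd_θ (by omega))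
  obtain ⟨DH, WD, hD⟩ := (P.hy_co hH).1 h2
  have UD := b.Ux_le_of_syl hS hH hD hx DH hxH fH fD fx
  let M : L → L := fun D => sInf {U | ∃ H', P.ck H' = 1 ∧ D ≤ H' ∧ U = Nx Γ x H'}
  have m1 : ∀ D, x ≤ D → x ≤ M D := fun D hxD => le_sInf (by
    rintro _ ⟨H', h3, h4, rfl⟩
    exact (b.lt_Nx hx h3 (hxD.trans h4)).le)
  have m2 : ∀ D H', P.ck H' = 1 → D ≤ H' → M D ≤ Nx Γ x H' := fun D H' h3 h4 => sInf_le ⟨H', h3, h4, rfl⟩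
  have m3 : ∀ D, x ≤ D → ∀ l, P.rk l = 2 → x ≤ l → (l ≤ M D ↔ P.WL Γ l ≤ D) := fun D hxD l h3 h4 =>
    ⟨fun h5 => P.le_of_ck1 fun H' h6 h7 => (b.le_Nx_iff hx h3 h6 h4 (hxD.trans h7)).1 (h5.trans (m2 D H' h6 h7)),
      fun h5 => le_sInf (by
        rintro _ ⟨H', h6, h7, rfl⟩
        exact (b.le_Nx_iff hx h3 h6 h4 (hxD.trans h7)).2 (h5.trans h7))⟩
  have i1 := P.ck_anti (sup_le WD UD)
  have i2 := P.ck_anti (le_sup_left : P.WL Γ l₀ ≤ P.WL Γ l₀ ⊔ Ux Γ x H)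
  have j1 := P.rk_mono ((m3 D₀ (xU.trans UD) l₀ hl xl).2 WD)
  obtain ⟨i, hi⟩ : ∃ i, P.ck (P.WL Γ l₀ ⊔ Ux Γ x H) = i + 1 := ⟨P.ck (P.WL Γ l₀ ⊔ Ux Γ x H) - 1, by omega⟩
  obtain ⟨j, hj⟩ : ∃ j, P.rk (M D₀) = j + 1 := ⟨P.rk (M D₀) - 1, by omega⟩
  have a1 : ∀ l, P.rk l = 2 → x ≤ l → l ≤ Nx Γ x H → P.ck (P.WL Γ l ⊔ Ux Γ x H) = i + 1 := fun l h3 h4 h5 => by
    obtain ⟨g, hg, e⟩ := b.tr_Nx hx hH hxH l₀ ⟨hl, xl, lN⟩ l ⟨h3, h4, h5⟩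
    rw [← hi, ← P.ck_smul g (P.WL Γ l₀ ⊔ _), P.smul_sup, P.smul_WL hg.1.1, P.smul_Ux hg.1.1, e, hg.1.2, hg.2]
  have a2 : ∀ D, P.ck D = 2 → D ≤ H → Ux Γ x H ≤ D → P.rk (M D) = j + 1 := fun D h3 h4 h5 => by
    obtain ⟨g, hg, e⟩ := b.tr_Ux hx hH hxH D₀ ⟨hD, DH, UD⟩ D ⟨h3, h4, h5⟩
    have gx : g • x = x := hg.2
    rw [← hj, ← P.rk_smul g (M D₀), P.smul_sInf g (T := {U | ∃ H', P.ck H' = 1 ∧ D ≤ H' ∧ U = Nx Γ x H'}) fun U => ?_]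
    constructor
    · rintro ⟨H', h6, h7, rfl⟩
      exact ⟨g • H', by rw [P.ck_smul, h6], by rw [← e]; exact P.smul_mono g h7, by rw [P.smul_Nx hg.1.1, gx]⟩
    · rintro ⟨H', h6, h7, h8⟩
      refine ⟨g⁻¹ • H', by rw [P.ck_smul, h6], by rw [P.le_smul_iff', inv_inv, e]; exact h7, MulAction.injective g ?_⟩
      simp only [h8, P.smul_Nx hg.1.1, gx, smul_inv_smul]
  refine ⟨i, j, by omega, by omega, by omega, ?_, a1, fun D h3 h4 h5 =>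
    ⟨M D, m1 D (xU.trans h5), m2 D H hH h4, a2 D h3 h4 h5, m3 D (xU.trans h5), m2 D⟩⟩
  have k1 := P.rk_add_d xN
  have k2 := P.d_add_ck UH
  have := dc_eq {l | P.Pt x (Nx Γ x H) l} {D | P.Hy (Ux Γ x H) H D} (fun l D => P.WL Γ l ≤ D) (m := P.θ i) (k := P.θ j)
    (fun l h3 => ?_) fun D h3 => ?_
  · rw [P.ncard_pt xN, P.ncard_hy UH] at this
    rw [h.rk_Nx hx hH hxH] at k1
    rw [h.ck_Ux hx hH hxH] at k2
    rwa [show P.d x (Nx Γ x H) = c by omega, show P.d (Ux Γ x H) H = c' by omega] at this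
  · obtain ⟨h4, h5, h6⟩ := (P.pt_line hx).1 h3
    have h7 := sup_le ((b.le_Nx_iff hx h6 hH h4 hxH).1 h5) UH
    have h8 := P.d_add_ck h7
    rw [a1 l h6 h4 h5] at h8
    rw [← show P.d (P.WL Γ l ⊔ Ux Γ x H) H = i by omega, ← P.ncard_hy h7]
    congr 1
    ext D
    exact ⟨fun h9 => ⟨h9.1.1, sup_le h9.2 h9.1.2.1, h9.1.2.2⟩,
      fun h9 => ⟨Hy.mono h9 (le_sup_right.trans h9.2.1), le_sup_left.trans h9.2.1⟩⟩
  · obtain ⟨h4, h5, h6⟩ := (P.hy_co hH).1 h3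
    have h7 := m1 D (xU.trans h5)
    have h8 := P.rk_add_d h7
    rw [a2 D h6 h4 h5] at h8
    rw [← show P.d x (M D) = j by omega, ← P.ncard_pt h7]
    congr 1
    ext l
    exact ⟨fun h9 => Pt.mono h9.1 ((m3 D (xU.trans h5) l ((P.pt_line hx).1 h9.1).2.2 h9.1.1).2 h9.2),
      fun h9 => ⟨Pt.mono h9 (h9.2.1.trans (m2 D H hH h4)),
        (m3 D (xU.trans h5) l ((P.pt_line hx).1 h9).2.2 h9.1).1 h9.2.1⟩⟩

theorem C0.c3_le (h : P.C0 Γ c c') : c' ≤ c := by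
  obtain ⟨x, H, hx, hH, hxH⟩ := h.b0.c3_flag
  obtain ⟨i, j, h1, h2, h3, h4, -⟩ := h.count hx hH hxH
  have := h.two_le
  have := h.two_le'
  have := P.θ_mul_inj (by omega) h1 (by omega) h3 h4
  omega

theorem C0.eq (h : P.C0 Γ c c') : c = c' := by
  exact le_antisymm h.dual.c3_le h.c3_le

theorem C0.dim (h : P.C0 Γ c c) : 2 * c + 2 ≤ P.n := by
  obtain ⟨x, H, hx, hH, hxH⟩ := h.b0.c3_flag
  have h1 := P.rk_mono (h.Nx_le_Ux hx hH hxH)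
  have h2 := P.rk_add_ck (Ux Γ x H)
  rw [h.rk_Nx hx hH hxH] at h1
  rw [h.ck_Ux hx hH hxH] at h2
  omega

theorem C0.Nx_le_WL (h : P.C0 Γ c c) {x l H : L} (hx : P.rk x = 1) (hl : P.rk l = 2)
    (hH : P.ck H = 1) (hxl : x ≤ l) (hxH : x ≤ H) (hle : l ≤ Nx Γ x H) :
    Nx Γ x H ≤ P.WL Γ l := by
  have := h.dim
  exact h.dich.resolve_right (by omega) x l H hx hl hH hxl hxH hle

theorem C0.NL_le_Ux (h : P.C0 Γ c c) {x D H : L} (hH : P.ck H = 1) (hD : P.ck D = 2)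
    (hx : P.rk x = 1) (hDH : D ≤ H) (hxH : x ≤ H) (hle : Ux Γ x H ≤ D) :
    P.NL Γ D ≤ Ux Γ x H := h.dual.Nx_le_WL hH hD hx hDH hxH hle

end CfsgLib.CK.PG
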