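import Cfsg.Agent.Lib.CK.C3

/-!
Cameron–Kantor, package C4A: `j = c - 1` and its consequences.
-/

set_option autoImplicit false

namespace CfsgLib.CK.PG

open CfsgLib.Tech

variable {G L : Type*} [Group G] [CompleteLattice L] [MulAction G L] [Finite G] [Finite L]
  {P : PG G L}

variable {Γ : Subgroup G} {c : ℕ}

theorem B0.le_WL_iff (h : P.B0 Γ) {x y l : L} (hx : P.rk x = 1) (hy : P.rk y = 1) (hn : x ≠ y) (hl : P.rk l = 2)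
    (hxl : x ≤ l) : y ≤ P.WL Γ l ↔ l ≤ P.WL Γ (x ⊔ y) :=
  ⟨fun e => h.WL_symm hx hl hxl (P.rk_sup_pts hx hy hn) le_sup_left (sup_le (hxl.trans (h.le_WL hl)) e),
    fun e => le_sup_right.trans (h.WL_symm hx (P.rk_sup_pts hx hy hn) le_sup_left hl hxl e)⟩

/-- the count of C4 -/
theorem C0.key (h : P.C0 Γ c c) {x H D : L} (hx : P.rk x = 1) (hH : P.ck H = 1) (hxH : x ≤ H)
    (hD : P.ck D = 2) (hDH : D ≤ H) (hU : Ux Γ x H ≤ D) :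
    (∀ l, P.rk l = 2 → x ≤ l → l ≤ Nx Γ x H → P.ck (P.WL Γ l ⊔ Ux Γ x H) = c) ∧
      ∀ y, P.rk y = 1 → y ≤ H → ¬ y ≤ D → P.rk (Nx Γ x H ⊓ P.WL Γ (x ⊔ y)) = 2 := by
  have b := h.b0
  obtain ⟨i, j, i1, i2, j1, e, h1, h2⟩ := h.count hx hH hxH
  obtain rfl : i = j := P.θ_inj (Nat.eq_of_mul_eq_mul_left (P.θ_pos (by omega)) e)
  obtain ⟨M, m1, m2, m3, m4, -⟩ := h2 D hD hDH hU
  have hN := h.rk_Nx hx hH hxH
  have ne : ∀ {y}, ¬ y ≤ D → x ≠ y := fun hn e => hn (e ▸ (b.le_Ux hx hH hxH).trans hU)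
  have xl : ∀ {y}, P.rk y = 1 → ¬ y ≤ D → x ≤ Nx Γ x H ⊓ P.WL Γ (x ⊔ y) := fun hy hn =>
    le_inf (b.lt_Nx hx hH hxH).le (le_sup_left.trans (b.le_WL (P.rk_sup_pts hx hy (ne hn))))
  suffices ∀ y, P.rk y = 1 → y ≤ H → ¬ y ≤ D → i + 1 = c ∧ P.rk (Nx Γ x H ⊓ P.WL Γ (x ⊔ y)) = 2 by
    obtain ⟨y, y1, y2, y3⟩ := P.exists_rk1 (a := H) (b := D) fun e => by have := P.ck_anti e; omega
    exact ⟨fun l a1 a2 a3 => (h1 l a1 a2 a3).trans (this y y1 y2 y3).1, fun y a1 a2 a3 => (this y a1 a2 a3).2⟩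
  intro y y1 y2 y3
  have := dc_eq {l | P.Pt x (Nx Γ x H) l ∧ ¬ l ≤ M} {y | P.Pt ⊥ H y ∧ ¬ y ≤ D} (fun l y => y ≤ P.WL Γ l)
    (m := P.q ^ (P.n - c - 1)) (k := P.θ (P.d x (Nx Γ x H ⊓ P.WL Γ (x ⊔ y)))) ?_ ?_
  · rw [P.ncard_pt_off m1 m2, P.ncard_pt_off bot_le hDH, mul_right_comm, ← pow_add] at this
    have a1 := P.rk_add_d m1
    have a2 := P.rk_add_d m2
    have a3 := P.d_add_ck hDH
    have a4 := P.rk_add_ck D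
    have a5 := P.rk_add_d (xl y1 y3)
    have a6 := h.lt
    rw [show P.d D H = 1 by omega, P.θ_one, mul_one] at this
    have := P.pow_mul_θ_inj (by omega) (Nat.one_le_iff_ne_zero.2 fun e => by
      rw [e, P.θ_zero, mul_zero] at this
      exact (Nat.mul_pos (pow_pos P.q_pos _) (P.θ_pos (by omega))).ne' this) this
    rw [P.d_bot] at this
    omega
  · rintro l ⟨hl, hn⟩
    obtain ⟨l1, l2, l3⟩ := (P.pt_line hx).1 hl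
    have w := (b.le_Nx_iff hx l3 hH l1 hxH).1 l2
    have a1 := (P.hy_co hH).2 ⟨hDH, bot_le, hD⟩ |>.rk_inf w (mt (m4 l l3 l1).2 hn)
    have a2 := P.rk_add_d (inf_le_left : P.WL Γ l ⊓ D ≤ _)
    have a3 := P.rk_add_ck (P.WL Γ l)
    have a4 := h.ck_WL l3
    have := P.ncard_pt_off (bot_le : ⊥ ≤ P.WL Γ l ⊓ D) inf_le_left
    rw [show P.d _ (P.WL Γ l) = 1 by omega, P.θ_one, mul_one, P.d_bot,
      show P.rk (P.WL Γ l ⊓ D) = P.n - c - 1 by omega] at this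
    rw [← this]
    congr 1
    ext y
    exact ⟨fun k => ⟨k.1.1.mono k.2, fun e => k.1.2 (e.trans inf_le_right)⟩,
      fun k => ⟨⟨k.1.mono (k.1.2.1.trans w), fun e => k.2 (le_inf k.1.2.1 e)⟩, k.1.2.1⟩⟩
  · rintro z ⟨hz, z3⟩
    obtain ⟨z2, z1⟩ := P.pt_bot.1 hz
    obtain ⟨g, ⟨⟨⟨g1, g2 : g • H = H⟩, g3 : g • x = x⟩, -⟩, e⟩ := b.tr_HD hH hD hx hDH hxH hU y ⟨y1, y2, y3⟩ z ⟨z1, z2, z3⟩
    rw [← P.d_smul g, P.smul_inf, P.smul_Nx g1, P.smul_WL g1, P.smul_sup, g2, g3, e, ← P.ncard_pt (xl z1 z3)]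
    congr 1
    ext l
    refine ⟨fun k => k.1.1.mono (le_inf k.1.1.2.1 ?_), fun k => ?_⟩
    · obtain ⟨l1, -, l3⟩ := (P.pt_line hx).1 k.1.1
      exact (b.le_WL_iff hx z1 (ne z3) l3 l1).1 k.2
    · obtain ⟨l1, l2, l3⟩ := (P.pt_line hx).1 k
      have := (b.le_WL_iff hx z1 (ne z3) l3 l1).2 (l2.trans inf_le_right)
      exact ⟨⟨Pt.mono k (l2.trans inf_le_left), fun e => z3 (this.trans ((m4 l l3 l1).1 e))⟩, this⟩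

theorem C0.Ux_le_WL (h : P.C0 Γ c c) {x l H : L} (hx : P.rk x = 1) (hl : P.rk l = 2)
    (hH : P.ck H = 1) (hxl : x ≤ l) (hxH : x ≤ H) (hle : l ≤ Nx Γ x H) :
    Ux Γ x H ≤ P.WL Γ l := by
  have := h.ck_Ux hx hH hxH
  have := h.two_le
  obtain ⟨D, d1, d2, d3⟩ := P.exists_ck (h.b0.Ux_lt hx hH hxH).le (k := 2) (by omega) (by omega)
  exact sup_eq_left.1 (P.eq_of_ck_le le_sup_left
    (by rw [(h.key hx hH hxH d3 d2 d1).1 l hl hxl hle, h.ck_WL hl])).symm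

theorem C0.NL_le_Nx (h : P.C0 Γ c c) {x D H : L} (hH : P.ck H = 1) (hD : P.ck D = 2)
    (hx : P.rk x = 1) (hDH : D ≤ H) (hxH : x ≤ H) (hle : Ux Γ x H ≤ D) :
    P.NL Γ D ≤ Nx Γ x H := h.dual.Ux_le_WL hH hD hx hDH hxH hle

theorem C0.unique_line (h : P.C0 Γ c c) {x H y : L} (hx : P.rk x = 1) (hH : P.ck H = 1)
    (hxH : x ≤ H) (hy : P.rk y = 1) (hyH : y ≤ H) (hyU : ¬ y ≤ Ux Γ x H) :
    ∃! l, P.rk l = 2 ∧ x ≤ l ∧ l ≤ Nx Γ x H ∧ y ≤ P.WL Γ l := by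
  have b := h.b0
  obtain ⟨D, hD, hn⟩ := P.exists_hy (b.Ux_lt hx hH hxH).le hyH hyU
  obtain ⟨d1, d2, d3⟩ := (P.hy_co hH).1 hD
  have k := (h.key hx hH hxH d3 d1 d2).2 y hy hyH hn
  have ne : x ≠ y := fun e => hyU (e ▸ b.le_Ux hx hH hxH)
  have xl : x ≤ Nx Γ x H ⊓ P.WL Γ (x ⊔ y) :=
    le_inf (b.lt_Nx hx hH hxH).le (le_sup_left.trans (b.le_WL (P.rk_sup_pts hx hy ne)))
  exact ⟨_, ⟨k, xl, inf_le_left, (b.le_WL_iff hx hy ne k xl).2 inf_le_right⟩, fun l ⟨l1, l2, l3, l4⟩ =>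
    P.eq_of_rk_le (le_inf l3 ((b.le_WL_iff hx hy ne l1 l2).1 l4)) (by omega)⟩

theorem C0.WL_inj_x (h : P.C0 Γ c c) {x l l' H : L} (hx : P.rk x = 1) (hH : P.ck H = 1)
    (hxH : x ≤ H) (hl : P.rk l = 2) (hxl : x ≤ l) (hle : l ≤ Nx Γ x H) (hl' : P.rk l' = 2)
    (hxl' : x ≤ l') (hle' : l' ≤ Nx Γ x H) (e : P.WL Γ l = P.WL Γ l') : l = l' := by
  obtain ⟨y, y1, y2, y3⟩ := P.exists_rk1 (a := P.WL Γ l) (b := Ux Γ x H) fun k => by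
    have := P.ck_anti k
    rw [h.ck_Ux hx hH hxH, h.ck_WL hl] at this
    omega
  exact (h.unique_line hx hH hxH y1 (y2.trans ((h.b0.le_Nx_iff hx hl hH hxl hxH).1 hle)) y3).unique
    ⟨hl, hxl, hle, y2⟩ ⟨hl', hxl', hle', e ▸ y2⟩

theorem C0.NL_inj_H (h : P.C0 Γ c c) {x D D' H : L} (hH : P.ck H = 1) (hx : P.rk x = 1)
    (hxH : x ≤ H) (hD : P.ck D = 2) (hDH : D ≤ H) (hle : Ux Γ x H ≤ D) (hD' : P.ck D' = 2)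
    (hDH' : D' ≤ H) (hle' : Ux Γ x H ≤ D') (e : P.NL Γ D = P.NL Γ D') : D = D' :=
  h.dual.WL_inj_x hH hx hxH hD hDH hle hD' hDH' hle' e

theorem C0.Nx_inj (h : P.C0 Γ c c) {x H H' : L} (hx : P.rk x = 1) (hH : P.ck H = 1) (hxH : x ≤ H)
    (hH' : P.ck H' = 1) (hxH' : x ≤ H') (e : Nx Γ x H = Nx Γ x H') : H = H' := by
  have b := h.b0
  refine P.eq_of_ck_le (P.le_of_rk1 fun y y1 y2 => ?_) (by omega)
  obtain ⟨l, l1, l2, l3, l4⟩ : ∃ l, P.rk l = 2 ∧ x ≤ l ∧ l ≤ Nx Γ x H ∧ y ≤ P.WL Γ l := by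
    by_cases hU : y ≤ Ux Γ x H
    · obtain ⟨l, hl⟩ := P.exists_pt' (b.lt_Nx hx hH hxH)
      obtain ⟨l1, l2, l3⟩ := (P.pt_line hx).1 hl
      exact ⟨l, l3, l1, l2, hU.trans (h.Ux_le_WL hx l3 hH l1 hxH l2)⟩
    · exact (h.unique_line hx hH hxH y1 y2 hU).exists
  exact l4.trans ((b.le_Nx_iff hx l1 hH' l2 hxH').1 (e ▸ l3))

theorem C0.Ux_inj (h : P.C0 Γ c c) {x x' H : L} (hH : P.ck H = 1) (hx : P.rk x = 1) (hxH : x ≤ H)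
    (hx' : P.rk x' = 1) (hxH' : x' ≤ H) (e : Ux Γ x H = Ux Γ x' H) : x = x' :=
  h.dual.Nx_inj hH hx hxH hx' hxH' e

theorem C0.Ux_eq_inf (h : P.C0 Γ c c) {x l l' H : L} (hx : P.rk x = 1) (hH : P.ck H = 1)
    (hxH : x ≤ H) (hl : P.rk l = 2) (hxl : x ≤ l) (hle : l ≤ Nx Γ x H) (hl' : P.rk l' = 2)
    (hxl' : x ≤ l') (hle' : l' ≤ Nx Γ x H) (hne : l ≠ l') : Ux Γ x H = P.WL Γ l ⊓ P.WL Γ l' := by
  refine P.eq_of_ck_le (le_inf (h.Ux_le_WL hx hl hH hxl hxH hle) (h.Ux_le_WL hx hl' hH hxl' hxH hle')) ?_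
  have := P.ck_lt (inf_lt_left.2 fun k => hne (h.WL_inj_x hx hH hxH hl hxl hle hl' hxl' hle'
    (P.eq_of_ck_le k (by rw [h.ck_WL hl, h.ck_WL hl']))))
  rw [h.ck_WL hl] at this
  rwa [h.ck_Ux hx hH hxH]

theorem C0.Nx_eq_sup (h : P.C0 Γ c c) {x D D' H : L} (hH : P.ck H = 1) (hx : P.rk x = 1)
    (hxH : x ≤ H) (hD : P.ck D = 2) (hDH : D ≤ H) (hle : Ux Γ x H ≤ D) (hD' : P.ck D' = 2)
    (hDH' : D' ≤ H) (hle' : Ux Γ x H ≤ D') (hne : D ≠ D') : Nx Γ x H = P.NL Γ D ⊔ P.NL Γ D' :=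
  h.dual.Ux_eq_inf hH hx hxH hD hDH hle hD' hDH' hle' hne

theorem C0.NL_eq_inf (h : P.C0 Γ c c) {x D H H' : L} (hx : P.rk x = 1) (hD : P.ck D = 2)
    (hxD : x ≤ P.NL Γ D) (hH : P.ck H = 1) (hDH : D ≤ H) (hH' : P.ck H' = 1) (hDH' : D ≤ H')
    (hne : H ≠ H') : P.NL Γ D = Nx Γ x H ⊓ Nx Γ x H' := by
  have b := h.b0
  have xD := hxD.trans (b.NL_le hD)
  have k : ∀ {H}, P.ck H = 1 → D ≤ H → P.NL Γ D ≤ Nx Γ x H := fun hH hDH =>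
    h.NL_le_Nx hH hD hx hDH (xD.trans hDH) ((b.Ux_le_iff hH hD hx hDH (xD.trans hDH)).2 hxD)
  refine P.eq_of_rk_le (le_inf (k hH hDH) (k hH' hDH')) ?_
  have a1 := h.rk_Nx hx hH (xD.trans hDH)
  have a2 := h.rk_Nx hx hH' (xD.trans hDH')
  have := P.rk_lt (inf_lt_left.2 fun e => hne (h.Nx_inj hx hH (xD.trans hDH) hH' (xD.trans hDH')
    (P.eq_of_rk_le e (by omega))))
  rw [h.rk_NL hD]
  omega

theorem C0.WL_eq_sup (h : P.C0 Γ c c) {H l x x' : L} (hH : P.ck H = 1) (hl : P.rk l = 2)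
    (hlH : P.WL Γ l ≤ H) (hx : P.rk x = 1) (hxl : x ≤ l) (hx' : P.rk x' = 1) (hxl' : x' ≤ l)
    (hne : x ≠ x') : P.WL Γ l = Ux Γ x H ⊔ Ux Γ x' H :=
  h.dual.NL_eq_inf hH hl hlH hx hxl hx' hxl' hne

theorem C0.le_NL (h : P.C0 Γ c c) {l D : L} (hl : P.rk l = 2) (hD : P.ck D = 2) (e : P.WL Γ l ≤ D) :
    l ≤ P.NL Γ D := P.le_of_rk1 fun x hx hxl => by
  obtain ⟨H, hDH, -, hH⟩ := P.exists_ck (le_top : D ≤ ⊤) (k := 1) (by rw [P.ck_top]; omega) (by omega)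
  have hxH := hxl.trans ((h.b0.le_WL hl).trans (e.trans hDH))
  exact (h.b0.Ux_le_iff hH hD hx hDH hxH).1 ((h.Ux_le_WL hx hl hH hxl hxH
    ((h.b0.le_Nx_iff hx hl hH hxl hxH).2 (e.trans hDH))).trans e)

theorem C0.WL_le_iff (h : P.C0 Γ c c) {l D : L} (hl : P.rk l = 2) (hD : P.ck D = 2) :
    P.WL Γ l ≤ D ↔ l ≤ P.NL Γ D := by
  exact ⟨h.le_NL hl hD, h.dual.le_NL hD hl⟩

/-- every hyperplane of `N(x,H)` through `x` is an `N*(D)` -/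
theorem C0.exists_NL (h : P.C0 Γ c c) {x H M : L} (hx : P.rk x = 1) (hH : P.ck H = 1)
    (hxH : x ≤ H) (hxM : x ≤ M) (hM : M ≤ Nx Γ x H) (hr : P.rk M = c) :
    ∃ D, P.ck D = 2 ∧ D ≤ H ∧ Ux Γ x H ≤ D ∧ M = P.NL Γ D := by
  have b := h.b0
  have a1 := h.rk_Nx hx hH hxH
  have a2 := h.ck_Ux hx hH hxH
  have a3 := P.rk_add_d (b.lt_Nx hx hH hxH).le
  have a4 := P.d_add_ck (b.Ux_lt hx hH hxH).le
  obtain ⟨D, hD, e⟩ := Set.surj_on_of_inj_on_of_ncard_le (s := {D | P.Hy (Ux Γ x H) H D})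
    (t := {M | P.Hy x (Nx Γ x H) M}) (fun D _ => P.NL Γ D) (fun D hD => by
      obtain ⟨d1, d2, d3⟩ := (P.hy_co hH).1 hD
      exact P.hy_iff.2 ⟨h.NL_le_Nx hH d3 hx d1 hxH d2, (b.Ux_le_iff hH d3 hx d1 hxH).1 d2, by rw [h.rk_NL d3, a1]⟩)
    (fun D D' hD hD' e => by
      obtain ⟨d1, d2, d3⟩ := (P.hy_co hH).1 hD
      obtain ⟨e1, e2, e3⟩ := (P.hy_co hH).1 hD'
      exact h.NL_inj_H hH hx hxH d3 d1 d2 e3 e1 e2 e)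
    (by rw [P.ncard_hy (b.lt_Nx hx hH hxH).le, P.ncard_hy (b.Ux_lt hx hH hxH).le, P.θ_le_iff]; omega)
    (Set.toFinite _) M (P.hy_iff.2 ⟨hM, hxM, by omega⟩)
  obtain ⟨d1, d2, d3⟩ := (P.hy_co hH).1 hD
  exact ⟨D, d3, d1, d2, e⟩

theorem C0.exists_WL (h : P.C0 Γ c c) {x H M : L} (hH : P.ck H = 1) (hx : P.rk x = 1)
    (hxH : x ≤ H) (hMH : M ≤ H) (hM : Ux Γ x H ≤ M) (hr : P.ck M = c) :
    ∃ l, P.rk l = 2 ∧ x ≤ l ∧ l ≤ Nx Γ x H ∧ M = P.WL Γ l := h.dual.exists_NL hH hx hxH hMH hM hr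

end CfsgLib.CK.PG
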