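import Cfsg.Agent.Lib.CK.C4a

/-!
Cameron–Kantor, package C4B: special subspaces, blocks, const / inj.
-/

set_option autoImplicit false

namespace CfsgLib.CK.PG

open CfsgLib.Tech

variable {G L : Type*} [Group G] [CompleteLattice L] [MulAction G L] [Finite G] [Finite L]
  {P : PG G L}

variable {Γ : Subgroup G} {c : ℕ}

theorem C0.rk_sp (h : P.C0 Γ c c) {E : L} (hE : P.Sp Γ E) : P.rk E = c + 1 := by
  obtain ⟨x, H, h1, h2, h3, rfl⟩ := hE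
  exact h.rk_Nx h1 h2 h3

theorem C0.const_of_three (h : P.C0 Γ c c) (h3 : 3 ≤ c) : P.Const Γ := by
  intro x H y hx hH hxH hy hyN
  have b := h.b0
  have a1 := h.rk_Nx hx hH hxH
  have hyH := hyN.trans (b.Nx_le hx hH hxH)
  refine (P.eq_of_rk_le (P.le_of_pt hyN (b.lt_Nx hy hH hyH).le fun l hl => ?_) (by rw [h.rk_Nx hy hH hyH, a1])).symm
  obtain ⟨l1, l2, l3⟩ := (P.pt_line hy).1 hl
  have := P.rk_sup_inf x l
  obtain ⟨M, m1, m2, m3⟩ := P.exists_rk (sup_le (b.lt_Nx hx hH hxH).le l2) (k := c) (by omega) (by omega)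
  obtain ⟨D, d1, d2, -, rfl⟩ := h.exists_NL hx hH hxH (le_sup_left.trans m1) m2 m3
  exact (b.le_Nx_iff hy l3 hH l1 hyH).2 (((h.WL_le_iff l3 d1).2 (le_sup_right.trans m1)).trans d2)

theorem C0.sp_at (h : P.C0 Γ c c) {E y : L} (hE : P.Sp Γ E) (hy : P.rk y = 1) (hyE : y ≤ E) :
    ∃ H, P.ck H = 1 ∧ y ≤ H ∧ E = Nx Γ y H := by
  obtain ⟨x, H, hx, hH, hxH, rfl⟩ := hE
  have b := h.b0
  rcases h.two_le.eq_or_lt with rfl | h3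
  · have a1 := h.rk_Nx hx hH hxH
    have := P.rk_sup_inf x y
    obtain ⟨l, l1, l2, l3⟩ := P.exists_rk (sup_le (b.lt_Nx hx hH hxH).le hyE) (k := 2) (by omega) (by omega)
    obtain ⟨g, hg, e1, e2, -⟩ := b.plane_flag a1 hx l3 (le_sup_left.trans l1) l2 hy l3 (le_sup_right.trans l1) l2
    exact ⟨g • H, by rwa [P.ck_smul], e2 ▸ P.smul_mono g hxH, by rw [← e2, ← P.smul_Nx hg, e1]⟩
  · exact ⟨H, hH, hyE.trans (b.Nx_le hx hH hxH), (h.const_of_three h3 x H y hx hH hxH hy hyE).symm⟩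

theorem C0.const_or_inj (h : P.C0 Γ c c) : P.Const Γ ∨ P.Inj Γ := by
  rcases h.two_le.eq_or_lt with rfl | h3
  swap
  · exact .inl (h.const_of_three h3)
  have b := h.b0
  refine or_iff_not_imp_right.2 fun hn x' H' y' hx' hH' hxH' hy' hyN => ?_
  simp only [Inj, not_forall] at hn
  obtain ⟨x, y, H, hx, hy, hH, hxH, hyH, e, ne⟩ := hn
  obtain ⟨g, hg, rfl, rfl⟩ := b.tr_flag hx hH hxH hx' hH' hxH'
  obtain ⟨z, rfl⟩ : ∃ z, y' = g • z := ⟨g⁻¹ • y', by simp⟩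
  rw [← P.smul_Nx hg, P.smul_le_iff] at hyN
  rw [P.rk_smul] at hy'
  rw [← P.smul_Nx hg, ← P.smul_Nx hg]
  by_cases hz : x = z
  · rw [hz]
  have px := P.pt_bot.2 ⟨(b.lt_Nx hx hH hxH).le, hx⟩
  obtain ⟨k, ⟨k1, k2 : k • _ = _⟩, k3, k4⟩ := (b.plane_two (h.rk_Nx hx hH hxH)).tr x y x z px
    (P.pt_bot.2 ⟨e ▸ (b.lt_Nx hy hH hyH).le, hy⟩) ne px (P.pt_bot.2 ⟨hyN, hy'⟩) hz
  have k5 : k • H = H := h.Nx_inj hx (by rwa [P.ck_smul]) (k3 ▸ P.smul_mono k hxH) hH hxH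
    (by rw [← k2, P.smul_Nx k1, k3])
  rw [← k2, e, P.smul_Nx k1, k4, k5]

theorem C0.not_const_inj (h : P.C0 Γ c c) (h1 : P.Const Γ) (h2 : P.Inj Γ) : False := by
  have b := h.b0
  have := b.three
  obtain ⟨x, -, -, hx⟩ := P.exists_rk (le_top : (⊥ : L) ≤ ⊤) (k := 1) (by rw [P.rk_bot]; omega) (by rw [P.rk_top]; omega)
  have := P.rk_add_ck x
  obtain ⟨H, hxH, -, hH⟩ := P.exists_ck (le_top : x ≤ ⊤) (k := 1) (by rw [P.ck_top]; omega) (by omega)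
  obtain ⟨y, y1, y2, y3⟩ := P.exists_rk1 (b.lt_Nx hx hH hxH).not_ge
  exact y3 (h2 y x H y1 hx hH (y2.trans (b.Nx_le hx hH hxH)) hxH (h1 x H y hx hH hxH y1 y2)).le

theorem C0.sp_tr (h : P.C0 Γ c c) {x l E x' l' E' : L} (hE : P.Sp Γ E) (hx : P.rk x = 1)
    (hl : P.rk l = 2) (hxl : x ≤ l) (hlE : l ≤ E) (hE' : P.Sp Γ E') (hx' : P.rk x' = 1)
    (hl' : P.rk l' = 2) (hxl' : x' ≤ l') (hlE' : l' ≤ E') :
    ∃ g ∈ Γ, g • x = x' ∧ g • l = l' ∧ g • E = E' := by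
  have b := h.b0
  obtain ⟨H, hH, hxH, rfl⟩ := h.sp_at hE hx (hxl.trans hlE)
  obtain ⟨H', hH', hxH', rfl⟩ := h.sp_at hE' hx' (hxl'.trans hlE')
  obtain ⟨g, hg, rfl, rfl⟩ := b.tr_flag hx hH hxH hx' hH' hxH'
  obtain ⟨k, ⟨⟨k1, k2 : k • _ = _⟩, k3 : k • _ = _⟩, e⟩ := b.tr_Nx hx' hH' hxH' (g • l)
    ⟨by rwa [P.rk_smul], P.smul_mono g hxl, P.smul_Nx hg x H ▸ P.smul_mono g hlE⟩ l' ⟨hl', hxl', hlE'⟩
  exact ⟨k * g, mul_mem k1 hg, by rw [mul_smul, k2], by rw [mul_smul, e],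
    by rw [mul_smul, P.smul_Nx hg, P.smul_Nx k1, k2, k3]⟩

theorem C0.sp_line (h : P.C0 Γ c c) {E x l : L} (hE : P.Sp Γ E) (hx : P.rk x = 1) (hl : P.rk l = 2) (hxl : x ≤ l)
    (hlE : l ≤ E) : ∃ H, P.ck H = 1 ∧ x ≤ H ∧ P.WL Γ l ≤ H ∧ E = Nx Γ x H := by
  obtain ⟨H, hH, hxH, rfl⟩ := h.sp_at hE hx (hxl.trans hlE)
  exact ⟨H, hH, hxH, (h.b0.le_Nx_iff hx hl hH hxl hxH).1 hlE, rfl⟩

omit [Finite G] in
theorem exists_pt_le {l : L} (hl : P.rk l = 2) : ∃ x, P.rk x = 1 ∧ x ≤ l :=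
  let ⟨x, _, h1, h2⟩ := P.exists_rk (bot_le : ⊥ ≤ l) (k := 1) (by rw [P.rk_bot]; omega) (by omega); ⟨x, h2, h1⟩

theorem C0.B_eq_sup (h : P.C0 Γ c c) {l E E' : L} (hl : P.rk l = 2) (hE : P.Sp Γ E) (hlE : l ≤ E)
    (hE' : P.Sp Γ E') (hlE' : l ≤ E') (hne : E ≠ E') : P.B Γ l = E ⊔ E' := by
  refine le_antisymm (sSup_le ?_) (sup_le (hE.le_B hlE) (hE'.le_B hlE'))
  rintro F ⟨hF, hlF⟩
  obtain ⟨x, hx, hxl⟩ := exists_pt_le hl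
  obtain ⟨H, hH, hxH, w, rfl⟩ := h.sp_line hE hx hl hxl hlE
  obtain ⟨H', hH', hxH', w', rfl⟩ := h.sp_line hE' hx hl hxl hlE'
  obtain ⟨K, hK, hxK, v, rfl⟩ := h.sp_line hF hx hl hxl hlF
  by_cases e : H ⊓ H' ≤ K
  · exact h.b0.Nx_le_sup hx hH hxH hH' hxH' hK e
  have d1 := P.ck_inf_hys hH hK fun k => e (k ▸ inf_le_left)
  have d2 := P.ck_inf_hys hH' hK fun k => e (k ▸ inf_le_right)
  have u := h.Ux_le_WL hx hl hK hxl hxK hlF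
  rw [h.Nx_eq_sup hK hx hxK d1 inf_le_right (u.trans (le_inf w v)) d2 inf_le_right (u.trans (le_inf w' v))
    fun k => e ((P.eq_of_ck_le (le_inf inf_le_left (k.le.trans inf_le_left))
      (by rw [d1, P.ck_inf_hys hH hH' fun k => hne (by rw [k])])).ge.trans inf_le_right)]
  exact sup_le_sup
    (h.NL_le_Nx hH d1 hx inf_le_left hxH ((h.Ux_le_WL hx hl hH hxl hxH hlE).trans (le_inf w v)))
    (h.NL_le_Nx hH' d2 hx inf_le_left hxH' ((h.Ux_le_WL hx hl hH' hxl hxH' hlE').trans (le_inf w' v)))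

theorem B0.sp_of_le (h : P.B0 Γ) {x l H : L} (hx : P.rk x = 1) (hl : P.rk l = 2) (hxl : x ≤ l) (hH : P.ck H = 1)
    (w : P.WL Γ l ≤ H) : x ≤ H ∧ P.Sp Γ (Nx Γ x H) ∧ l ≤ Nx Γ x H :=
  have hxH := hxl.trans ((h.le_WL hl).trans w)
  ⟨hxH, ⟨x, H, hx, hH, hxH, rfl⟩, (h.le_Nx_iff hx hl hH hxl hxH).2 w⟩

theorem C0.rk_B (h : P.C0 Γ c c) {l : L} (hl : P.rk l = 2) : P.rk (P.B Γ l) = c + 2 := by
  obtain ⟨x, hx, hxl⟩ := exists_pt_le hl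
  have a1 := h.ck_WL hl
  have a2 := h.two_le
  obtain ⟨D, d1, -, hD⟩ := P.exists_ck (le_top : P.WL Γ l ≤ ⊤) (k := 2) (by rw [P.ck_top]; omega) (by omega)
  obtain ⟨H, hDH, -, hH⟩ := P.exists_ck (le_top : D ≤ ⊤) (k := 1) (by rw [P.ck_top]; omega) (by omega)
  obtain ⟨H', hH', hDH', hn⟩ := P.exists_ck1 (P.lt_of_ck_lt hDH (by omega)).not_ge
  obtain ⟨e1, e2, e3⟩ := h.b0.sp_of_le hx hl hxl hH (d1.trans hDH)
  obtain ⟨f1, f2, f3⟩ := h.b0.sp_of_le hx hl hxl hH' (d1.trans hDH')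
  have := P.rk_sup_inf (Nx Γ x H) (Nx Γ x H')
  rw [← h.NL_eq_inf hx hD (hxl.trans (h.le_NL hl hD d1)) hH hDH hH' hDH' fun e => hn e.le, h.rk_NL hD,
    h.rk_sp e2, h.rk_sp f2] at this
  rw [h.B_eq_sup hl e2 e3 f2 f3 fun e => hn (h.Nx_inj hx hH e1 hH' f1 e).le]
  omega

theorem C0.le_B (h : P.C0 Γ c c) {l : L} (hl : P.rk l = 2) : l ≤ P.B Γ l := by
  obtain ⟨x, hx, hxl⟩ := exists_pt_le hl
  have a1 := h.ck_WL hl
  have a2 := h.two_le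
  obtain ⟨H, w, -, hH⟩ := P.exists_ck (le_top : P.WL Γ l ≤ ⊤) (k := 1) (by rw [P.ck_top]; omega) (by omega)
  obtain ⟨-, e2, e3⟩ := h.b0.sp_of_le hx hl hxl hH w
  exact e3.trans (e2.le_B e3)

theorem C0.sp_of_le_B (h : P.C0 Γ c c) {l E : L} (hl : P.rk l = 2) (hlE : l ≤ E)
    (hEB : E ≤ P.B Γ l) (hr : P.rk E = c + 1) : P.Sp Γ E := by
  obtain ⟨x, hx, hxl⟩ := exists_pt_le hl
  have a1 := h.ck_WL hl
  have a2 := h.rk_B hl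
  have a3 := P.rk_add_d (h.le_B hl)
  have k := fun H (hH : H ∈ {H | P.Hy (P.WL Γ l) ⊤ H}) =>
    h.b0.sp_of_le hx hl hxl (P.hy_top.1 hH).2 (P.hy_top.1 hH).1
  obtain ⟨H, hH, rfl⟩ := Set.surj_on_of_inj_on_of_ncard_le (t := {M | P.Hy l (P.B Γ l) M}) (fun H _ => Nx Γ x H)
    (fun H hH => P.hy_iff.2 ⟨(k H hH).2.1.le_B (k H hH).2.2, (k H hH).2.2, by rw [h.rk_sp (k H hH).2.1, a2]⟩)
    (fun H H' hH hH' => h.Nx_inj hx (P.hy_top.1 hH).2 (k H hH).1 (P.hy_top.1 hH').2 (k H' hH').1)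
    (by rw [P.ncard_hy (h.le_B hl), P.ncard_hy le_top, P.θ_le_iff, P.d_top]; omega)
    (Set.toFinite _) E (P.hy_iff.2 ⟨hEB, hlE, by omega⟩)
  exact (k H hH).2.1

theorem C0.B_le_WL (h : P.C0 Γ c c) {l : L} (hl : P.rk l = 2) : P.B Γ l ≤ P.WL Γ l := by
  refine sSup_le ?_
  rintro E ⟨hE, hlE⟩
  obtain ⟨x, hx, hxl⟩ := exists_pt_le hl
  obtain ⟨H, hH, hxH, -, rfl⟩ := h.sp_line hE hx hl hxl hlE
  exact h.Nx_le_WL hx hl hH hxl hxH hlE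

theorem C0.ck_Z (h : P.C0 Γ c c) {D : L} (hD : P.ck D = 2) : P.ck (P.Z Γ D) = c + 2 :=
  h.dual.rk_B hD

theorem C0.Z_eq_inf (h : P.C0 Γ c c) {D U U' : L} (hD : P.ck D = 2) (hU : P.Sq Γ U) (hUD : U ≤ D)
    (hU' : P.Sq Γ U') (hUD' : U' ≤ D) (hne : U ≠ U') : P.Z Γ D = U ⊓ U' :=
  h.dual.B_eq_sup hD hU hUD hU' hUD' hne

end CfsgLib.CK.PG
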