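import Cfsg.Agent.Lib.CK.C4b

/-!
Cameron–Kantor, package C5A: blocks sharing a line are equal.
-/

set_option autoImplicit false

namespace CfsgLib.CK.PG

open CfsgLib.Tech

variable {G L : Type*} [Group G] [CompleteLattice L] [MulAction G L] [Finite G] [Finite L]
  {P : PG G L}

variable {Γ : Subgroup G} {c : ℕ}

theorem C0.B_eq_of_meet (h : P.C0 Γ c c) (h3 : 3 ≤ c ∨ P.dual.Const Γ) {x l l' : L} (hx : P.rk x = 1)
    (hl : P.rk l = 2) (hl' : P.rk l' = 2) (hxl : x ≤ l) (hxl' : x ≤ l') (hle : l' ≤ P.B Γ l) :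
    P.B Γ l' = P.B Γ l := by
  by_cases hne : l' = l
  · rw [hne]
  have b := h.b0
  have c2 := h.two_le
  have r1 := P.rk_sup_inf l l'
  have r2 := P.rk_mono (le_inf hxl hxl')
  have r3 := P.rk_lt (left_lt_sup.2 (P.not_le_of_ne (hl.trans hl'.symm).le hne))
  have r4 := h.rk_B hl
  have k1 : l ⊔ l' ≤ P.B Γ l := sup_le (h.le_B hl) hle
  by_cases c3 : 3 ≤ c
  · obtain ⟨E, e1, e2, e3⟩ := P.exists_rk k1 (k := c + 1) (by omega) (by omega)
    obtain ⟨E', hE', e4⟩ := P.exists_hy_of_lt e2 (P.lt_of_rk_lt e1 (by omega))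
    obtain ⟨e5, e6, e7⟩ := P.hy_iff.1 hE'
    have s1 := h.sp_of_le_B hl (le_sup_left.trans e1) e2 e3
    have s2 := h.sp_of_le_B hl (le_sup_left.trans e6) e5 (by omega)
    have s3 : E ≠ E' := fun e => e4 e.le
    rw [h.B_eq_sup hl s1 (le_sup_left.trans e1) s2 (le_sup_left.trans e6) s3,
      h.B_eq_sup hl' s1 (le_sup_right.trans e1) s2 (le_sup_right.trans e6) s3]
  have hd := (P.dual_Const Γ).1 (h3.resolve_left c3)
  have s1 := h.sp_of_le_B hl le_sup_left k1 (by omega)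
  obtain ⟨H, hH, xH, e1⟩ := h.sp_at s1 hx (hxl.trans le_sup_left)
  obtain ⟨m, hm, k2⟩ := P.exists_pt_of_lt (hxl.trans le_sup_left) (P.lt_of_rk_lt k1 (by omega))
  obtain ⟨xm, mB, rm⟩ := (P.pt_line hx).1 hm
  have r5 := hm.rk_sup hxl fun k => k2 (k.trans le_sup_left)
  obtain ⟨H', hH', xH', e2⟩ := h.sp_at (h.sp_of_le_B hl le_sup_left (sup_le (h.le_B hl) mB) (by omega)) hx
    (hxl.trans le_sup_left)
  have u1 := hd H x H' hH hx xH hH' ((h.Ux_le_WL hx hl hH hxl xH (le_sup_left.trans e1.le)).trans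
    ((b.le_Nx_iff hx hl hH' hxl xH').1 (le_sup_left.trans e2.le)))
  have u2 := P.ck_anti (le_inf (h.Ux_le_WL hx hl' hH hxl' xH (le_sup_right.trans e1.le))
    (u1.ge.trans (h.Ux_le_WL hx rm hH' xm xH' (le_sup_right.trans e2.le))))
  have u3 := P.ck_sup_inf (P.WL Γ l') (P.WL Γ m)
  rw [h.ck_Ux hx hH xH] at u2
  rw [h.ck_WL hl', h.ck_WL rm] at u3
  obtain ⟨K, k3, -, hK⟩ := P.exists_ck (le_top (a := P.WL Γ l' ⊔ P.WL Γ m)) (k := 1)
    (by rw [P.ck_top]; omega) (by omega)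
  have xK : x ≤ K := hxl'.trans ((b.le_WL hl').trans (le_sup_left.trans k3))
  have s2 : P.Sp Γ (Nx Γ x K) := ⟨x, K, hx, hK, xK, rfl⟩
  have k4 : l ⊔ l' ⊔ m ≤ P.B Γ l' := sup_le (s1.le_B le_sup_right)
    (((b.le_Nx_iff hx rm hK xm xK).2 (le_sup_right.trans k3)).trans
      (s2.le_B ((b.le_Nx_iff hx hl' hK hxl' xK).2 (le_sup_left.trans k3))))
  have r6 := hm.rk_sup (hxl.trans le_sup_left) k2
  rw [← P.eq_of_rk_le k4 (by rw [h.rk_B hl']; omega)]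
  exact P.eq_of_rk_le (sup_le k1 mB) (by omega)

theorem C0.B_eq (h : P.C0 Γ c c) (hc : P.Const Γ) (h3 : 3 ≤ c ∨ P.dual.Const Γ) {l l' : L}
    (hl : P.rk l = 2) (hl' : P.rk l' = 2) (hle : l' ≤ P.B Γ l) : P.B Γ l' = P.B Γ l := by
  obtain ⟨x, -, xl, hx⟩ := P.exists_rk (bot_le (a := l)) (k := 1) (by rw [P.rk_bot]; omega) (by omega)
  obtain ⟨y, -, yl, hy⟩ := P.exists_rk (bot_le (a := l')) (k := 1) (by rw [P.rk_bot]; omega) (by omega)
  by_cases e : x = y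
  · exact h.B_eq_of_meet h3 hx hl hl' xl (e ▸ yl) hle
  have hm := P.rk_sup_pts hx hy e
  have k := h.B_eq_of_meet h3 hx hl hm xl le_sup_left (sup_le (xl.trans (h.le_B hl)) (yl.trans hle))
  rw [← k]
  exact h.B_eq_of_meet h3 hy hm hl' le_sup_right yl (hle.trans k.ge)

end CfsgLib.CK.PG
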