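import Cfsg.Agent.Lib.CK.C4b

/-!
Cameron–Kantor, package C5B: const with blocks is impossible.
-/

set_option autoImplicit false

namespace CfsgLib.CK.PG

open CfsgLib.Tech

variable {G L : Type*} [Group G] [CompleteLattice L] [MulAction G L] [Finite G] [Finite L]
  {P : PG G L}

variable {Γ : Subgroup G} {c : ℕ}

namespace C5b

/-- the hyperplanes `Π(N)` attached to a block -/
def HB (P : PG G L) (Γ : Subgroup G) (B : L) : Set L :=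
  {H | P.ck H = 1 ∧ ∃ x, P.rk x = 1 ∧ x ≤ H ∧ Nx Γ x H ≤ B}

/-- the hyperplanes `Π(N)`, `x ≤ N` -/
def HX (P : PG G L) (Γ : Subgroup G) (B x : L) : Set L :=
  {H | P.ck H = 1 ∧ x ≤ H ∧ Nx Γ x H ≤ B}

/-- `B*` -/
def Bs (P : PG G L) (Γ : Subgroup G) (B : L) : L := sInf (HB P Γ B)

omit [Finite G] [Finite L] in
theorem smul_HB {g : G} (hg : g ∈ Γ) {B H : L} (hH : H ∈ HB P Γ B) : g • H ∈ HB P Γ (g • B) := by
  obtain ⟨h1, x, h2, h3, h4⟩ := hH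
  refine ⟨by rw [P.ck_smul]; exact h1, g • x, by rw [P.rk_smul]; exact h2, P.smul_mono g h3, ?_⟩
  rw [← P.smul_Nx hg]
  exact P.smul_mono g h4

omit [Finite G] [Finite L] in
theorem smul_Bs {g : G} (hg : g ∈ Γ) (B : L) : g • Bs P Γ B = Bs P Γ (g • B) := by
  refine P.smul_sInf g fun a => ⟨smul_HB hg, fun h => ?_⟩
  have := smul_HB (inv_mem hg) h
  rwa [inv_smul_smul, inv_smul_smul] at this

omit [Finite G] in
theorem exists_line {M : L} (hM : 2 ≤ P.rk M) : ∃ l, P.rk l = 2 ∧ l ≤ M := by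
  obtain ⟨l, -, h2, h3⟩ := P.exists_rk (bot_le (a := M)) (k := 2) (by rw [P.rk_bot]; omega) hM
  exact ⟨l, h3, h2⟩

omit [Finite G] in
theorem exists_point {M : L} (hM : 1 ≤ P.rk M) : ∃ l, P.rk l = 1 ∧ l ≤ M := by
  obtain ⟨l, -, h2, h3⟩ := P.exists_rk (bot_le (a := M)) (k := 1) (by rw [P.rk_bot]; omega) hM
  exact ⟨l, h3, h2⟩

omit [Finite G] in
/-- a line through `e` in `B` missing `x` -/
theorem exists_line_off {B x e : L} (hB : 3 ≤ P.rk B) (hx : P.rk x = 1) (he : P.rk e = 1)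
    (heB : e ≤ B) (hne : e ≠ x) : ∃ l, P.rk l = 2 ∧ e ≤ l ∧ l ≤ B ∧ ¬ x ≤ l := by
  have h2 := P.rk_sup_pts he hx hne
  have hn : ¬ B ≤ e ⊔ x := fun hle => by have := P.rk_mono hle; omega
  obtain ⟨z, hz, hzB, hzn⟩ := P.exists_rk1 hn
  have hez : e ≠ z := fun e' => hzn (e' ▸ le_sup_left)
  have h3 := P.rk_sup_pts he hz hez
  refine ⟨e ⊔ z, h3, le_sup_left, sup_le heB hzB, fun hle => hzn ?_⟩
  have : e ⊔ x = e ⊔ z := P.eq_of_rk_le (sup_le le_sup_left hle) (by omega)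
  rw [this]; exact le_sup_right

theorem WL_le (h : P.C0 Γ c c) (hc : P.Const Γ) {x H l : L} (hx : P.rk x = 1) (hH : P.ck H = 1)
    (hxH : x ≤ H) (hl : P.rk l = 2) (hle : l ≤ Nx Γ x H) : P.WL Γ l ≤ H := by
  obtain ⟨y, hy, hyl⟩ := exists_point (P := P) (M := l) (by omega)
  have e := hc x H y hx hH hxH hy (hyl.trans hle)
  have hyH : y ≤ H := (hyl.trans hle).trans (h.b0.Nx_le hx hH hxH)
  exact (h.b0.le_Nx_iff hy hl hH hyl hyH).1 (e ▸ hle)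

theorem Nx_eq (h : P.C0 Γ c c) (hc : P.Const Γ) {B x y H : L} (hB : P.rk B = c + 2)
    (hx : P.rk x = 1) (hy : P.rk y = 1) (hH : P.ck H = 1) (hxH : x ≤ H) (hyH : y ≤ H)
    (h1 : Nx Γ x H ≤ B) (h2 : Nx Γ y H ≤ B) : Nx Γ x H = Nx Γ y H := by
  have r1 := h.rk_Nx hx hH hxH
  have r2 := h.rk_Nx hy hH hyH
  have r3 := P.rk_sup_inf (Nx Γ x H) (Nx Γ y H)
  have r4 := P.rk_mono (sup_le h1 h2)
  have := h.two_le
  obtain ⟨z, hz, hzl⟩ := exists_point (P := P) (M := Nx Γ x H ⊓ Nx Γ y H) (by omega)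
  rw [← hc x H z hx hH hxH hz (hzl.trans inf_le_left), hc y H z hy hH hyH hz (hzl.trans inf_le_right)]

section Block

variable (h : P.C0 Γ c c) (hc : P.Const Γ)
  (hB : ∀ l l', P.rk l = 2 → P.rk l' = 2 → l' ≤ P.B Γ l → P.B Γ l' = P.B Γ l)
  {m : L} (hm : P.rk m = 2)

include h hB hm

theorem sp_hy {M : L} (hM : M ≤ P.B Γ m) (hr : P.rk M = c + 1) : P.Sp Γ M := by
  have := h.two_le
  obtain ⟨l, hl, hlM⟩ := exists_line (P := P) (M := M) (by omega)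
  exact h.sp_of_le_B hl hlM (by rw [hB m l hm hl (hlM.trans hM)]; exact hM) hr

theorem mem_HX {l x H : L} (hl : P.rk l = 2) (hlB : l ≤ P.B Γ m) (hx : P.rk x = 1) (hxl : x ≤ l)
    (hH : P.ck H = 1) (hle : P.WL Γ l ≤ H) : H ∈ HX P Γ (P.B Γ m) x := by
  have hxH : x ≤ H := (hxl.trans (h.b0.le_WL hl)).trans hle
  have h1 : l ≤ Nx Γ x H := (h.b0.le_Nx_iff hx hl hH hxl hxH).2 hle
  have h2 : P.Sp Γ (Nx Γ x H) := ⟨x, H, hx, hH, hxH, rfl⟩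
  exact ⟨hH, hxH, by rw [← hB m l hm hl hlB]; exact h2.le_B h1⟩

theorem mem_HB {l H : L} (hl : P.rk l = 2) (hlB : l ≤ P.B Γ m)
    (hH : P.ck H = 1) (hle : P.WL Γ l ≤ H) : H ∈ HB P Γ (P.B Γ m) := by
  obtain ⟨x, hx, hxl⟩ := exists_point (P := P) (M := l) (by omega)
  obtain ⟨-, h2, h3⟩ := mem_HX h hB hm hl hlB hx hxl hH hle
  exact ⟨hH, x, hx, h2, h3⟩

theorem Bs_le_WL {l : L} (hl : P.rk l = 2) (hlB : l ≤ P.B Γ m) :
    Bs P Γ (P.B Γ m) ≤ P.WL Γ l :=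
  P.le_of_ck1 fun _ hH hle => sInf_le (mem_HB h hB hm hl hlB hH hle)

include hc

theorem mem_HB_of_le {H : L} (hH : P.ck H = 1) (hle : Bs P Γ (P.B Γ m) ≤ H) :
    H ∈ HB P Γ (P.B Γ m) := by
  refine P.closed_hy (o := ⊥) (t := ⊤) bot_le (X := HB P Γ (P.B Γ m))
    (fun D hD => P.hy_bot_top.2 hD.1) ?_ H (P.hy_bot_top.2 hH) (inf_le_right.trans hle)
  rintro a ⟨ha, x, hx, hxa, h1⟩ b ⟨hb, y, hy, hyb, h2⟩ D hD hle
  have r1 := h.rk_Nx hx ha hxa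
  have r2 := h.rk_Nx hy hb hyb
  have r3 := P.rk_sup_inf (Nx Γ x a) (Nx Γ y b)
  have r4 := P.rk_mono (sup_le h1 h2)
  have r5 := h.rk_B hm
  have := h.two_le
  obtain ⟨l, hl, hlM⟩ := exists_line (P := P) (M := Nx Γ x a ⊓ Nx Γ y b) (by omega)
  refine mem_HB h hB hm hl ((hlM.trans inf_le_left).trans h1) (P.hy_bot_top.1 hD) ?_
  exact (le_inf (WL_le h hc hx ha hxa hl (hlM.trans inf_le_left))
    (WL_le h hc hy hb hyb hl (hlM.trans inf_le_right))).trans hle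

theorem B_le_Bs : P.B Γ m ≤ Bs P Γ (P.B Γ m) := by
  refine le_sInf ?_
  rintro H ⟨hH, x, hx, hxH, h1⟩
  have r1 := h.rk_Nx hx hH hxH
  have := h.two_le
  obtain ⟨l, hl, hlM⟩ := exists_line (P := P) (M := Nx Γ x H) (by omega)
  rw [← hB m l hm hl (hlM.trans h1)]
  exact (h.B_le_WL hl).trans (WL_le h hc hx hH hxH hl hlM)

theorem ck_Bs : P.ck (Bs P Γ (P.B Γ m)) = c + 2 := by
  have r5 := h.rk_B hm
  have := h.two_le
  have e := dc_eq {M | P.Hy ⊥ (P.B Γ m) M} (HB P Γ (P.B Γ m))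
    (fun M H => ∃ x, P.rk x = 1 ∧ x ≤ H ∧ M = Nx Γ x H) (m := 1) (k := 1) ?_ ?_
  · have e2 : HB P Γ (P.B Γ m) = {H | P.Hy (Bs P Γ (P.B Γ m)) ⊤ H} := by
      ext H
      exact ⟨fun hH => P.hy_top.2 ⟨sInf_le hH, hH.1⟩,
        fun hH => mem_HB_of_le h hc hB hm (P.hy_top.1 hH).2 (P.hy_top.1 hH).1⟩
    rw [e2, P.ncard_hy bot_le, P.ncard_hy le_top, mul_one, mul_one, P.d_bot, P.d_top, r5] at e
    exact (P.θ_inj e).symm
  · intro M hM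
    obtain ⟨h1, -, h3⟩ := P.hy_iff.1 hM
    obtain ⟨x, H, hx, hH, hxH, rfl⟩ := sp_hy h hB hm h1 (by omega)
    rw [Set.ncard_eq_one]
    refine ⟨H, Set.eq_singleton_iff_unique_mem.2 ⟨⟨⟨hH, x, hx, hxH, h1⟩, x, hx, hxH, rfl⟩, ?_⟩⟩
    rintro K ⟨⟨hK, -⟩, y, hy, hyK, e⟩
    have hxN : x ≤ Nx Γ y K := e ▸ (h.b0.lt_Nx hx hH hxH).le
    have e2 := hc y K x hy hK hyK hx hxN
    exact h.Nx_inj hx hK (hxN.trans (h.b0.Nx_le hy hK hyK)) hH hxH (e2.trans e.symm)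
  · rintro H ⟨hH, x, hx, hxH, h1⟩
    have r1 := h.rk_Nx hx hH hxH
    rw [Set.ncard_eq_one]
    refine ⟨Nx Γ x H, Set.eq_singleton_iff_unique_mem.2
      ⟨⟨P.hy_iff.2 ⟨h1, bot_le, by omega⟩, x, hx, hxH, rfl⟩, ?_⟩⟩
    rintro M ⟨hM, y, hy, hyH, rfl⟩
    exact Nx_eq h hc r5 hy hx hH hyH hxH (P.hy_iff.1 hM).1 h1

omit hc hB hm in
theorem mem_HX_of_le {B x H : L} (hx : P.rk x = 1) (hH : P.ck H = 1)
    (hle : sInf (HX P Γ B x) ≤ H) : H ∈ HX P Γ B x := by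
  refine P.closed_hy (o := ⊥) (t := ⊤) bot_le (X := HX P Γ B x)
    (fun D hD => P.hy_bot_top.2 hD.1) ?_ H (P.hy_bot_top.2 hH) (inf_le_right.trans hle)
  rintro a ⟨ha, hxa, h1⟩ b ⟨hb, hxb, h2⟩ D hD hle
  have hD' := P.hy_bot_top.1 hD
  exact ⟨hD', (le_inf hxa hxb).trans hle,
    (h.b0.Nx_le_sup hx ha hxa hb hxb hD' hle).trans (sup_le h1 h2)⟩

omit hc in
theorem ck_WX {x : L} (hx : P.rk x = 1) (hxB : x ≤ P.B Γ m) :
    P.ck (sInf (HX P Γ (P.B Γ m) x)) = c + 1 := by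
  have r5 := h.rk_B hm
  have e2 : HX P Γ (P.B Γ m) x = {H | P.Hy (sInf (HX P Γ (P.B Γ m) x)) ⊤ H} := by
    ext H
    exact ⟨fun hH => P.hy_top.2 ⟨sInf_le hH, hH.1⟩,
      fun hH => mem_HX_of_le h hx (P.hy_top.1 hH).2 (P.hy_top.1 hH).1⟩
  have e : (HX P Γ (P.B Γ m) x).ncard = {M | P.Hy x (P.B Γ m) M}.ncard := by
    refine Set.ncard_congr (fun H _ => Nx Γ x H) ?_ ?_ ?_
    · rintro H ⟨hH, hxH, h1⟩
      have r1 := h.rk_Nx hx hH hxH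
      exact P.hy_iff.2 ⟨h1, (h.b0.lt_Nx hx hH hxH).le, by omega⟩
    · rintro H K ⟨hH, hxH, -⟩ ⟨hK, hxK, -⟩ e
      exact h.Nx_inj hx hH hxH hK hxK e
    · intro M hM
      obtain ⟨h1, h2, h3⟩ := P.hy_iff.1 hM
      obtain ⟨H, hH, hxH, e⟩ := h.sp_at (sp_hy h hB hm h1 (by omega)) hx h2
      exact ⟨H, ⟨hH, hxH, e ▸ h1⟩, e.symm⟩
  rw [e2, P.ncard_hy le_top, P.ncard_hy hxB, P.d_top] at e
  have r6 := P.rk_add_d hxB
  rw [P.θ_inj e]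
  omega

theorem exists_y {x : L} (hx : P.rk x = 1) (hxB : x ≤ P.B Γ m) :
    ∃ y, P.rk y = 1 ∧ ¬ y ≤ Bs P Γ (P.B Γ m) ∧
      ∀ l, P.rk l = 2 → l ≤ P.B Γ m → (y ≤ P.WL Γ l ↔ x ≤ l) := by
  have r1 := ck_WX h hB hm hx hxB
  have r2 := ck_Bs h hc hB hm
  have r5 := h.rk_B hm
  have hle : Bs P Γ (P.B Γ m) ≤ sInf (HX P Γ (P.B Γ m) x) :=
    sInf_le_sInf fun H hH => ⟨hH.1, x, hx, hH.2.1, hH.2.2⟩
  have hn : ¬ sInf (HX P Γ (P.B Γ m) x) ≤ Bs P Γ (P.B Γ m) := fun hh => by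
    have := P.ck_anti hh; omega
  obtain ⟨y, hy, hyW, hyn⟩ := P.exists_rk1 hn
  have hsup : Bs P Γ (P.B Γ m) ⊔ y = sInf (HX P Γ (P.B Γ m) x) := by
    refine P.sup_eq_of_rk hle hyW hyn ?_
    have := P.rk_add_ck (Bs P Γ (P.B Γ m))
    have := P.rk_add_ck (sInf (HX P Γ (P.B Γ m) x))
    omega
  refine ⟨y, hy, hyn, fun l hl hlB => ⟨fun hyl => ?_, fun hxl => ?_⟩⟩
  · by_contra hxl
    obtain ⟨M, hM, hxM⟩ := P.exists_hy hlB hxB hxl
    obtain ⟨h1, h2, h3⟩ := P.hy_iff.1 hM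
    obtain ⟨z, H, hz, hH, hzH, rfl⟩ := sp_hy h hB hm h1 (by omega)
    have h4 : sInf (HX P Γ (P.B Γ m) x) ≤ H := by
      rw [← hsup]
      exact (sup_le (Bs_le_WL h hB hm hl hlB) hyl).trans (WL_le h hc hz hH hzH hl h2)
    obtain ⟨-, hxH, h5⟩ := mem_HX_of_le h hx hH h4
    rw [← Nx_eq h hc r5 hx hz hH hxH hzH h5 h1] at hxM
    exact hxM (h.b0.lt_Nx hx hH hxH).le
  · exact hyW.trans (P.le_of_ck1 fun H hH hle => sInf_le (mem_HX h hB hm hl hlB hx hxl hH hle))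

end Block

end C5b

open C5b in
theorem C0.not_blocks (h : P.C0 Γ c c) (hc : P.Const Γ)
    (hB : ∀ l l', P.rk l = 2 → P.rk l' = 2 → l' ≤ P.B Γ l → P.B Γ l' = P.B Γ l) : False := by
  have h2c := h.two_le
  have hn := h.b0.three
  obtain ⟨m, hm, -⟩ := exists_line (P := P) (M := ⊤) (by rw [P.rk_top]; omega)
  obtain ⟨x, hx, hxm⟩ := exists_point (P := P) (M := m) (by omega)
  have hmB := h.le_B hm
  have hxB := hxm.trans hmB
  have r5 := h.rk_B hm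
  obtain ⟨y, hy, hyn, hy'⟩ := exists_y h hc hB hm hx hxB
  have hxy : x ≠ y := fun e => hyn (e ▸ hxB.trans (B_le_Bs h hc hB hm))
  have hm' := P.rk_sup_pts hx hy hxy
  -- `B ≤ W(xy)`
  have h1 : P.B Γ m ≤ P.WL Γ (x ⊔ y) := by
    refine P.le_of_rk1 fun e he heB => ?_
    by_cases hex : x = e
    · exact hex ▸ le_sup_left.trans (h.b0.le_WL hm')
    · have hl := P.rk_sup_pts hx he hex
      have h2 : y ≤ P.WL Γ (x ⊔ e) := (hy' _ hl (sup_le hxB heB)).2 le_sup_left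
      exact le_sup_right.trans (h.b0.WL_symm hx hl le_sup_left hm' le_sup_left
        (sup_le (le_sup_left.trans (h.b0.le_WL hl)) h2))
  have h2 := Bs_le_WL h hB hm' hm' (h.le_B hm')
  have r1 := ck_Bs h hc hB hm'
  have r2 := h.ck_WL hm'
  have r3 := P.rk_sup_inf (P.B Γ m) (Bs P Γ (P.B Γ (x ⊔ y)))
  have r4 := P.rk_mono (sup_le h1 h2)
  have r6 := P.rk_add_ck (Bs P Γ (P.B Γ (x ⊔ y)))
  have r7 := P.rk_add_ck (P.WL Γ (x ⊔ y))
  have hn' : ¬ P.B Γ m ⊓ Bs P Γ (P.B Γ (x ⊔ y)) ≤ x := fun hh => by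
    have := P.rk_mono hh; omega
  obtain ⟨z, hz, hzl, hzx⟩ := P.exists_rk1 hn'
  have hzx' : z ≠ x := fun e => hzx e.le
  have hzB : z ≤ P.B Γ m := hzl.trans inf_le_left
  -- `B ≤ B'*`
  have h3 : P.B Γ m ≤ Bs P Γ (P.B Γ (x ⊔ y)) := by
    refine P.le_of_rk1 fun e he heB => ?_
    by_cases hex : e = x
    · exact hex ▸ (le_sup_left.trans (h.le_B hm')).trans (B_le_Bs h hc hB hm')
    obtain ⟨l, hl, hzl', hlB, hxl⟩ := exists_line_off (P := P) (by omega) hx hz hzB hzx'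
    obtain ⟨k, hk, hek, hkB, hxk⟩ := exists_line_off (P := P) (by omega) hx he heB hex
    obtain ⟨g, hg, g1, g2⟩ := h.b0.tr_line hz hl hzl' he hk hek
    have y1 : ¬ g • y ≤ Wx Γ e k := by
      rw [h.b0.Wx_eq he hk hek, ← g2, ← P.smul_WL hg, P.smul_le_iff]
      exact fun hh => hxl ((hy' l hl hlB).1 hh)
    have y2 : ¬ y ≤ Wx Γ e k := by
      rw [h.b0.Wx_eq he hk hek]
      exact fun hh => hxk ((hy' k hk hkB).1 hh)
    obtain ⟨g', ⟨⟨hg', g3⟩, g4⟩, g5⟩ := h.b0.tr_off he hk hek (g • y)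
      ⟨by rw [P.rk_smul]; exact hy, y1⟩ y ⟨hy, y2⟩
    have g3' : g' • e = e := g3
    have g4' : g' • k = k := g4
    have hu : g' * g ∈ Γ := mul_mem hg' hg
    have u1 : (g' * g) • z = e := by rw [mul_smul, g1, g3']
    have u2 : (g' * g) • y = y := by rw [mul_smul, g5]
    have u3 : (g' * g) • P.B Γ m = P.B Γ m := by
      rw [← hB m l hm hl hlB, P.smul_B hu, mul_smul, g2, g4', hB m l hm hl hlB, hB m k hm hk hkB]
    have u4 : (g' * g) • x = x := by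
      by_contra hne
      have hxr : P.rk ((g' * g) • x) = 1 := by rw [P.rk_smul]; exact hx
      have hxB' : (g' * g) • x ≤ P.B Γ m := by rw [← u3]; exact P.smul_mono _ hxB
      obtain ⟨j, hj, j1, j2, j3⟩ := exists_line_off (P := P) (by omega) hx hxr hxB' hne
      refine j3 ((hy' j hj j2).1 ?_)
      have hj' : P.rk ((g' * g)⁻¹ • j) = 2 := by rw [P.rk_smul]; exact hj
      have j4 : (g' * g)⁻¹ • j ≤ P.B Γ m := by
        rw [← P.le_smul_iff', u3]; exact j2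
      have j5 := (hy' _ hj' j4).2 ((P.smul_le_iff' _).1 j1)
      rw [← P.smul_WL (inv_mem hu), ← P.smul_le_iff', u2] at j5
      exact j5
    have u5 : (g' * g) • Bs P Γ (P.B Γ (x ⊔ y)) = Bs P Γ (P.B Γ (x ⊔ y)) := by
      rw [smul_Bs hu, P.smul_B hu, P.smul_sup, u4, u2]
    rw [← u1, ← u5]
    exact P.smul_mono _ (hzl.trans inf_le_right)
  obtain ⟨g, hg, -, g2, g3⟩ := h.b0.swap_line hx hm hxm hm' le_sup_left
  have h4 := P.smul_mono g h3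
  rw [smul_Bs hg, P.smul_B hg, P.smul_B hg, g2, g3] at h4
  exact hyn ((le_sup_right.trans (h.le_B hm')).trans h4)

end CfsgLib.CK.PG
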