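import Cfsg.Agent.Lib.CK.C4b

/-!
Cameron–Kantor, package C6: `c = 2`, const and dually inj is impossible.
-/

set_option autoImplicit false

namespace CfsgLib.CK.PG

open CfsgLib.Tech

variable {G L : Type*} [Group G] [CompleteLattice L] [MulAction G L] [Finite G] [Finite L]
  {P : PG G L}

variable {Γ : Subgroup G}

omit [Finite G] in
theorem c6_two_pts {l : L} (hl : P.rk l = 2) : ∃ x y, P.rk x = 1 ∧ P.rk y = 1 ∧ x ≠ y ∧ x ≤ l ∧ y ≤ l := by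
  obtain ⟨x, -, h1, hx⟩ := P.exists_rk (bot_le (a := l)) (k := 1) (by rw [P.rk_bot]; omega) (by omega)
  obtain ⟨y, hy, h2, h3⟩ := P.exists_rk1 (a := l) (b := x) fun e => by have := P.rk_mono e; omega
  exact ⟨x, y, hx, hy, fun e => h3 e.ge, h1, h2⟩

theorem C0.c6_Z_sp (h : P.C0 Γ 2 2) (hc : P.Const Γ) {E l l' : L} (hE : P.Sp Γ E) (hl : P.rk l = 2) (hlE : l ≤ E)
    (hl' : P.rk l' = 2) (hlE' : l' ≤ E) : P.Z Γ (P.WL Γ l) = P.Z Γ (P.WL Γ l') := by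
  obtain ⟨x, H, hx, hH, hxH, rfl⟩ := hE
  have yH : ∀ y, y ≤ Nx Γ x H → y ≤ H := fun y e => e.trans (h.b0.Nx_le hx hH hxH)
  have k1 : ∀ y l, P.rk y = 1 → P.rk l = 2 → y ≤ l → l ≤ Nx Γ x H → Ux Γ y H ≤ P.WL Γ l := fun y l hy hl e e' =>
    h.Ux_le_WL hy hl hH e (yH y (e.trans e')) (e'.trans (hc x H y hx hH hxH hy (e.trans e')).ge)
  have k2 : ∀ y l, P.rk y = 1 → P.rk l = 2 → y ≤ l → l ≤ Nx Γ x H → P.Z Γ (P.WL Γ l) ≤ Ux Γ y H :=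
    fun y l hy hl e e' => Sq.Z_le ⟨H, y, hH, hy, yH y (e.trans e'), rfl⟩ (k1 y l hy hl e e')
  have k3 : ∀ y, P.rk y = 1 → y ≤ Nx Γ x H → P.Z Γ (P.WL Γ l) ≤ Ux Γ y H := fun y hy e => by
    by_cases hyl : y ≤ l
    · exact k2 y l hy hl hyl hlE
    obtain ⟨a, b, ha, hb, ab, al, bl⟩ := c6_two_pts hl
    have k : ∀ a, P.rk a = 1 → a ≤ l → P.rk (y ⊔ a) = 2 ∧ y ⊔ a ≤ Nx Γ x H := fun a ha al =>
      ⟨P.rk_sup_pts hy ha fun e => hyl (e ▸ al), sup_le e (al.trans hlE)⟩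
    rw [h.Ux_eq_inf hy hH (yH y e) (k a ha al).1 le_sup_left ((k a ha al).2.trans (hc x H y hx hH hxH hy e).ge)
      (k b hb bl).1 le_sup_left ((k b hb bl).2.trans (hc x H y hx hH hxH hy e).ge) fun e' => hyl ?_]
    · exact le_inf ((k2 a l ha hl al hlE).trans (k1 a _ ha (k a ha al).1 le_sup_right (k a ha al).2))
        ((k2 b l hb hl bl hlE).trans (k1 b _ hb (k b hb bl).1 le_sup_right (k b hb bl).2))
    · have := P.eq_of_rk_le (sup_le le_sup_right (le_sup_right.trans e'.ge) : a ⊔ b ≤ y ⊔ a)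
        (by rw [(k a ha al).1, P.rk_sup_pts ha hb ab])
      exact (le_sup_left.trans this.ge).trans (sup_le al bl)
  obtain ⟨a, b, ha, hb, ab, al, bl⟩ := c6_two_pts hl'
  refine P.eq_of_ck_le ?_ (by rw [h.ck_Z (h.ck_WL hl), h.ck_Z (h.ck_WL hl')])
  rw [h.Z_eq_inf (h.ck_WL hl') ⟨H, a, hH, ha, yH a (al.trans hlE'), rfl⟩ (k1 a l' ha hl' al hlE')
    ⟨H, b, hH, hb, yH b (bl.trans hlE'), rfl⟩ (k1 b l' hb hl' bl hlE')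
    fun e => ab (h.Ux_inj hH ha (yH a (al.trans hlE')) hb (yH b (bl.trans hlE')) e)]
  exact le_inf (k3 a ha (al.trans hlE')) (k3 b hb (bl.trans hlE'))

theorem C0.c6_Z_B (h : P.C0 Γ 2 2) (hc : P.Const Γ) {x l l' : L} (hx : P.rk x = 1) (hl : P.rk l = 2) (hxl : x ≤ l)
    (hl' : P.Pt x (P.B Γ l) l') : P.Z Γ (P.WL Γ l') = P.Z Γ (P.WL Γ l) := by
  obtain ⟨h1, h2, h3⟩ := (P.pt_line hx).1 hl'
  obtain rfl | e := eq_or_ne l' l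
  · rfl
  exact h.c6_Z_sp hc (h.sp_of_le_B hl le_sup_left (sup_le (h.le_B hl) h2) (by
    rw [hl'.rk_sup hxl (P.not_le_of_ne (by omega) e), hl])) h3 le_sup_right hl le_sup_left

theorem C0.c6_B_ne (h : P.C0 Γ 2 2) (hi : P.dual.Inj Γ) {x l z : L} (hx : P.rk x = 1) (hl : P.rk l = 2) (hxl : x ≤ l)
    (hz : P.rk z = 1) (hzB : z ≤ P.B Γ l) (hzl : ¬ z ≤ l) : P.B Γ (x ⊔ z) ≠ P.B Γ l := fun e => by
  have r1 := P.rk_sup_pt hz hzl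
  have rB := h.rk_B hl
  obtain ⟨z', hz', h1, h2⟩ := P.exists_rk1 (a := P.B Γ l) (b := l ⊔ z) fun e => by have := P.rk_mono e; omega
  have h3 : ¬ z' ≤ l := fun e => h2 (e.trans le_sup_left)
  have r2 := P.rk_sup_pts hx hz fun e => hzl (e ▸ hxl)
  have r3 := P.rk_sup_pts hx hz' fun e => h3 (e ▸ hxl)
  have sp : ∀ a y, P.rk a = 2 → x ≤ a → P.rk y = 1 → y ≤ P.B Γ a → ¬ y ≤ a →
      ∃ H, P.ck H = 1 ∧ x ≤ H ∧ a ⊔ y = Nx Γ x H := fun a y ha xa hy k1 k2 =>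
    h.sp_at (h.sp_of_le_B ha le_sup_left (sup_le (h.le_B ha) k1) (by rw [P.rk_sup_pt hy k2, ha])) hx (xa.trans le_sup_left)
  obtain ⟨H, hH, xH, e1⟩ := sp l z hl hxl hz hzB hzl
  obtain ⟨H', hH', xH', e2⟩ := sp l z' hl hxl hz' h1 h3
  obtain ⟨H'', hH'', xH'', e3⟩ := sp _ z' r2 le_sup_left hz' (e ▸ h1) fun e => h2 (e.trans (sup_le_sup_right hxl _))
  have k1 := h.Ux_le_WL hx r3 hH' le_sup_left xH' (e2 ▸ sup_le_sup_right hxl _)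
  have k2 := h.Ux_le_WL hx r3 hH'' le_sup_left xH'' (e3 ▸ sup_le_sup_right le_sup_left _)
  have c1 := h.ck_Ux hx hH' xH'
  have c2 := h.ck_Ux hx hH'' xH''
  have c3 := h.ck_WL r3
  have k3 := P.sup_eq_of_rk k1 k2 (fun e => h2 (by
      have k4 : l ⊔ z ≤ l ⊔ z' := sup_le le_sup_left (by
        rw [e2, ← hi H'' H' x hH'' hH' hx xH'' xH' (P.eq_of_ck_le e (c2.trans c1.symm).le), ← e3]
        exact le_sup_right.trans le_sup_left)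
      exact le_sup_right.trans (P.eq_of_rk_le k4 (by rw [P.rk_sup_pt hz' h3, r1])).ge))
    (by have := P.rk_add_ck (Ux Γ x H'); have := P.rk_add_ck (P.WL Γ (x ⊔ z')); omega)
  refine h2 (le_sup_right.trans (((h.b0.le_Nx_iff hx r3 hH le_sup_left xH).2 (k3 ▸ sup_le ?_ ?_)).trans e1.ge))
  · exact (h.Ux_le_WL hx hl hH' hxl xH' (e2 ▸ le_sup_left)).trans ((h.b0.le_Nx_iff hx hl hH hxl xH).1 (e1 ▸ le_sup_left))
  · exact (h.Ux_le_WL hx r2 hH'' le_sup_left xH'' (e3 ▸ le_sup_left)).trans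
      ((h.b0.le_Nx_iff hx r2 hH le_sup_left xH).1 (e1 ▸ sup_le_sup_right hxl _))

theorem C0.not_const_inj' (h : P.C0 Γ 2 2) (hc : P.Const Γ) (hi : P.dual.Inj Γ) : False := by
  obtain ⟨l₀, -, -, hl₀⟩ := P.exists_rk (bot_le (a := ⊤)) (k := 2) (by rw [P.rk_bot]; omega) (by
    have := h.lt; rw [P.rk_top]; omega)
  obtain ⟨x₀, -, hx₀, -, -, xl, -⟩ := c6_two_pts hl₀
  obtain ⟨Z, hZ⟩ : ∃ Z, Z = P.Z Γ (P.WL Γ l₀) := ⟨_, rfl⟩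
  have cZ : P.ck Z = 4 := hZ ▸ h.ck_Z (h.ck_WL hl₀)
  let 𝓛 := {l | P.rk l = 2 ∧ P.Z Γ (P.WL Γ l) = Z}
  let A := {x | P.rk x = 1 ∧ ∃ l ∈ 𝓛, x ≤ l}
  have k0 : ∀ x l l', P.rk x = 1 → l ∈ 𝓛 → x ≤ l → P.Pt x (P.B Γ l) l' → l' ∈ 𝓛 := fun x l l' hx hl e k =>
    ⟨((P.pt_line hx).1 k).2.2, (h.c6_Z_B hc hx hl.1 e k).trans hl.2⟩
  have k1 := dc_le A 𝓛 (· ≤ ·) (m := P.θ 3) (k := P.θ 2) (by
      rintro x ⟨hx, l, hl, e⟩
      have := P.rk_add_d (e.trans (h.le_B hl.1))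
      rw [h.rk_B hl.1, hx] at this
      rw [show 3 = P.d x (P.B Γ l) by omega, ← P.ncard_pt (e.trans (h.le_B hl.1))]
      exact Set.ncard_le_ncard fun l' k => ⟨k0 x l l' hx hl e k, k.1⟩) fun l hl => by
    rw [← hl.1, ← P.d_bot, ← P.ncard_pt bot_le]
    exact Set.ncard_le_ncard fun x k => P.pt_bot.2 ⟨k.2, k.1.1⟩
  have k2 : 𝓛.ncard ≤ {D | P.ck D = 2 ∧ Z ≤ D}.ncard := Set.ncard_le_ncard_of_injOn (P.WL Γ)
    (fun l hl => ⟨h.ck_WL hl.1, hl.2 ▸ h.dual.le_B (h.ck_WL hl.1)⟩) fun l hl l' hl' e => by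
      have k : ∀ l, P.rk l = 2 → l = P.NL Γ (P.WL Γ l) := fun l hl =>
        P.eq_of_rk_le ((h.WL_le_iff hl (h.ck_WL hl)).1 le_rfl) (by rw [h.rk_NL (h.ck_WL hl), hl])
      rw [k l hl.1, e, ← k l' hl'.1]
  have k3 := dc_eq {D | P.ck D = 2 ∧ Z ≤ D} {H | P.Hy Z ⊤ H} (· ≤ ·) (m := P.θ 2) (k := P.θ 3) (fun D hD => by
      rw [← hD.1, ← P.d_top, ← P.ncard_hy le_top]
      congr 1
      exact Set.ext fun H => ⟨fun k => k.1.mono k.2, fun k => ⟨Hy.mono k (hD.2.trans k.2.1), k.2.1⟩⟩) fun H hH => by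
    obtain ⟨h1, h2⟩ := P.hy_top.1 hH
    have := P.d_add_ck h1
    rw [show 3 = P.d Z H by omega, ← P.ncard_hy h1]
    congr 1
    exact Set.ext fun D => ⟨fun k => (P.hy_co h2).2 ⟨k.2, k.1.2, k.1.1⟩,
      fun k => let ⟨a, b, c⟩ := (P.hy_co h2).1 k; ⟨⟨c, b⟩, a⟩⟩
  have k4 : ∀ l ∈ 𝓛, x₀ ≤ l → ∀ z, P.rk z = 1 → z ≤ P.B Γ l → z ≠ x₀ → x₀ ⊔ z ∈ 𝓛 := fun l hl e z hz k k' =>
    k0 x₀ l _ hx₀ hl e ((P.pt_line hx₀).2 ⟨le_sup_left, sup_le (e.trans (h.le_B hl.1)) k, P.rk_sup_pts hx₀ hz k'.symm⟩)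
  have k5 : ∀ l ∈ 𝓛, x₀ ≤ l → ∀ z, P.rk z = 1 → z ≤ P.B Γ l → z ∈ A := fun l hl e z hz k => by
    obtain rfl | k' := eq_or_ne z x₀
    exacts [⟨hz, l, hl, e⟩, ⟨hz, _, k4 l hl e z hz k k', le_sup_right⟩]
  have rB := h.rk_B hl₀
  obtain ⟨z, hz, z1, z2⟩ := P.exists_rk1 (a := P.B Γ l₀) (b := l₀) fun e => by have := P.rk_mono e; omega
  have k6 := k4 l₀ ⟨hl₀, hZ.symm⟩ xl z hz z1 fun e => z2 (e ▸ xl)
  obtain ⟨y, hy, y1, y2⟩ := P.exists_rk1 (P.not_le_of_ne (by rw [rB, h.rk_B k6.1]) (h.c6_B_ne hi hx₀ hl₀ xl hz z1 z2))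
  have k7 := Set.ncard_lt_ncard (s := {e | P.Pt ⊥ (P.B Γ l₀) e}) (t := A) ⟨fun e he => k5 l₀ ⟨hl₀, hZ.symm⟩ xl e
    (P.pt_bot.1 he).2 he.2.1, fun k => y2 (k (k5 _ k6 le_sup_left y hy y1)).2.1⟩
  rw [P.ncard_pt bot_le, P.d_bot, rB] at k7
  rw [P.ncard_hy le_top, P.d_top, cZ] at k3
  exact (Nat.mul_lt_mul_of_pos_right k7 (P.θ_pos (k := 3) (by omega))).not_ge
    ((k1.trans (Nat.mul_le_mul_right _ k2)).trans k3.le)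

end CfsgLib.CK.PG
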