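import Cfsg.Agent.Lib.CK.B34
import Cfsg.Agent.Lib.CK.C1
import Cfsg.Agent.Lib.CK.SimL

/-!
Cameron–Kantor, transvections of a plane are induced.
-/

set_option autoImplicit false

namespace CfsgLib.CK

open Module CfsgLib.Tech CfsgLib.TvGen

variable {F V : Type*} [Field F] [Finite F] [AddCommGroup V] [Module F V] [Finite V]

variable {H : Subgroup (V ≃ₗ[F] V)}

theorem plane_tv (h : (lin F V).B0 H) {E : Submodule F V} (hE : (lin F V).rk E = 3) {x : V}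
    (hx : x ∈ E) (φ : Dual F V) (hφ : φ x = 0) :
    ∃ g ∈ H, g • E = E ∧ ∀ v ∈ E, g v = v + φ v • x := by
  obtain ⟨ρ, hρ, s⟩ := exists_sub E (Stab H E) (fx_Stab H E)
  have h3 : finrank F E = 3 := by rwa [lin_rk] at hE
  have hb := (s.two (h.plane_two hE)).b0 (by rw [lin_n, h3])
  obtain ⟨-, _, ⟨g, rfl⟩, hg⟩ := trv_of_hasT hb (hasT_three hb h3) ⟨x, hx⟩ (φ ∘ₗ E.subtype) hφ
  refine ⟨g.1, g.2.1, g.2.2, fun v hv => ?_⟩
  rw [← hρ g ⟨v, hv⟩, hg]; rfl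

end CfsgLib.CK
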