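import Cfsg.Agent.Lib.CK.C7a
import Cfsg.Agent.Lib.CK.Plane

/-!
Cameron–Kantor, package C7L: `c = 2`, inj, `q ≥ 3`.
-/

set_option autoImplicit false

namespace CfsgLib.CK

open Module CfsgLib.Tech CfsgLib.TvGen

variable {F V : Type*} [Field F] [Finite F] [AddCommGroup V] [Module F V] [Finite V]

variable {H : Subgroup (V ≃ₗ[F] V)}

/-- the eigenvalue on a section of dimension one -/
theorem c7l_eig {g : V ≃ₗ[F] V} {U W : Submodule F V} (hUW : U ≤ W)
    (hr : (lin F V).rk W = (lin F V).rk U + 1) (gU : g • U = U) (gW : g • W = W) :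
    ∃ c : F, c ≠ 0 ∧ ∀ v ∈ W, g v - c • v ∈ U := by
  obtain ⟨u, huW, huU⟩ := SetLike.exists_of_lt ((lin F V).lt_of_rk_lt hUW (by omega))
  have hs : U ⊔ (F ∙ u) = W := (lin F V).sup_eq_of_rk hUW
    ((Submodule.span_singleton_le_iff_mem _ _).2 huW)
    (by rwa [Submodule.span_singleton_le_iff_mem]) (by omega)
  have dec : ∀ v ∈ W, ∃ y ∈ U, ∃ t : F, y + t • u = v := by
    intro v hv
    rw [← hs] at hv
    obtain ⟨y, hy, z, hz, e⟩ := Submodule.mem_sup.1 hv
    obtain ⟨t, rfl⟩ := Submodule.mem_span_singleton.1 hz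
    exact ⟨y, hy, t, e⟩
  obtain ⟨y, hy, c, hc⟩ := dec _ (apply_mem_of_smul_eq gW huW)
  refine ⟨c, ?_, fun v hv => ?_⟩
  · rintro rfl
    rw [zero_smul, add_zero] at hc
    exact huU (apply_mem_smul.1 (gU.symm ▸ hc ▸ hy : g u ∈ g • U))
  · obtain ⟨y', hy', t, rfl⟩ := dec v hv
    have := U.add_mem (U.sub_mem (apply_mem_of_smul_eq gU hy') (U.smul_mem c hy')) (U.smul_mem t hy)
    convert this using 1
    rw [map_add, map_smul, ← hc]
    module

/-- coordinates in a plane -/
theorem c7l_basis {E : Submodule F V} (hE : (lin F V).rk E = 3) :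
    ∃ (x y z : V) (φ ψ χ : Dual F V), x ∈ E ∧ y ∈ E ∧ z ∈ E ∧ φ x = 1 ∧ φ y = 0 ∧ φ z = 0 ∧
      ψ x = 0 ∧ ψ y = 1 ∧ ψ z = 0 ∧ χ x = 0 ∧ χ y = 0 ∧ χ z = 1 ∧
      ∀ v ∈ E, v = φ v • x + ψ v • y + χ v • z := by
  rw [lin_rk] at hE
  let b := Module.finBasisOfFinrankEq F E hE
  obtain ⟨φ, hφ⟩ := (b.coord 0).exists_extend
  obtain ⟨ψ, hψ⟩ := (b.coord 1).exists_extend
  obtain ⟨χ, hχ⟩ := (b.coord 2).exists_extend
  have e0 : ∀ v : E, φ v = b.repr v 0 := fun v => LinearMap.congr_fun hφ v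
  have e1 : ∀ v : E, ψ v = b.repr v 1 := fun v => LinearMap.congr_fun hψ v
  have e2 : ∀ v : E, χ v = b.repr v 2 := fun v => LinearMap.congr_fun hχ v
  refine ⟨b 0, b 1, b 2, φ, ψ, χ, (b 0).2, (b 1).2, (b 2).2, by simp [e0], by simp [e0],
    by simp [e0], by simp [e1], by simp [e1], by simp [e1], by simp [e2], by simp [e2],
    by simp [e2], fun v hv => ?_⟩
  have := congrArg Subtype.val (b.sum_repr ⟨v, hv⟩)
  rw [Fin.sum_univ_three, ← e0, ← e1, ← e2] at this
  exact this.symm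

theorem c7l_line {E : Submodule F V} (hE : (lin F V).rk E = 3) {φ : Dual F V} {x : V} (hx : x ∈ E)
    (h : φ x ≠ 0) : (lin F V).rk (E ⊓ LinearMap.ker φ) = 2 := by
  have h1 := (lin F V).ck_inf_hy (U := E) (ck_ker (φ := φ) (by rintro rfl; simp at h))
    (fun hle => h (hle hx))
  have h2 := (lin F V).rk_add_ck E
  have h3 := (lin F V).rk_add_ck (E ⊓ LinearMap.ker φ)
  omega

theorem c7l_sp (h : (lin F V).C0 H 2 2) : ∃ E, (lin F V).Sp H E := by
  obtain ⟨x, D, hx, hD, hxD⟩ := h.b0.c3_flag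
  exact ⟨_, x, D, hx, hD, hxD, rfl⟩

/-- an element which is scalar on `B(l)/l` and fixes a point of `l` fixes all points of `l` -/
theorem c7l_row (h : (lin F V).C0 H 2 2) (hi : (lin F V).Inj H) {l : Submodule F V}
    (hl : (lin F V).rk l = 2) {g : V ≃ₗ[F] V} (hg : g ∈ H) (gl : g • l = l) {c : F}
    (hc : ∀ v ∈ (lin F V).B H l, g v - c • v ∈ l) {x : V} (hx : x ∈ l) (hx0 : x ≠ 0) {s : F}
    (gx : g x = s • x) {y : V} (hy : y ∈ l) (hy0 : y ≠ 0) : ∃ t : F, t • y = g y := by
  have h1 := h.latin_row hi hl (rk_span hx0) ((Submodule.span_singleton_le_iff_mem _ _).2 hx) hg gl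
    (smul_eq_of_le fun v hv => by
      obtain ⟨t, rfl⟩ := Submodule.mem_span_singleton.1 hv
      rw [map_smul, gx]
      exact Submodule.smul_mem _ _ (Submodule.smul_mem _ _ (Submodule.mem_span_singleton_self x)))
    (fun E hE hlE => smul_eq_of_le fun v hv => by
      have := E.add_mem (hlE (hc v (hE.le_B hlE hv))) (E.smul_mem c hv)
      rwa [sub_add_cancel] at this)
    (F ∙ y) (rk_span hy0) ((Submodule.span_singleton_le_iff_mem _ _).2 hy)
  exact Submodule.mem_span_singleton.1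
    (apply_mem_of_smul_eq h1 (Submodule.mem_span_singleton_self y))

omit [Finite F] [Finite V] in
theorem c7l_pow_fix {g : V ≃ₗ[F] V} {U : Submodule F V} (h : g • U = U) (m : ℕ) :
    g ^ m • U = U := (MulAction.stabilizer _ U).pow_mem h m

theorem c7l_lift (h : (lin F V).C0 H 2 2) {E l : Submodule F V} (hE : (lin F V).Sp H E)
    (hl : (lin F V).rk l = 2) (hlE : l ≤ E) {x : V} (hx : x ∈ l) (φ : Dual F V) (h0 : φ x = 0) :
    ∃ k ∈ H, k • l = l ∧ (∀ v ∈ E, k v = v + φ v • x) ∧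
      ∀ v ∈ (lin F V).B H l, k v - v ∈ E := by
  have := Fintype.ofFinite F
  obtain ⟨g, hg, gE, e⟩ := plane_tv h.b0 (h.rk_sp hE) (hlE hx) (-φ) (by simp [h0])
  have gl : g • l = l := smul_eq_of_le fun v hv => by
    rw [e v (hlE hv)]; exact l.add_mem hv (l.smul_mem _ hx)
  have gB : g • (lin F V).B H l = (lin F V).B H l := by rw [(lin F V).smul_B hg, gl]
  obtain ⟨c, hc0, hc⟩ := c7l_eig (hE.le_B hlE) (by rw [h.rk_B hl, h.rk_sp hE]) gE gB
  have hp : ∀ m : ℕ, ∀ v ∈ E, (g ^ m) v = v + (-(m : F) * φ v) • x := by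
    intro m v hv
    induction m with
    | zero => simp
    | succ m ih =>
      rw [pow_succ', LinearEquiv.mul_apply, ih, map_add, map_smul, e v hv, e x (hlE hx)]
      simp only [LinearMap.neg_apply, h0, neg_zero, zero_smul, add_zero, Nat.cast_succ]
      module
  refine ⟨g ^ (Fintype.card F - 1), H.pow_mem hg _, c7l_pow_fix gl _, fun v hv => ?_,
    fun v hv => ?_⟩
  · rw [hp _ v hv, Nat.cast_sub Fintype.card_pos, FiniteField.cast_card_eq_zero]; simp
  · have := pow_sub_mem gE (hc v hv) (Fintype.card F - 1)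
    rwa [FiniteField.pow_card_sub_one_eq_one c hc0, one_smul] at this

theorem not_inj_big (h : (lin F V).C0 H 2 2) (hi : (lin F V).Inj H) (hq : 4 ≤ Nat.card F) :
    False := by
  classical
  obtain ⟨μ, m0, m1, m2⟩ : ∃ μ : F, μ ≠ 0 ∧ μ ≠ 1 ∧ μ ≠ -1 := by
    by_contra hn
    push Not at hn
    have h1 : (Set.univ : Set F) ⊆ {0, 1, -1} := fun a _ => by
      by_cases a0 : a = 0
      · exact Or.inl a0
      by_cases a1 : a = 1
      · exact Or.inr (Or.inl a1)
      exact Or.inr (Or.inr (hn a a0 a1))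
    have h2 := Set.ncard_le_ncard h1
    have h3 := Set.ncard_insert_le (0 : F) {1, -1}
    have h4 := Set.ncard_insert_le (1 : F) {-1}
    rw [Set.ncard_univ] at h2
    rw [Set.ncard_singleton] at h4
    omega
  obtain ⟨c, hc⟩ : ∃ c : F, c * μ = μ ^ 2 - 1 := ⟨(μ ^ 2 - 1) / μ, div_mul_cancel₀ _ m0⟩
  have c0 : c ≠ 0 := by
    rintro rfl
    have : (μ - 1) * (μ + 1) = 0 := by linear_combination -hc
    rcases mul_eq_zero.1 this with e | e
    · exact m1 (sub_eq_zero.1 e)
    · exact m2 (eq_neg_of_add_eq_zero_left e)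
  obtain ⟨E, hE⟩ := c7l_sp h
  obtain ⟨x, y, z, φ, ψ, χ, hx, hy, hz, a1, a2, -, b1, b2, -, c1, c2, c3, -⟩ :=
    c7l_basis (h.rk_sp hE)
  have hl := c7l_line (h.rk_sp hE) (φ := χ) hz (by rw [c3]; exact one_ne_zero)
  set l := E ⊓ LinearMap.ker χ
  have hlE : l ≤ E := inf_le_left
  have xl : x ∈ l := ⟨hx, c1⟩
  have yl : y ∈ l := ⟨hy, c2⟩
  obtain ⟨a, ha, al, ea, ba⟩ := c7l_lift h hE hl hlE xl ψ b1
  obtain ⟨b, hb, bl, eb, bb⟩ := c7l_lift h hE hl hlE yl (c • φ) (by simp [a2])
  have ax : a x = x := by rw [ea x hx, b1, zero_smul, add_zero]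
  have ay : a y = y + x := by rw [ea y hy, b2, one_smul]
  have bx : b x = x + c • y := by rw [eb x hx]; simp [a1]
  have by' : b y = y := by rw [eb y hy]; simp [a2]
  have abl : (b * a)⁻¹ • l = l := by rw [inv_smul_eq_iff, mul_smul, al, bl]
  have key := c7l_row h hi hl (g := (b * a)⁻¹ * (a * b))
    (H.mul_mem (H.inv_mem (H.mul_mem hb ha)) (H.mul_mem ha hb))
    (by rw [mul_smul, mul_smul, bl, al, abl]) (c := 1) (fun v hv => by
      have h1 : a (b v) - b (a v) ∈ l := by
        have e1 := ea _ (bb v hv)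
        have e2 := eb _ (ba v hv)
        rw [map_sub, sub_eq_iff_eq_add] at e1 e2
        rw [e1, e2]
        have := l.sub_mem (l.smul_mem (ψ (b v - v)) xl) (l.smul_mem ((c • φ) (a v - v)) yl)
        convert this using 1
        abel
      have h2 := apply_mem_of_smul_eq abl h1
      rw [map_sub, ← LinearEquiv.mul_apply b a, ← LinearEquiv.mul_apply _ (b * a), inv_mul_cancel]
        at h2
      rw [one_smul]
      exact h2)
    (x := μ • x + (1 - μ) • y) (l.add_mem (l.smul_mem _ xl) (l.smul_mem _ yl))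
    (fun e => m0 (by simpa [a1, a2] using congrArg φ e)) (s := μ ^ 2) (by
      apply (b * a).injective
      rw [← LinearEquiv.mul_apply (b * a), mul_inv_cancel_left]
      simp only [LinearEquiv.mul_apply, map_add, map_smul, ax, ay, bx, by']
      match_scalars
      · linear_combination hc
      · linear_combination (1 - μ) * hc)
    xl (fun e => by simp [e] at a1)
  obtain ⟨t, ht⟩ := key
  have h1 := congrArg (b * a) ht
  rw [← LinearEquiv.mul_apply (b * a), mul_inv_cancel_left] at h1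
  simp only [LinearEquiv.mul_apply, map_add, map_smul, ax, ay, bx] at h1
  have h2 := congrArg φ h1
  have h3 := congrArg ψ h1
  simp only [map_add, map_smul, a1, a2, b1, b2, smul_eq_mul] at h2 h3
  have h4 : c * c = 0 := by linear_combination h3 - c * h2
  exact c0 (mul_self_eq_zero.1 h4)

/-- `q = 3`: lines on which `g` is not scalar -/
theorem c7l_plus (h : (lin F V).C0 H 2 2) (hi : (lin F V).Inj H) (hq : Nat.card F = 3)
    {E l : Submodule F V} (hE : (lin F V).Sp H E) (hl : (lin F V).rk l = 2) (hlE : l ≤ E)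
    {g : V ≃ₗ[F] V} (hg : g ∈ H) (gE : g • E = E) (hm : ∀ v ∈ E, g v + v ∈ l) {x y : V}
    (hx : x ∈ l) (hy : y ∈ l) (gx : g x = x) (gy : g y = -y) {φ ψ : Dual F V} (a1 : φ x = 1)
    (a2 : φ y = 0) (b1 : ψ x = 0) (b2 : ψ y = 1) : ∀ v ∈ (lin F V).B H l, g v - v ∈ E := by
  have := Fintype.ofFinite F
  rw [Nat.card_eq_fintype_card] at hq
  have h3 : (3 : F) = 0 := by simpa [hq] using FiniteField.cast_card_eq_zero F
  have gl : g • l = l := smul_eq_of_le fun v hv => by
    have := l.sub_mem (hm v (hlE hv)) hv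
    rwa [add_sub_cancel_right] at this
  have gB : g • (lin F V).B H l = (lin F V).B H l := by rw [(lin F V).smul_B hg, gl]
  obtain ⟨c, hc0, hc⟩ := c7l_eig (hE.le_B hlE) (by rw [h.rk_B hl, h.rk_sp hE]) gE gB
  have hc2 := FiniteField.pow_card_sub_one_eq_one c hc0
  rw [hq] at hc2
  rcases sq_eq_one_iff.1 hc2 with rfl | rfl
  · simpa using hc
  exfalso
  obtain ⟨t, ht⟩ := c7l_row h hi hl (g := g ^ 3) (H.pow_mem hg 3) (c7l_pow_fix gl 3) (c := -1)
    (fun v hv => by
      have e1 := hm _ (hc v hv)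
      have e2 := l.add_mem (apply_mem_of_smul_eq gl e1) e1
      convert e2 using 1
      simp only [pow_succ, pow_zero, one_mul, LinearEquiv.mul_apply, map_add, map_sub, map_smul]
      match_scalars
      · ring
      · ring
      · linear_combination -h3
      · linear_combination -h3)
    hx (fun e => by simp [e] at a1) (s := 1) (by simp [pow_succ, gx])
    (l.add_mem hx hy) (fun e => by simpa [a1, a2] using congrArg φ e)
  simp only [pow_succ, pow_zero, one_mul, LinearEquiv.mul_apply, map_add, map_neg, gx, gy,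
    neg_neg] at ht
  have h1 := congrArg φ ht
  have h2 := congrArg ψ ht
  simp only [map_add, map_smul, map_neg, a1, a2, b1, b2, smul_eq_mul] at h1 h2
  exact one_ne_zero (α := F) (by linear_combination h3 + h1 - h2)

/-- the line on which `g` is scalar -/
theorem c7l_sym (h : (lin F V).C0 H 2 2) (hi : (lin F V).Inj H)
    {E l : Submodule F V} (hE : (lin F V).Sp H E) (hl : (lin F V).rk l = 2) (hlE : l ≤ E)
    {g : V ≃ₗ[F] V} (hg : g ∈ H) (gE : g • E = E) (hm : ∀ v ∈ l, g v = -v) {x : V}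
    (hx : x ∈ E) (hxl : x ∉ l) (gx : g x = x) : ∀ v ∈ (lin F V).B H l, g v - v ∈ E := by
  have h1 := h.latin_sym hi hl hE hlE hg gE fun y _ hy => smul_eq_of_le fun v hv => by
    rw [hm v (hy hv)]; exact y.neg_mem hv
  have h2 : ∀ v ∈ (lin F V).B H l, v ∉ l → ∃ c : F, g v - c • v ∈ l := by
    intro v hv hvl
    have hv0 : v ≠ 0 := by rintro rfl; exact hvl l.zero_mem
    have h3 := h1 (l ⊔ (F ∙ v)) (h.sp_of_le_B hl le_sup_left
      (sup_le (h.le_B hl) ((Submodule.span_singleton_le_iff_mem _ _).2 hv))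
      (by rw [(lin F V).rk_sup_pt (rk_span hv0) (by rwa [Submodule.span_singleton_le_iff_mem]),
        hl])) le_sup_left
    obtain ⟨y, hy, z, hz, e⟩ := Submodule.mem_sup.1 (apply_mem_of_smul_eq h3
      (Submodule.mem_sup_right (Submodule.mem_span_singleton_self v)))
    obtain ⟨c, rfl⟩ := Submodule.mem_span_singleton.1 hz
    exact ⟨c, by rw [← e]; simpa using hy⟩
  intro v hv
  by_cases hvE : v ∈ E
  · exact E.sub_mem (apply_mem_of_smul_eq gE hvE) hvE
  obtain ⟨c, hc⟩ := h2 v hv fun e => hvE (hlE e)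
  obtain ⟨d, hd⟩ := h2 (v + x) (Submodule.add_mem _ hv (hE.le_B hlE hx))
    fun e => hvE (by simpa using E.sub_mem (hlE e) hx)
  have h4 : (c - d) • v + (1 - d) • x ∈ l := by
    convert l.sub_mem hd hc using 1
    rw [map_add, gx]; module
  have h5 : c = d := by
    by_contra hn
    refine hvE ((E.smul_mem_iff (sub_ne_zero.2 hn)).1 ?_)
    simpa using E.sub_mem (hlE h4) (E.smul_mem (1 - d) hx)
  have h6 : 1 = d := by
    by_contra hn
    rw [h5, sub_self, zero_smul, zero_add] at h4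
    exact hxl ((l.smul_mem_iff (sub_ne_zero.2 hn)).1 h4)
  rw [h5, ← h6, one_smul] at hc
  exact hlE hc

theorem not_inj_three (h : (lin F V).C0 H 2 2) (hi : (lin F V).Inj H) (hq : Nat.card F = 3) :
    False := by
  have h3 : (3 : F) = 0 := by
    have := Fintype.ofFinite F
    rw [Nat.card_eq_fintype_card] at hq
    simpa [hq] using FiniteField.cast_card_eq_zero F
  obtain ⟨E, hE⟩ := c7l_sp h
  have rE := h.rk_sp hE
  obtain ⟨x, y, z, φ, ψ, χ, hx, hy, hz, a1, a2, a3, b1, b2, b3, c1, c2, c3, dec⟩ := c7l_basis rE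
  obtain ⟨a, ha, aE, ea⟩ := plane_tv h.b0 rE hy χ c2
  obtain ⟨b, hb, bE, eb⟩ := plane_tv h.b0 rE hz ψ b3
  have ax : a x = x := by rw [ea x hx, c1, zero_smul, add_zero]
  have ay : a y = y := by rw [ea y hy, c2, zero_smul, add_zero]
  have az : a z = z + y := by rw [ea z hz, c3, one_smul]
  have bx : b x = x := by rw [eb x hx, b1, zero_smul, add_zero]
  have by' : b y = y + z := by rw [eb y hy, b2, one_smul]
  have bz : b z = z := by rw [eb z hz, b3, zero_smul, add_zero]
  obtain ⟨g, hg, gE, gx, gy, gz⟩ : ∃ g ∈ H, g • E = E ∧ g x = x ∧ g y = -y ∧ g z = -z := by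
    refine ⟨a * b * (a * b), H.mul_mem (H.mul_mem ha hb) (H.mul_mem ha hb),
      by simp only [mul_smul, aE, bE], ?_, ?_, ?_⟩
    · simp only [LinearEquiv.mul_apply, ax, bx]
    · simp only [LinearEquiv.mul_apply, map_add, ay, az, by', bz]
      linear_combination (norm := module) h3 • y + h3 • y + h3 • z
    · simp only [LinearEquiv.mul_apply, map_add, ay, az, by', bz]
      linear_combination (norm := module) h3 • y + h3 • z
  have gv : ∀ v ∈ E, g v + v = (2 * φ v) • x := by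
    intro v hv
    conv_lhs => rw [dec v hv]
    simp only [map_add, map_smul, gx, gy, gz]
    module
  have l1 := c7l_line rE (φ := φ) hx (by rw [a1]; exact one_ne_zero)
  have l2 := c7l_line rE (φ := ψ) hy (by rw [b2]; exact one_ne_zero)
  have l3 := c7l_line rE (φ := χ) hz (by rw [c3]; exact one_ne_zero)
  have p1 := c7l_sym h hi hE l1 inf_le_left hg gE (fun v hv => by
    have := gv v hv.1
    rw [show φ v = 0 from hv.2, mul_zero, zero_smul] at this
    exact eq_neg_of_add_eq_zero_left this) hx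
    (fun e => one_ne_zero (a1.symm.trans e.2)) gx
  have p2 := c7l_plus h hi hq hE l2 inf_le_left hg gE
    (fun v hv => by rw [gv v hv]; exact Submodule.smul_mem _ _ ⟨hx, b1⟩) ⟨hx, b1⟩ ⟨hz, b3⟩ gx gz
    a1 a3 c1 c3
  have p3 := c7l_plus h hi hq hE l3 inf_le_left hg gE
    (fun v hv => by rw [gv v hv]; exact Submodule.smul_mem _ _ ⟨hx, c1⟩) ⟨hx, c1⟩ ⟨hy, c2⟩ gx gy
    a1 a2 b1 b2
  have l4 := c7l_line rE (φ := φ - ψ) hx (by simp [a1, b1])
  set l := E ⊓ LinearMap.ker (φ - ψ)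
  have hlE : l ≤ E := inf_le_left
  have sp := h.B_span hi hE l1 inf_le_left l2 inf_le_left l3 inf_le_left
    (eq_bot_iff.2 fun v hv => by
      have := dec v hv.2.1
      rw [show φ v = 0 from hv.1.1.2, show ψ v = 0 from hv.1.2.2, show χ v = 0 from hv.2.2] at this
      simpa using this) l4 hlE
  have gB : g • (lin F V).B H l = (lin F V).B H l := smul_eq_of_le fun v hv => by
    obtain ⟨u, hu, w, hw, rfl⟩ := Submodule.mem_sup.1 (sp hv)
    obtain ⟨u1, hu1, u2, hu2, rfl⟩ := Submodule.mem_sup.1 hu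
    have := Submodule.add_mem _
      (hE.le_B hlE (E.add_mem (E.add_mem (p1 _ hu1) (p2 _ hu2)) (p3 _ hw))) hv
    convert this using 1
    rw [map_add, map_add]; abel
  rw [(lin F V).smul_B hg] at gB
  have gl : g • l = l := h.B_inj hi hE (by rw [PG.rk_smul, l4])
    (by rw [← gE]; exact (lin F V).smul_mono g hlE) l4 hlE gB
  have h5 := (apply_mem_of_smul_eq gl (v := x + y) ⟨E.add_mem hx hy, by simp [a1, a2, b1, b2]⟩).2
  rw [map_add, gx, gy] at h5
  have h6 : (φ - ψ) (x + -y) = 0 := h5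
  simp only [LinearMap.sub_apply, map_add, map_neg, a1, a2, b1, b2] at h6
  exact one_ne_zero (α := F) (by linear_combination h3 - h6)

end CfsgLib.CK
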