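import Cfsg.Agent.Lib.CK.C4b

/-!
Cameron–Kantor, package C7A: `c = 2`, inj: the Latin square, `Z(E)`, (a).
-/

set_option autoImplicit false

namespace CfsgLib.CK.PG

open CfsgLib.Tech

variable {G L : Type*} [Group G] [CompleteLattice L] [MulAction G L] [Finite G] [Finite L]
  {P : PG G L}

variable {Γ : Subgroup G}

/-- every special plane over `l` occurs in every column of the Latin square -/
theorem C0.latin_col (h : P.C0 Γ 2 2) (hi : P.Inj Γ) {l E H : L} (hl : P.rk l = 2) (hE : P.Sp Γ E)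
    (hlE : l ≤ E) (hH : P.ck H = 1) (hle : P.WL Γ l ≤ H) : ∃ y, P.rk y = 1 ∧ y ≤ l ∧ E = Nx Γ y H := by
  have b := h.b0
  have k : ∀ y, y ≤ l → y ≤ H := fun y hy => hy.trans ((b.le_WL hl).trans hle)
  have r1 := P.rk_add_d (h.le_B hl)
  have r2 := h.rk_B hl
  have e : (fun y => Nx Γ y H) '' {y | P.Pt ⊥ l y} = {E | P.Pt l (P.B Γ l) E} := by
    refine Set.eq_of_subset_of_ncard_le ?_ ?_
    · rintro _ ⟨y, hy, rfl⟩
      obtain ⟨h1, h2⟩ := P.pt_bot.1 hy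
      have h3 := (b.le_Nx_iff h2 hl hH h1 (k y h1)).2 hle
      exact P.pt_iff.2 ⟨h3, Sp.le_B ⟨y, H, h2, hH, k y h1, rfl⟩ h3, by rw [h.rk_Nx h2 hH (k y h1), hl]⟩
    · rw [Set.InjOn.ncard_image (s := {y | P.Pt ⊥ l y}) fun y hy y' hy' e => hi y y' H (P.pt_bot.1 hy).2 (P.pt_bot.1 hy').2 hH
        (k y (P.pt_bot.1 hy).1) (k y' (P.pt_bot.1 hy').1) e, P.ncard_pt bot_le, P.ncard_pt (h.le_B hl),
        P.d_bot, hl]
      exact (congrArg P.θ (by omega)).le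
  obtain ⟨y, hy, e'⟩ := e.ge (P.pt_iff.2 ⟨hlE, hE.le_B hlE, by rw [h.rk_sp hE, hl]⟩ : P.Pt l (P.B Γ l) E)
  exact ⟨y, (P.pt_bot.1 hy).2, (P.pt_bot.1 hy).1, e'.symm⟩

theorem C0.WL_eq_inf (h : P.C0 Γ 2 2) {l H K : L} (hl : P.rk l = 2) (hH : P.ck H = 1) (hK : P.ck K = 1)
    (hne : H ≠ K) (h1 : P.WL Γ l ≤ H) (h2 : P.WL Γ l ≤ K) : P.WL Γ l = H ⊓ K :=
  P.eq_of_ck_le (le_inf h1 h2) (by rw [h.ck_WL hl, P.ck_inf_hys hH hK hne])

theorem C0.WL_sup (h : P.C0 Γ 2 2) (hi : P.Inj Γ) {x H y K : L} (hx : P.rk x = 1)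
    (hH : P.ck H = 1) (hxH : x ≤ H) (hy : P.rk y = 1) (hK : P.ck K = 1) (hyK : y ≤ K)
    (e : Nx Γ x H = Nx Γ y K) (hne : x ≠ y) : P.WL Γ (x ⊔ y) = H ⊓ K := by
  have b := h.b0
  have hl := P.rk_sup_pts hx hy hne
  have k : x ⊔ y ≤ Nx Γ x H := sup_le (b.lt_Nx hx hH hxH).le ((b.lt_Nx hy hK hyK).le.trans e.ge)
  exact h.WL_eq_inf hl hH hK (fun k => hne (hi x y H hx hy hH hxH (k ▸ hyK) (k ▸ e)))
    ((b.le_Nx_iff hx hl hH le_sup_left hxH).1 k) ((b.le_Nx_iff hy hl hK le_sup_right hyK).1 (k.trans e.le))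

theorem C0.latin_row (h : P.C0 Γ 2 2) (hi : P.Inj Γ) {l x : L} (hl : P.rk l = 2) (hx : P.rk x = 1)
    (hxl : x ≤ l) {g : G} (hg : g ∈ Γ) (gl : g • l = l) (gx : g • x = x)
    (gE : ∀ E, P.Sp Γ E → l ≤ E → g • E = E) : ∀ y, P.rk y = 1 → y ≤ l → g • y = y := by
  intro y hy hyl
  have b := h.b0
  obtain ⟨H, k1, -, hH⟩ := P.exists_ck (le_top (a := P.WL Γ l)) (k := 1) (by rw [P.ck_top]; omega)
    (by rw [h.ck_WL hl]; omega)
  have k2 : ∀ y, P.rk y = 1 → y ≤ l → y ≤ H ∧ g • y ≤ g • H ∧ Nx Γ (g • y) (g • H) = Nx Γ y H := fun y hy hyl => by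
    have k := hyl.trans ((b.le_WL hl).trans k1)
    exact ⟨k, P.smul_mono g k, (P.smul_Nx hg y H).symm.trans
      (gE _ ⟨y, H, hy, hH, k, rfl⟩ ((b.le_Nx_iff hy hl hH hyl k).2 k1))⟩
  obtain ⟨k3, k4, k5⟩ := k2 x hx hxl
  rw [gx] at k4 k5
  have k6 := h.Nx_inj hx ((P.ck_smul g H).trans hH) k4 hH k3 k5
  obtain ⟨k7, k8, k9⟩ := k2 y hy hyl
  rw [k6] at k8 k9
  exact hi _ _ H ((P.rk_smul g y).trans hy) hy hH k8 k7 k9

theorem C0.latin_sym (h : P.C0 Γ 2 2) (hi : P.Inj Γ) {l E : L} (hl : P.rk l = 2) (hE : P.Sp Γ E)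
    (hlE : l ≤ E) {g : G} (hg : g ∈ Γ) (gE : g • E = E)
    (gy : ∀ y, P.rk y = 1 → y ≤ l → g • y = y) : ∀ E', P.Sp Γ E' → l ≤ E' → g • E' = E' := by
  intro E' hE' hlE'
  have b := h.b0
  obtain ⟨x, -, xl, hx⟩ := P.exists_rk (bot_le (a := l)) (k := 1) (by rw [P.rk_bot]; omega) (by omega)
  obtain ⟨H, hH, xH, rfl⟩ := h.sp_at hE' hx (xl.trans hlE')
  have k1 := (b.le_Nx_iff hx hl hH xl xH).1 hlE'
  obtain ⟨y, hy, yl, rfl⟩ := h.latin_col hi hl hE hlE hH k1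
  have k2 := yl.trans ((b.le_WL hl).trans k1)
  rw [P.smul_Nx hg, gy y hy yl] at gE
  rw [P.smul_Nx hg, gy x hx xl,
    h.Nx_inj hy ((P.ck_smul g H).trans hH) ((gy y hy yl).ge.trans (P.smul_mono g k2)) hH k2 gE]

/-- `Z(E) = U(x, Π_x)` depends only on `E`. -/
theorem C0.Ux_of_Nx (h : P.C0 Γ 2 2) (hi : P.Inj Γ) {x H y K : L} (hx : P.rk x = 1)
    (hH : P.ck H = 1) (hxH : x ≤ H) (hy : P.rk y = 1) (hK : P.ck K = 1) (hyK : y ≤ K)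
    (e : Nx Γ x H = Nx Γ y K) : Ux Γ x H = Ux Γ y K := by
  have b := h.b0
  by_cases hne : x = y
  · subst hne
    rw [h.Nx_inj hx hH hxH hK hyK e]
  have k1 := (b.lt_Nx hx hH hxH).le
  have k2 := (b.lt_Nx hy hK hyK).le.trans e.ge
  have r1 := P.rk_sup_pts hx hy hne
  obtain ⟨z, hz, k3, k4⟩ := P.exists_rk1 (a := Nx Γ x H) (b := x ⊔ y) fun k => by
    have := P.rk_mono k
    rw [h.rk_Nx hx hH hxH] at this
    omega
  obtain ⟨M, hM, zM, e'⟩ := h.sp_at ⟨x, H, hx, hH, hxH, rfl⟩ hz k3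
  have n1 : x ≠ z := fun k => k4 (k ▸ le_sup_left)
  have n2 : y ≠ z := fun k => k4 (k ▸ le_sup_right)
  rw [h.Ux_eq_inf hx hH hxH r1 le_sup_left (sup_le k1 k2) (P.rk_sup_pts hx hz n1) le_sup_left (sup_le k1 k3)
      fun k => k4 (le_sup_right.trans k.ge),
    h.Ux_eq_inf hy hK hyK r1 le_sup_right ((sup_le k1 k2).trans e.le) (P.rk_sup_pts hy hz n2) le_sup_left
      ((sup_le k2 k3).trans e.le) fun k => k4 (le_sup_right.trans k.ge),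
    h.WL_sup hi hx hH hxH hy hK hyK e hne, h.WL_sup hi hx hH hxH hz hM zM e' n1,
    h.WL_sup hi hy hK hyK hz hM zM (e.symm.trans e') n2, ← inf_inf_distrib_left, inf_comm H K,
    ← inf_inf_distrib_left, inf_left_comm]

/-- `Z(E)` determines `E`. -/
theorem C0.Nx_of_Ux (h : P.C0 Γ 2 2) (hi : P.Inj Γ) {x H y K : L} (hx : P.rk x = 1)
    (hH : P.ck H = 1) (hxH : x ≤ H) (hy : P.rk y = 1) (hK : P.ck K = 1) (hyK : y ≤ K)
    (e : Ux Γ x H = Ux Γ y K) : Nx Γ x H = Nx Γ y K := by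
  have b := h.b0
  by_cases hne : H = K
  · subst hne
    rw [h.Ux_inj hH hx hxH hy hyK e]
  obtain ⟨l, hl, xl, k1, k2⟩ := h.exists_WL hH hx hxH inf_le_left
    (le_inf (b.Ux_lt hx hH hxH).le (e.le.trans (b.Ux_lt hy hK hyK).le)) (P.ck_inf_hys hH hK hne)
  have k3 := k2.ge.trans inf_le_right
  obtain ⟨w, hw, wl, e'⟩ := h.latin_col hi hl ⟨x, H, hx, hH, hxH, rfl⟩ k1 hK k3
  have k4 := wl.trans ((b.le_WL hl).trans k3)
  rw [e', h.Ux_inj hK hw k4 hy hyK ((h.Ux_of_Nx hi hx hH hxH hw hK k4 e').symm.trans e)]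

/-- (a) -/
theorem C0.B_inj (h : P.C0 Γ 2 2) (hi : P.Inj Γ) {E l l' : L} (hE : P.Sp Γ E) (hl : P.rk l = 2)
    (hlE : l ≤ E) (hl' : P.rk l' = 2) (hlE' : l' ≤ E) (e : P.B Γ l = P.B Γ l') : l = l' := by
  by_contra hne
  have b := h.b0
  have r1 := P.rk_sup_inf l l'
  have r2 := P.rk_mono (sup_le hlE hlE')
  have r3 := P.rk_lt (left_lt_sup.2 (P.not_le_of_ne (hl.trans hl'.symm).le (Ne.symm hne)))
  have r4 := h.rk_B hl
  have r5 := h.rk_sp hE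
  obtain ⟨x, ex⟩ : ∃ x, x = l ⊓ l' := ⟨_, rfl⟩
  have hx : P.rk x = 1 := by rw [ex]; omega
  have xl : x ≤ l := ex ▸ inf_le_left
  have xl' : x ≤ l' := ex ▸ inf_le_right
  obtain ⟨m, hm, k2⟩ := P.exists_pt_of_lt (xl.trans hlE) (P.lt_of_rk_lt (hE.le_B hlE) (by omega))
  obtain ⟨xm, mB, rm⟩ := (P.pt_line hx).1 hm
  have r6 := hm.rk_sup xl fun k => k2 (k.trans hlE)
  have r7 := hm.rk_sup xl' fun k => k2 (k.trans hlE')
  obtain ⟨H, hH, xH, rfl⟩ := h.sp_at hE hx (xl.trans hlE)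
  obtain ⟨K, hK, xK, e1⟩ := h.sp_at (h.sp_of_le_B hl le_sup_left (sup_le (h.le_B hl) mB) (by omega)) hx
    (xl.trans le_sup_left)
  obtain ⟨M, hM, xM, e2⟩ := h.sp_at (h.sp_of_le_B hl' le_sup_left (sup_le (h.le_B hl') (mB.trans e.le))
    (by omega)) hx (xl'.trans le_sup_left)
  have n1 : H ≠ K := fun k => k2 (le_sup_right.trans (k ▸ e1.le))
  have n2 : H ≠ M := fun k => k2 (le_sup_right.trans (k ▸ e2.le))
  have n3 : K ≠ M := fun k => by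
    have := P.rk_mono (sup_le ((P.eq_of_rk_le (sup_le hlE hlE') (by omega)).ge.trans
      (sup_le (le_sup_left.trans e1.le) (le_sup_left.trans (k ▸ e2.le)))) (le_sup_right.trans e1.le))
    rw [hm.rk_sup (xl.trans hlE) k2, ← e1] at this
    omega
  have w1 := h.WL_eq_inf hl hH hK n1 ((b.le_Nx_iff hx hl hH xl xH).1 hlE)
    ((b.le_Nx_iff hx hl hK xl xK).1 (le_sup_left.trans e1.le))
  have w2 := h.WL_eq_inf hl' hH hM n2 ((b.le_Nx_iff hx hl' hH xl' xH).1 hlE')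
    ((b.le_Nx_iff hx hl' hM xl' xM).1 (le_sup_left.trans e2.le))
  have w3 := h.WL_eq_inf rm hK hM n3 ((b.le_Nx_iff hx rm hK xm xK).1 (le_sup_right.trans e1.le))
    ((b.le_Nx_iff hx rm hM xm xM).1 (le_sup_right.trans e2.le))
  refine k2 ((le_sup_right.trans e1.le).trans (h.Nx_of_Ux hi hx hH xH hx hK xK ?_).ge)
  rw [h.Ux_eq_inf hx hH xH hl xl hlE hl' xl' hlE' hne, h.Ux_eq_inf hx hK xK hl xl (le_sup_left.trans e1.le) rm xm
    (le_sup_right.trans e1.le) fun k => k2 (k ▸ hlE), w1, w2, w3, ← inf_inf_distrib_left, inf_comm H K,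
    ← inf_inf_distrib_left, inf_left_comm]

theorem C0.B_pencil (h : P.C0 Γ 2 2) {E x a b l : L} (hE : P.Sp Γ E) (hx : P.rk x = 1)
    (ha : P.rk a = 2) (xa : x ≤ a) (haE : a ≤ E) (hb : P.rk b = 2) (xb : x ≤ b) (hbE : b ≤ E) (hab : a ≠ b)
    (hl : P.rk l = 2) (xl : x ≤ l) (hlE : l ≤ E) : P.B Γ l ≤ P.B Γ a ⊔ P.B Γ b := by
  have b0 := h.b0
  obtain ⟨H, hH, xH, rfl⟩ := h.sp_at hE hx (xa.trans haE)
  have k : ∀ m, P.rk m = 2 → x ≤ m → m ≤ Nx Γ x H → ∃ K, P.ck K = 1 ∧ x ≤ K ∧ Ux Γ x H ≤ K ∧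
      P.WL Γ m = H ⊓ K ∧ Nx Γ x K ≤ P.B Γ m := fun m hm xm mE => by
    have k1 := (b0.le_Nx_iff hx hm hH xm xH).1 mE
    obtain ⟨K, hK, k2, k3⟩ := P.exists_ck1 (a := P.WL Γ m) (b := H) fun k => by
      have := P.ck_anti k
      rw [h.ck_WL hm] at this
      omega
    have xK := xm.trans ((b0.le_WL hm).trans k2)
    exact ⟨K, hK, xK, (h.Ux_le_WL hx hm hH xm xH mE).trans k2, h.WL_eq_inf hm hH hK (fun e => k3 e.le) k1 k2,
      Sp.le_B ⟨x, K, hx, hK, xK, rfl⟩ ((b0.le_Nx_iff hx hm hK xm xK).2 k2)⟩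
  obtain ⟨K, hK, xK, k1, k2, k3⟩ := k a ha xa haE
  obtain ⟨M, hM, xM, k4, k5, k6⟩ := k b hb xb hbE
  have n0 : P.WL Γ a ≠ P.WL Γ b := fun e => hab (h.WL_inj_x hx hH xH ha xa haE hb xb hbE e)
  have r1 := P.ck_inf_hys hK hM fun e => n0 (by rw [k2, k5, e])
  have n1 : ¬ K ⊓ M ≤ H := fun e => n0
    ((P.eq_of_ck_le (k2 ▸ le_inf e inf_le_left) (by rw [h.ck_WL ha, r1])).symm.trans
      (P.eq_of_ck_le (k5 ▸ le_inf e inf_le_right) (by rw [h.ck_WL hb, r1])))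
  have r2 := P.ck_sup_inf (K ⊓ M) (P.WL Γ l)
  have r3 := P.ck_anti (le_inf (le_inf k1 k4) (h.Ux_le_WL hx hl hH xl xH hlE))
  rw [h.ck_Ux hx hH xH] at r3
  rw [h.ck_WL hl] at r2
  obtain ⟨Q, k7, -, hQ⟩ := P.exists_ck (le_top (a := K ⊓ M ⊔ P.WL Γ l)) (k := 1) (by rw [P.ck_top]; omega)
    (by omega)
  have xQ := (le_inf xK xM).trans (le_sup_left.trans k7)
  rw [h.B_eq_sup hl hE hlE ⟨x, Q, hx, hQ, xQ, rfl⟩ ((b0.le_Nx_iff hx hl hQ xl xQ).2 (le_sup_right.trans k7))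
    fun e => n1 (h.Nx_inj hx hH xH hQ xQ e ▸ le_sup_left.trans k7)]
  exact sup_le ((hE.le_B haE).trans le_sup_left)
    ((b0.Nx_le_sup hx hK xK hM xM hQ (le_sup_left.trans k7)).trans (sup_le_sup k3 k6))

theorem C0.B_span (h : P.C0 Γ 2 2) (hi : P.Inj Γ) {E a b c l : L} (hE : P.Sp Γ E)
    (ha : P.rk a = 2) (haE : a ≤ E) (hb : P.rk b = 2) (hbE : b ≤ E) (hc : P.rk c = 2)
    (hcE : c ≤ E) (habc : a ⊓ b ⊓ c = ⊥) (hl : P.rk l = 2) (hlE : l ≤ E) :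
    P.B Γ l ≤ P.B Γ a ⊔ P.B Γ b ⊔ P.B Γ c := by
  have r0 := h.rk_sp hE
  have k : ∀ u v, P.rk u = 2 → u ≤ E → P.rk v = 2 → v ≤ E → ∃ x, P.rk x = 1 ∧ x ≤ u ∧ x ≤ v :=
    fun u v hu uE hv vE => by
      have r1 := P.rk_sup_inf u v
      have r2 := P.rk_mono (sup_le uE vE)
      obtain ⟨x, -, k1, k2⟩ := P.exists_rk (bot_le (a := u ⊓ v)) (k := 1) (by rw [P.rk_bot]; omega) (by omega)
      exact ⟨x, k2, k1.trans inf_le_left, k1.trans inf_le_right⟩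
  have n : ∀ x, P.rk x = 1 → x ≤ a → x ≤ b → ¬ x ≤ c := fun x hx h1 h2 h3 => by
    have := P.rk_mono ((le_inf (le_inf h1 h2) h3).trans habc.le)
    rw [P.rk_bot] at this
    omega
  obtain ⟨x, hx, xa, xb⟩ := k a b ha haE hb hbE
  obtain ⟨y, hy, yl, yc⟩ := k l c hl hlE hc hcE
  have hm := P.rk_sup_pts hx hy fun e => n x hx xa xb (e ▸ yc)
  have mE := sup_le (xa.trans haE) (yc.trans hcE)
  refine (h.B_pencil hE hy hm le_sup_right mE hc yc hcE (fun e => n x hx xa xb (le_sup_left.trans e.le))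
    hl yl hlE).trans (sup_le_sup_right (h.B_pencil hE hx ha xa haE hb xb hbE (fun e => ?_) hm le_sup_left mE) _)
  obtain ⟨z, hz, za, zc⟩ := k a c ha haE hc hcE
  exact n z hz za (e ▸ za) zc

end CfsgLib.CK.PG
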