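import Cfsg.Agent.Lib.CK.C7a

/-!
Cameron–Kantor, package C7B: `q = 2`, the friendship graph.
-/

set_option autoImplicit false

namespace CfsgLib.CK.PG

open CfsgLib.Tech

variable {G L : Type*} [Group G] [CompleteLattice L] [MulAction G L] [Finite G] [Finite L]
  {P : PG G L}

variable {Γ : Subgroup G}

/-- there is no friendship graph of valency 6 on 31 points -/
theorem no_friend {α : Type*} [Finite α] (X : Set α) (r : α → α → Prop) (hX : X.ncard = 31)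
    (hi : ∀ a ∈ X, ¬ r a a) (hs : ∀ a ∈ X, ∀ b ∈ X, r a b → r b a)
    (hd : ∀ a ∈ X, {b | b ∈ X ∧ r a b}.ncard = 6)
    (hm : ∀ a ∈ X, ∀ b ∈ X, a ≠ b → {c | c ∈ X ∧ r a c ∧ r b c}.ncard = 1) : False := by
  classical
  haveI := Fintype.ofFinite X
  haveI : Fact (Nat.Prime 5) := ⟨by norm_num⟩
  have key : ∀ (p : α → Prop) [DecidablePred p], (∑ c : X, if p c then (1 : ZMod 5) else 0) = ({c | c ∈ X ∧ p c}.ncard : ℕ) :=
    fun p _ => by
      rw [Finset.sum_boole, ← Set.ncard_coe_finset, ← Set.ncard_image_of_injective _ Subtype.val_injective]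
      congr 2
      ext c
      simp [and_comm]
  let A : Matrix X X (ZMod 5) := Matrix.of fun a b => if r a b then 1 else 0
  let J : Matrix X X (ZMod 5) := Matrix.of fun _ _ => 1
  have h1 : A * A = J := by
    ext a b
    have e : ∀ c : X, A a c * A c b = if r a c ∧ r b c then 1 else 0 := fun c => by
      have : r c b ↔ r b c := ⟨hs _ c.2 _ b.2, hs _ b.2 _ c.2⟩
      simp only [A, Matrix.of_apply, this, ite_and]
      split_ifs <;> simp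
    rw [Matrix.mul_apply, Finset.sum_congr rfl fun c _ => e c, key fun c => r a c ∧ r b c]
    by_cases k : a = b
    · subst k
      simp only [and_self, hd _ a.2]
      rfl
    · rw [hm _ a.2 _ b.2 fun e => k (Subtype.ext e)]
      rfl
  have h2 : A * J = J := by
    ext a b
    simp only [Matrix.mul_apply, A, J, Matrix.of_apply, mul_one]
    rw [key (r a), hd _ a.2]
    rfl
  have h3 : A ^ 5 = J := by
    rw [pow_succ', pow_succ', pow_succ', pow_two, h1, h2, h2, h2]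
  have h4 := ZMod.trace_pow_card A
  have h5 : A.trace = 0 := Finset.sum_eq_zero fun a _ => if_neg (hi _ a.2)
  have h6 : J.trace = 1 := by
    simp only [Matrix.trace, Matrix.diag, J, Matrix.of_apply, Finset.sum_const, Finset.card_univ, nsmul_eq_mul,
      mul_one]
    rw [← Nat.card_eq_fintype_card, Nat.card_coe_set_eq, hX]
    rfl
  rw [h3, h5, h6] at h4
  exact absurd h4 (by norm_num)

theorem C0.sp_sup (h : P.C0 Γ 2 2) {x e f : L} (hx : P.rk x = 1) (he : P.rk e = 2) (xe : x ≤ e)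
    (hf : P.Pt x (P.B Γ e) f) (hn : ¬ f ≤ e) : P.rk (e ⊔ f) = 3 ∧ P.Sp Γ (e ⊔ f) :=
  have k := (hf.rk_sup xe hn).trans (congrArg (· + 1) he)
  ⟨k, h.sp_of_le_B he le_sup_left (sup_le (h.le_B he) hf.2.1) k⟩

theorem C0.not_friend (h : P.C0 Γ 2 2) (hi : P.Inj Γ) (hq : P.q = 2) {x : L} (hx : P.rk x = 1)
    (hK : ∀ e f, P.rk e = 2 → x ≤ e → P.Pt x (P.B Γ e) f → ¬ f ≤ e → ¬ P.B Γ e ≤ P.WL Γ f) : False := by
  have b := h.b0
  have pt : ∀ {t e : L}, P.Pt x t e → P.rk e = 2 := fun k => ((P.pt_line hx).1 k).2.2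
  have sy : ∀ {e f : L}, P.Pt x ⊤ e → P.Pt x (P.B Γ e) f → ¬ f ≤ e → P.Pt x (P.B Γ f) e ∧ ¬ e ≤ f :=
    fun he hf hn => ⟨he.mono (le_sup_left.trans ((h.sp_sup hx (pt he) he.1 hf hn).2.le_B le_sup_right)),
      fun k => hn (he.eq_of_le hf k).ge⟩
  have dg : ∀ {e : L}, P.Pt x ⊤ e → {f | P.Pt x (P.B Γ e) f ∧ ¬ f ≤ e}.ncard = 6 := fun {e} he => by
    have r1 := P.rk_add_d (h.le_B (pt he))
    rw [h.rk_B (pt he), pt he] at r1
    rw [P.ncard_pt_off he.1 (h.le_B (pt he)), he.2.2, show P.d e (P.B Γ e) = 2 by omega, θ_two, hq]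
    rfl
  obtain ⟨e, xe, -, re⟩ := P.exists_rk (le_top (a := x)) (k := 2) (by omega)
    (by rw [P.rk_top]; exact b.three.trans' (by omega))
  have xW : ∀ {e : L}, P.Pt x ⊤ e → x ≤ P.WL Γ e := fun k => k.1.trans (b.le_WL (pt k))
  -- the number of common neighbours of `e` and a point `f` outside `W(e)`
  have cnt : ∀ {e f : L}, P.Pt x ⊤ e → P.Pt x ⊤ f → ¬ f ≤ P.WL Γ e → 6 * 4 =
      2 ^ P.d x (P.WL Γ e) * 3 * {a | (P.Pt x (P.B Γ e) a ∧ ¬ a ≤ e) ∧ f ≤ P.B Γ a}.ncard := by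
    intro e f he hf hn
    have tr : ∀ {f f' : L}, P.Pt x ⊤ f ∧ ¬ f ≤ P.WL Γ e → P.Pt x ⊤ f' ∧ ¬ f' ≤ P.WL Γ e →
        {a | (P.Pt x (P.B Γ e) a ∧ ¬ a ≤ e) ∧ f ≤ P.B Γ a}.ncard ≤
          {a | (P.Pt x (P.B Γ e) a ∧ ¬ a ≤ e) ∧ f' ≤ P.B Γ a}.ncard := by
      intro f f' k k'
      rw [← b.Wx_eq hx (pt he) he.1] at k k'
      obtain ⟨g, hg, rfl⟩ := (b.at_x hx).tr_off_W he f k f' k'
      refine Set.ncard_le_ncard_of_injOn (g • ·) (fun a ha => ⟨⟨ha.1.1.smul' hg.1.2 ?_, fun k => ha.1.2 ?_⟩, ?_⟩)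
        (MulAction.injective g).injOn
      · rw [P.smul_B hg.1.1, show g • e = e from hg.2]
      · rwa [← P.smul_le_iff g, show g • e = e from hg.2]
      · rw [← P.smul_B hg.1.1]
        exact P.smul_mono g ha.2
    have := dc_eq {a | P.Pt x (P.B Γ e) a ∧ ¬ a ≤ e} {f | P.Pt x ⊤ f ∧ ¬ f ≤ P.WL Γ e} (fun a f => f ≤ P.B Γ a)
      (m := 4) (fun a ha => ?_) fun f' k => le_antisymm (tr k ⟨hf, hn⟩) (tr ⟨hf, hn⟩ k)
    · rwa [dg he, P.ncard_pt_off (xW he) le_top, P.d_top, h.ck_WL (pt he), θ_two, hq] at this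
    obtain ⟨k1, k2⟩ := sy he ha.1 ha.2
    obtain ⟨k3, k4⟩ := h.sp_sup hx (pt ha.1) ha.1.1 k1 k2
    have k5 := k4.le_B le_sup_left
    have k6 : a ⊔ e = P.B Γ a ⊓ P.WL Γ e := by
      obtain ⟨H, hH, xH, e1⟩ := h.sp_at k4 hx (he.1.trans le_sup_right)
      refine (P.inf_eq_of_rk k5 (e1.le.trans (h.Nx_le_WL hx (pt he) hH he.1 xH (le_sup_right.trans e1.le)))
        (hK a e (pt ha.1) ha.1.1 k1 k2) ?_).symm
      rw [h.rk_B (pt ha.1), k3]
    have r1 := P.rk_add_d (he.1.trans (le_sup_right (a := a)))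
    have r2 := P.rk_add_d k5
    rw [h.rk_B (pt ha.1)] at r2
    have k7 := P.ncard_pt_off (he.1.trans (le_sup_right (a := a))) k5
    rw [show P.d x (a ⊔ e) = 2 by omega, show P.d (a ⊔ e) (P.B Γ a) = 1 by omega, θ_one, hq] at k7
    refine Eq.trans (congrArg _ (Set.ext fun f => ?_)) k7
    exact ⟨fun k => ⟨k.1.1.mono k.2, fun k' => k.1.2 (k'.trans (k6.le.trans inf_le_right))⟩,
      fun k => ⟨⟨k.1.mono le_top, fun k' => k.2 ((le_inf k.1.2.1 k').trans k6.ge)⟩, k.1.2.1⟩⟩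
  have dW : ∀ {e : L}, P.Pt x ⊤ e → P.d x (P.WL Γ e) + 3 = P.n := fun {e} he => by
    have r1 := P.rk_add_d (xW he)
    have r2 := P.rk_add_ck (P.WL Γ e)
    rw [h.ck_WL (pt he)] at r2
    omega
  have ar : ∀ d m : ℕ, 3 ≤ d → 6 * 4 = 2 ^ d * 3 * m → d = 3 ∧ m = 1 := fun d m h1 h2 => by
    obtain ⟨u, rfl⟩ := Nat.exists_eq_add_of_le h1
    have h3 : 2 ^ u * m = 1 := by rw [pow_add] at h2; nlinarith
    have h4 := Nat.eq_one_of_mul_eq_one_right h3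
    exact ⟨by simpa using h4, Nat.eq_one_of_mul_eq_one_left h3⟩
  have d3 := h.dim
  have he : P.Pt x ⊤ e := (P.pt_line hx).2 ⟨xe, le_top, re⟩
  obtain ⟨f, hf, hn⟩ := P.exists_pt_of_lt (xW he) (P.lt_of_ck_lt le_top (by rw [P.ck_top, h.ck_WL re]; omega))
  have n6 : P.n = 6 := by
    have := dW he
    have := (ar _ _ (by omega) (cnt he hf hn)).1
    omega
  have WB : ∀ {e : L}, P.Pt x ⊤ e → P.B Γ e = P.WL Γ e := fun {e} he => by
    have r2 := P.rk_add_ck (P.WL Γ e)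
    rw [h.ck_WL (pt he)] at r2
    exact P.eq_of_rk_le (h.B_le_WL (pt he)) (by rw [h.rk_B (pt he)]; omega)
  refine no_friend {e | P.Pt x ⊤ e} (fun e f => f ≤ P.B Γ e ∧ ¬ f ≤ e) ?_ (fun a _ k => k.2 le_rfl)
    (fun a ha c hc k => (sy ha (hc.mono k.1) k.2).imp_left (·.2.1)) (fun a ha => ?_) fun a ha c hc hne => ?_
  · have r1 := P.rk_add_ck x
    rw [P.ncard_pt le_top, P.d_top, show P.ck x = 5 by omega]
    simp [θ, th, hq, Finset.sum_range_succ]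
  · refine Eq.trans (congrArg _ (Set.ext fun f => ?_)) (dg ha)
    exact ⟨fun k => ⟨k.1.mono k.2.1, k.2.2⟩, fun k => ⟨k.1.mono le_top, k.1.2.1, k.2⟩⟩
  have n1 : ¬ c ≤ a := fun k => hne (Pt.eq_of_le hc ha k).symm
  by_cases k : c ≤ P.B Γ a
  · obtain ⟨k3, k4⟩ := h.sp_sup hx (pt ha) ha.1 (Pt.mono hc k) n1
    have k6 : P.B Γ a ⊓ P.B Γ c = a ⊔ c := P.inf_eq_of_rk (k4.le_B le_sup_left) (k4.le_B le_sup_right)
      (P.not_le_of_ne (by rw [h.rk_B (pt ha), h.rk_B (pt hc)]) fun e =>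
        hne (h.B_inj hi k4 (pt ha) le_sup_left (pt hc) le_sup_right e)) (by rw [h.rk_B (pt ha), k3])
    have r1 := P.rk_add_d (le_sup_left (a := a) (b := c))
    have k7 := P.ncard_pt_off ha.1 (le_sup_left (a := a) (b := c))
    rw [ha.2.2, show P.d a (a ⊔ c) = 1 by have := pt ha; omega, θ_one, hq] at k7
    have k8 := Set.ncard_diff_singleton_of_mem (s := {f | P.Pt x (a ⊔ c) f ∧ ¬ f ≤ a})
      (a := c) ⟨Pt.mono hc le_sup_right, n1⟩
    rw [k7] at k8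
    refine Eq.trans (congrArg _ (Set.ext fun f => ?_)) k8
    exact ⟨fun k => ⟨⟨k.1.mono ((le_inf k.2.1.1 k.2.2.1).trans k6.le), k.2.1.2⟩, fun e => k.2.2.2 (le_of_eq e)⟩,
      fun k => ⟨k.1.1.mono le_top, ⟨k.1.1.2.1.trans (k6.ge.trans inf_le_left), k.1.2⟩,
        k.1.1.2.1.trans (k6.ge.trans inf_le_right), fun e => k.2 (k.1.1.eq_of_le hc e)⟩⟩
  · have := dW ha
    refine Eq.trans (congrArg _ (Set.ext fun f => ?_)) (ar _ _ (by omega) (cnt ha hc (WB ha ▸ k))).2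
    refine ⟨fun k => ⟨⟨k.1.mono k.2.1.1, k.2.1.2⟩, (sy hc (k.1.mono k.2.2.1) k.2.2.2).1.2.1⟩, fun k' => ?_⟩
    have k1 := k'.1.1.mono le_top
    exact ⟨k1, ⟨k'.1.1.2.1, k'.1.2⟩, (sy k1 (Pt.mono hc k'.2) fun e => k (e.trans k'.1.1.2.1)).imp_left (·.2.1)⟩

theorem C0.B_le_Ux (h : P.C0 Γ 2 2) (hi : P.Inj Γ) (hq : P.q = 2) {x l H : L} (hx : P.rk x = 1)
    (hH : P.ck H = 1) (hxH : x ≤ H) (hl : P.rk l = 2) (hle : l ≤ Nx Γ x H) :
    P.B Γ l ≤ Ux Γ x H := by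
  by_contra hn
  have b := h.b0
  obtain ⟨y, -, yl, hy⟩ := P.exists_rk (bot_le (a := l)) (k := 1) (by rw [P.rk_bot]; omega) (by omega)
  have hE : P.Sp Γ (Nx Γ x H) := ⟨x, H, hx, hH, hxH, rfl⟩
  obtain ⟨K, hK, yK, e1⟩ := h.sp_at hE hy (yl.trans hle)
  rw [h.Ux_of_Nx hi hx hH hxH hy hK yK e1] at hn
  refine h.not_friend hi hq hy fun e f he ye hf k1 k2 => hn ?_
  obtain ⟨g, hg, g1, g2, g3⟩ := h.sp_tr hE hy hl yl hle (h.sp_sup hy he ye hf k1).2 hy he ye le_sup_left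
  rw [e1, P.smul_Nx hg, g1] at g3
  rw [← P.smul_le_iff g, P.smul_B hg, P.smul_Ux hg, g1, g2,
    h.Ux_eq_inf hy ((P.ck_smul g K).trans hK) (g1.ge.trans (P.smul_mono g yK)) he ye (le_sup_left.trans g3.ge)
      ((P.pt_line hy).1 hf).2.2 hf.1 (le_sup_right.trans g3.ge) fun k => k1 k.ge]
  exact le_inf (h.B_le_WL he) k2

end CfsgLib.CK.PG
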