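import Cfsg.Agent.Lib.CK.C7a

/-!
Cameron–Kantor, package C7C: `q = 2`, the Sylow 3-subgroup.
-/

set_option autoImplicit false

namespace CfsgLib.CK.PG

open CfsgLib.Tech

variable {G L : Type*} [Group G] [CompleteLattice L] [MulAction G L] [Finite G] [Finite L]
  {P : PG G L}

variable {Γ : Subgroup G}

omit [Finite G] [Finite L] [CompleteLattice L] in
theorem c7c_fx {R : Subgroup G} {g : G} (hg : g ∈ Subgroup.normalizer (R : Set G)) {a : L} (h : Fx R a) :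
    Fx R (g • a) := mem_normalizer_iff_cj.1 hg ▸ h.cj g

theorem C0.not_inj_two (h : P.C0 Γ 2 2) (hi : P.Inj Γ) (hq : P.q = 2)
    (hb : ∀ x l H, P.rk x = 1 → P.ck H = 1 → x ≤ H → P.rk l = 2 → l ≤ Nx Γ x H →
      P.B Γ l ≤ Ux Γ x H)
    (hno : ∀ (Y : Subgroup G) (t : L), P.Two Y ⊥ t → 4 ≤ P.rk t → ¬ P.One Y ⊥ t) : False := by
  have p3 := Nat.prime_three
  have := Fact.mk p3
  have n5 := h.lt
  obtain ⟨x, -, -, hx⟩ := P.exists_rk (bot_le (a := ⊤)) (k := 1) (by rw [P.rk_bot]; omega) (by rw [P.rk_top]; omega)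
  obtain ⟨H, xH, -, hH⟩ := P.exists_ck (le_top (a := x)) (k := 1) (by rw [P.ck_top]; omega)
    (by have := P.rk_add_ck x; omega)
  obtain ⟨R, hR⟩ := exists_isSylowIn 3 (Stab (Stab Γ x) H)
  have RΓ : R ≤ Γ := hR.le.trans ((Stab_le _ _).trans (Stab_le _ _))
  have fx : Fx R x := fun g hg => (hR.le hg).1.2
  have fH : Fx R H := fun g hg => (hR.le hg).2
  have pw : ∀ k, ¬ 3 ∣ P.q ^ k * P.θ 1 := fun k e => by
    rw [hq, P.θ_one, mul_one] at e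
    exact absurd (p3.dvd_of_dvd_pow e) (by norm_num)
  have off : ∀ {o U t}, o ≤ U → U ≤ t → P.d U t = 1 → Fx R o → Fx R t → Fx R U → ∃ e, P.Pt o t e ∧ ¬ e ≤ U ∧ Fx R e :=
    fun h1 h2 h3 f1 f2 f3 => (exists_fx p3 hR.pgroup (inv_pt_off (P := P) f1 f2 f3)
      (by rw [P.ncard_pt_off h1 h2, h3]; exact pw _)).imp fun e he => ⟨he.1.1, he.1.2, he.2⟩
  have two : ∀ {o a t e}, P.Pt o t a → P.rk t = P.rk o + 2 → Fx R o → Fx R t → Fx R a → P.Pt o t e → ¬ e ≤ a → Fx R e :=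
    fun {o a t e} h1 h2 f1 f2 f3 he hn => fx_of_lt p3 hR.pgroup (inv_pt_off (P := P) f1 f2 f3) (by
      have := P.rk_add_d h1.2.1
      have := (P.pt_iff.1 h1).2.2
      rw [P.ncard_pt_off h1.1 h1.2.1, h1.2.2, show P.d a t = 1 by omega, hq, P.θ_one]
      norm_num) ⟨he, hn⟩
  obtain ⟨E, hE⟩ : ∃ E, E = Nx Γ x H := ⟨_, rfl⟩
  have sE : P.Sp Γ E := ⟨x, H, hx, hH, xH, hE⟩
  have rE : P.rk E = 3 := h.rk_sp sE
  have xE : x ≤ E := hE ▸ (h.b0.lt_Nx hx hH xH).le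
  have fE' : ∀ g ∈ Γ, g • x = x → g • H = H → g • E = E := fun g hg e e' => by rw [hE, P.smul_Nx hg, e, e']
  have fE : Fx R E := fun g hg => fE' g (RΓ hg) (fx g hg) (fH g hg)
  have dxE : P.d x E = 2 := by have := P.rk_add_d xE; omega
  have nf : ∀ z, P.rk z = 1 → z ≤ E → Fx R z → z = x := fun z hz zE fz => by_contra fun ne => by
    have r := P.rk_sup_pts hx hz (Ne.symm ne)
    obtain ⟨l, hl, hn⟩ := P.exists_pt_of_lt (le_sup_left : x ≤ x ⊔ z) (P.lt_of_rk_lt (sup_le xE zE) (by omega))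
    obtain ⟨g, hg, e⟩ := syl_tr p3 hR (X := {l | P.Pt x E l}) ((h.b0.tr_Nx hx hH xH).sub fun l hl =>
      let ⟨a, b, c⟩ := (P.pt_line hx).1 hl; ⟨c, a, hE ▸ b⟩) (inv_pt (fun g hg => hg.1.2) fun g hg => fE' g hg.1.1 hg.1.2 hg.2)
      (k := 1) (by rw [P.ncard_pt xE, dxE, P.θ_two, hq]; rfl) (x ⊔ z) ((P.pt_line hx).2 ⟨le_sup_left, sup_le xE zE, r⟩) l hl
    exact hn (e ▸ (P.fx_sup fx fz g hg).le)
  obtain ⟨l, ⟨hl, xl⟩, fl⟩ := exists_fx p3 hR.pgroup (inv_hy_off (P := P) (P.fx_bot R) fE fx)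
    (by rw [P.ncard_hy_off bot_le xE, P.d_bot, hx]; exact pw _)
  have rl : P.rk l = 2 := by have := (P.hy_iff.1 hl).2.2; omega
  have rB := h.rk_B rl
  have EB := sE.le_B hl.1
  have fB : Fx R (P.B Γ l) := fun g hg => by rw [P.smul_B (RΓ hg), fl g hg]
  have pE : P.Pt l (P.B Γ l) E := P.pt_iff.2 ⟨hl.1, EB, by omega⟩
  obtain ⟨E', pE', hE'⟩ := P.exists_pt_of_lt hl.1 (P.lt_of_rk_lt EB (by omega))
  have fE₁ := two pE (by omega) fl fB fE pE' hE'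
  have rE' := (P.pt_iff.1 pE').2.2
  obtain ⟨y, py, yl, fy⟩ := off bot_le pE'.1 pE'.2.2 (P.fx_bot R) fE₁ fl
  obtain ⟨yE', hy⟩ := P.pt_bot.1 py
  have yE : ¬ y ≤ E := fun e => yl ((le_inf yE' e).trans (pE'.inf_eq hl.1 hE').le)
  have xy : x ≠ y := fun e => yE (e ▸ xE)
  have rxy := P.rk_sup_pts hx hy xy
  have BH : ∀ {x' H'}, P.rk x' = 1 → P.ck H' = 1 → x' ≤ H' → l ≤ Nx Γ x' H' → P.B Γ l ≤ H' := fun a b c d =>
    (hb _ l _ a b c rl d).trans (h.b0.Ux_lt a b c).le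
  have xyB : x ⊔ y ≤ P.B Γ l := sup_le (xE.trans EB) (yE'.trans pE'.2.1)
  obtain ⟨F, hF⟩ : ∃ F, F = sSup {e | P.rk e = 1 ∧ Fx R e} := ⟨_, rfl⟩
  have lF : ∀ e, P.rk e = 1 → Fx R e → e ≤ F := fun e a b => hF ▸ le_sSup ⟨a, b⟩
  have xyF : x ⊔ y ≤ F := sup_le (lF x hx fx) (lF y hy fy)
  have Ff : ∀ e, P.rk e = 1 → e ≤ F → Fx R e := fun e he eF =>
    (P.closed_pt le_top (X := {e | P.rk e = 1 ∧ Fx R e}) (fun e he => P.pt_bot_top.2 he.1) (fun a ha b hb e he k => by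
      refine ⟨P.pt_bot_top.1 he, ?_⟩
      by_cases ea : e ≤ a
      · exact he.eq_of_le (P.pt_bot_top.2 ha.1) ea ▸ ha.2
      · exact two (P.pt_bot.2 ⟨le_sup_left, ha.1⟩) (by
          rw [P.rk_sup_pts ha.1 hb.1 fun e' => ea (by simpa [← e'] using k), P.rk_bot]) (P.fx_bot R) (P.fx_sup ha.2 hb.2) ha.2
          (he.mono k) ea) e (P.pt_bot_top.2 he) (by rw [bot_sup_eq, ← hF]; exact eF)).2
  have fF : ∀ g ∈ Subgroup.normalizer (R : Set G), g • F = F := fun g hg => hF ▸ P.smul_sSup g fun a =>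
    ⟨fun k => ⟨(P.rk_smul g a).trans k.1, c7c_fx hg k.2⟩,
      fun k => ⟨(P.rk_smul g a).symm.trans k.1, by simpa using c7c_fx (inv_mem hg) k.2⟩⟩
  have nF : ∀ K, P.ck K = 1 → Fx R K → ¬ F ≤ K := fun K hK fK e =>
    let ⟨z, pz, zK, fz⟩ := off bot_le le_top hK (P.fx_bot R) (P.fx_top R) fK
    zK ((lF z (P.pt_bot_top.1 pz) fz).trans e)
  have rF : ∀ K, P.ck K = 1 → Fx R K → P.rk (F ⊓ K) + 1 = P.rk F := fun K hK fK =>
    (P.hy_bot_top.2 hK).rk_inf le_top (nF K hK fK)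
  have uq : ∀ K, P.ck K = 1 → Fx R K → F ⊓ K = F ⊓ H → K = H := fun K hK fK e => by_contra fun ne => by
    have k1 := P.ck_sup_inf F (K ⊓ H)
    rw [← inf_assoc, e, inf_assoc, inf_idem, P.ck_inf_hys hK hH ne, P.ck_inf_hy hH (nF H hH fH)] at k1
    exact nF _ (by omega) (P.fx_sup (fun g hg => fF g (Subgroup.le_normalizer hg)) (P.fx_inf fK fH)) le_sup_left
  have xyH := le_inf xyF (xyB.trans (BH hx hH xH (hE ▸ hl.1)))
  have rH := rF H hH fH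
  by_cases h4 : 4 ≤ P.rk F
  · have c1 := Tr.card_eq (Y := Stab Γ x) (X := {K | P.Hy x ⊤ K}) (fun a ha b hb =>
      let ⟨g, hg, e, e'⟩ := h.b0.tr_flag hx (P.hy_top.1 ha).2 ha.2.1 hx (P.hy_top.1 hb).2 hb.2.1; ⟨g, ⟨hg, e⟩, e'⟩)
      (inv_hy (fx_Stab Γ x) (P.fx_top _)) (P.hy_top.2 ⟨xH, hH⟩)
    have c2 := Tr.card_eq (Y := Stab Γ x) (X := {e | P.Pt ⊥ ⊤ e ∧ ¬ e ≤ x}) (fun a ha b hb =>
      (h.b0.two.tr x a x b (P.pt_bot_top.2 hx) ha.1 (fun e => ha.2 e.ge) (P.pt_bot_top.2 hx) hb.1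
        fun e => hb.2 e.ge).imp fun g k => ⟨⟨k.1, k.2.1⟩, k.2.2⟩)
      (inv_pt_off (P.fx_bot _) (P.fx_top _) (fx_Stab Γ x)) (a := y) ⟨P.pt_bot_top.2 hy, fun e => yE (e.trans xE)⟩
    have Ry : R ≤ Stab (Stab Γ x) y := le_Stab (le_Stab RΓ fx) fy
    rw [c1, P.ncard_hy le_top, P.ncard_pt_off bot_le le_top, ← mul_assoc, mul_left_inj' (P.θ_pos (by
      have := P.rk_add_ck x; rw [P.d_top]; omega)).ne', ← card_mul_relIndex' hR.le, ← card_mul_relIndex' Ry, mul_assoc,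
      mul_right_inj' Nat.card_pos.ne'] at c2
    have hR' : IsSylowIn 3 R (Stab (Stab Γ x) y) := ⟨Ry, hR.pgroup, fun e => hR.not_dvd (c2 ▸ e.mul_right _)⟩
    have FB : F ⊓ P.B Γ l = x ⊔ y := (P.eq_of_rk_le (le_inf xyF xyB) (by
      have k1 := P.rk_sup_inf (F ⊓ P.B Γ l) l
      have k2 := P.rk_mono (sup_le inf_le_right (h.le_B rl) : F ⊓ P.B Γ l ⊔ l ≤ _)
      have k3 : F ⊓ P.B Γ l ⊓ l ≤ ⊥ := P.le_of_rk1 fun z hz k => (xl (nf z hz ((k.trans inf_le_right).trans hl.1)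
        (Ff z hz ((k.trans inf_le_left).trans inf_le_left)) ▸ k.trans inf_le_right)).elim
      rw [le_bot_iff.1 k3, P.rk_bot] at k1
      omega)).symm
    refine hno (Γ ⊓ Subgroup.normalizer (R : Set G)) F ⟨bot_le, P.fx_bot _, fun g hg => fF g hg.2,
      fun a b a' b' ha hb ab ha' hb' ab' => ?_⟩ h4 ⟨x, F ⊓ H, x ⊔ y, P.pt_bot.2 ⟨lF x hx fx, hx⟩,
        P.hy_iff.2 ⟨inf_le_left, bot_le, rH⟩, (P.pt_line hx).2 ⟨le_sup_left, xyH, rxy⟩, fun g hg e e' => ?_⟩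
    · exact witt p3 (X := {e | P.Pt ⊥ ⊤ e}) (fun a ha b hb ab a' ha' b' hb' => h.b0.two.tr a b a' b' ha hb ab ha' hb')
        (P.pt_bot_top.2 hx) (P.pt_bot_top.2 hy) xy hR' (ha.mono le_top) (hb.mono le_top) ab (ha'.mono le_top)
        (hb'.mono le_top) ab' (Ff a ha.2.2 ha.2.1) (Ff b hb.2.2 hb.2.1) (Ff a' ha'.2.2 ha'.2.1) (Ff b' hb'.2.2 hb'.2.1)
    have gH := uq _ ((P.ck_smul g H).trans hH) (c7c_fx hg.2 fH) (by rw [← e', P.smul_inf, fF g hg.2])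
    have hl' := hl.smul' (P.smul_bot g) (fE' g hg.1 e gH)
    have gl : g • l = l := by_contra fun ne => by
      have k := hl.rk_inf hl'.1 fun k => ne (hl'.eq_of_le hl k)
      rw [P.rk_smul] at k
      exact xl (nf _ (by omega) (inf_le_right.trans hl.1) (P.fx_inf (c7c_fx hg.2 fl) fl) ▸ inf_le_right)
    rw [← FB, P.smul_inf, fF g hg.2, P.smul_B hg.1, gl]
  obtain ⟨K, hK, yK, eK⟩ := h.sp_at (h.sp_of_le_B rl pE'.1 pE'.2.1 (by omega)) hy yE'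
  have fK : Fx R K := fun g hg => h.Nx_inj hy ((P.ck_smul g K).trans hK) (fy g hg ▸ P.smul_mono g yK) hK yK (by
    rw [← eK, ← fE₁ g hg, eK, P.smul_Nx (RΓ hg), fy g hg])
  have rK := rF K hK fK
  obtain rfl := uq K hK fK ((P.eq_of_rk_le (le_inf xyF (xyB.trans (BH hy hK yK (eK ▸ pE'.1)))) (by omega)).symm.trans
    (P.eq_of_rk_le xyH (by omega)))
  obtain ⟨z, -, zl, hz⟩ := P.exists_rk (bot_le (a := l)) (k := 1) (by rw [P.rk_bot]; omega) (by omega)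
  have zK := (zl.trans (h.le_B rl)).trans (BH hx hH xH (hE ▸ hl.1))
  have k : ∀ a, P.rk a = 1 → a ≤ K → ¬ a ≤ l → l ≤ Nx Γ a K → a ⊔ z ≤ Nx Γ z K := fun a ha aK al e =>
    have r := P.rk_sup_pts ha hz fun e => al (e ▸ zl)
    (h.b0.le_Nx_iff hz r hH le_sup_right zK).2 ((h.b0.le_Nx_iff ha r hH le_sup_left aK).1
      (sup_le (h.b0.lt_Nx ha hH aK).le (zl.trans e)))
  have r := P.rk_sup_pts hx hz fun e => xl (e ▸ zl)
  have xzE := sup_le xE (zl.trans hl.1)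
  refine xl (le_sup_left.trans (h.B_inj hi sE r xzE rl hl.1 (P.eq_of_rk_le ?_ (by rw [rB, h.rk_B r])).symm).le)
  rw [← P.sup_eq_of_rk EB (yE'.trans pE'.2.1) yE (by omega)]
  exact sup_le (sE.le_B xzE) ((le_sup_left.trans (k y hy yK yl (eK ▸ pE'.1))).trans
    (Sp.le_B ⟨z, K, hz, hH, zK, rfl⟩ (k x hx xH xl (hE ▸ hl.1))))

end CfsgLib.CK.PG
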