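import Cfsg.Agent.Lib.Tech.SylowIn

/-!
Cameron–Kantor: vocabulary.  A finite projective lattice `L` with a group `G` of automorphisms;
everything geometric is stated for intervals `[o, t]` of `L`, duality is `Lᵒᵈ`.
-/

set_option autoImplicit false

namespace CfsgLib.CK

open CfsgLib.Tech

/-- `θ_k = 1 + q + … + q^(k-1)`. -/
def th (q k : ℕ) : ℕ := ∑ i ∈ Finset.range k, q ^ i

section Act

variable {G L : Type*} [Group G] [MulAction G L]

/-- The stabiliser of `a` in `Y`. -/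
def Stab (Y : Subgroup G) (a : L) : Subgroup G := Y ⊓ MulAction.stabilizer G a

/-- `S` fixes `a`. -/
def Fx (S : Subgroup G) (a : L) : Prop := ∀ g ∈ S, g • a = a

/-- `Y` is transitive on `X` (no invariance asserted). -/
def Tr (Y : Subgroup G) (X : Set L) : Prop := ∀ a ∈ X, ∀ b ∈ X, ∃ g ∈ Y, g • a = b

/-- `X` is `Y`-invariant. -/
def Inv (Y : Subgroup G) (X : Set L) : Prop := ∀ g ∈ Y, ∀ a ∈ X, g • a ∈ X

/-- The `Y`-orbit of `a`. -/
def orb (Y : Subgroup G) (a : L) : Set L := {b | ∃ g ∈ Y, g • a = b}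

/-- The number of `Y`-orbits meeting `X`. -/
noncomputable def orbN (Y : Subgroup G) (X : Set L) : ℕ := (orb Y '' X).ncard

theorem mem_Stab {Y : Subgroup G} {a : L} {g : G} : g ∈ Stab Y a ↔ g ∈ Y ∧ g • a = a := Iff.rfl

theorem Stab_le (Y : Subgroup G) (a : L) : Stab Y a ≤ Y := inf_le_left

theorem fx_Stab (Y : Subgroup G) (a : L) : Fx (Stab Y a) a := fun _ h => h.2

theorem le_Stab {S Y : Subgroup G} {a : L} (h : S ≤ Y) (ha : Fx S a) : S ≤ Stab Y a :=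
  fun g hg => ⟨h hg, ha g hg⟩

theorem Fx.mono {S T : Subgroup G} {a : L} (h : Fx T a) (hS : S ≤ T) : Fx S a :=
  fun g hg => h g (hS hg)

theorem Tr.mono {S T : Subgroup G} {X : Set L} (h : Tr S X) (hS : S ≤ T) : Tr T X :=
  fun a ha b hb => let ⟨g, hg, e⟩ := h a ha b hb; ⟨g, hS hg, e⟩

theorem Tr.sub {S : Subgroup G} {X X' : Set L} (h : Tr S X) (hX : X' ⊆ X) : Tr S X' :=
  fun a ha b hb => h a (hX ha) b (hX hb)

theorem Inv.mono {S T : Subgroup G} {X : Set L} (h : Inv T X) (hS : S ≤ T) : Inv S X :=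
  fun g hg => h g (hS hg)

end Act

/-- A finite projective lattice of order `q = p^(e+1)` with relative dimension `d` and a group `G`
of automorphisms. -/
structure PG (G L : Type*) [Group G] [CompleteLattice L] [MulAction G L] where
  p : ℕ
  q : ℕ
  d : L → L → ℕ
  pp : p.Prime
  qp : ∃ e, q = p ^ (e + 1)
  smul_mono : ∀ (g : G) {a b : L}, a ≤ b → g • a ≤ g • b
  d_smul : ∀ (g : G) (a b : L), d (g • a) (g • b) = d a b
  d_add : ∀ {a b c : L}, a ≤ b → b ≤ c → d a c = d a b + d b c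
  d_zero : ∀ {a b : L}, a ≤ b → d a b = 0 → a = b
  d_mod : ∀ a b : L, d (a ⊓ b) a = d b (a ⊔ b)
  card_pt : ∀ {o t : L}, o ≤ t → {e | o ≤ e ∧ e ≤ t ∧ d o e = 1}.ncard = th q (d o t)
  card_hy : ∀ {o t : L}, o ≤ t → {D | D ≤ t ∧ o ≤ D ∧ d D t = 1}.ncard = th q (d o t)

variable {G L : Type*} [Group G] [CompleteLattice L] [MulAction G L]

/-- The largest `Y_e`-invariant proper element of `[o, t]` (A2, A5). -/
def W (Y : Subgroup G) (o t e : L) : L :=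
  sSup {U | o ≤ U ∧ U < t ∧ ∀ g ∈ Y, g • e = e → g • U = U}

/-- The smallest `Y_D`-invariant non-zero element of `[o, t]`; dual of `W`. -/
def N (Y : Subgroup G) (o t D : L) : L :=
  sInf {U | U ≤ t ∧ o < U ∧ ∀ g ∈ Y, g • D = D → g • U = U}

/-- `W_x(ℓ)`. -/
def Wx (Γ : Subgroup G) (x l : L) : L := W (Stab Γ x) x ⊤ l
/-- `N(x, Π)`. -/
def Nx (Γ : Subgroup G) (x H : L) : L := N (Stab Γ x) x ⊤ H
/-- `U(x, Π)`; dual of `Nx` (arguments swapped). -/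
def Ux (Γ : Subgroup G) (x H : L) : L := W (Stab Γ H) ⊥ H x
/-- `N^Π(D)`; dual of `Wx`. -/
def NH (Γ : Subgroup G) (H D : L) : L := N (Stab Γ H) ⊥ H D

theorem W_dual (Y : Subgroup G) (o t D : L) : W (L := Lᵒᵈ) Y t o D = N Y o t D := rfl
theorem N_dual (Y : Subgroup G) (o t e : L) : N (L := Lᵒᵈ) Y t o e = W Y o t e := rfl
theorem Wx_dual (Γ : Subgroup G) (H D : L) : Wx (L := Lᵒᵈ) Γ H D = NH Γ H D := rfl
theorem NH_dual (Γ : Subgroup G) (x l : L) : NH (L := Lᵒᵈ) Γ x l = Wx Γ x l := rfl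
theorem Nx_dual (Γ : Subgroup G) (x H : L) : Nx (L := Lᵒᵈ) Γ H x = Ux Γ x H := rfl
theorem Ux_dual (Γ : Subgroup G) (x H : L) : Ux (L := Lᵒᵈ) Γ H x = Nx Γ x H := rfl

namespace PG

variable (P : PG G L)

/-- The dual lattice. -/
def dual : PG G Lᵒᵈ where
  p := P.p
  q := P.q
  d a b := P.d (OrderDual.ofDual b) (OrderDual.ofDual a)
  pp := P.pp
  qp := P.qp
  smul_mono g _ _ h := P.smul_mono g h
  d_smul g a b := P.d_smul g b a
  d_add h1 h2 := (P.d_add h2 h1).trans (Nat.add_comm _ _)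
  d_zero h h0 := (P.d_zero h h0).symm
  d_mod a b := by
    have := P.d_mod (OrderDual.ofDual b) (OrderDual.ofDual a)
    rw [inf_comm, sup_comm] at this
    exact this.symm
  card_pt h := P.card_hy h
  card_hy h := P.card_pt h

/-- dimension -/
def rk (a : L) : ℕ := P.d ⊥ a
/-- codimension -/
def ck (a : L) : ℕ := P.d a ⊤
/-- dimension of the whole space -/
def n : ℕ := P.d ⊥ ⊤
/-- `θ_k` -/
def θ (k : ℕ) : ℕ := th P.q k

/-- point of the interval `[o, t]` -/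
def Pt (o t e : L) : Prop := o ≤ e ∧ e ≤ t ∧ P.d o e = 1
/-- hyperplane of the interval `[o, t]` -/
def Hy (o t D : L) : Prop := D ≤ t ∧ o ≤ D ∧ P.d D t = 1

theorem dual_p : P.dual.p = P.p := rfl
theorem dual_q : P.dual.q = P.q := rfl
theorem dual_d (a b : L) : P.dual.d a b = P.d b a := rfl
theorem dual_rk (a : L) : P.dual.rk a = P.ck a := rfl
theorem dual_ck (a : L) : P.dual.ck a = P.rk a := rfl
theorem dual_n : P.dual.n = P.n := rfl
theorem dual_θ (k : ℕ) : P.dual.θ k = P.θ k := rfl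
theorem dual_Pt (o t D : L) : P.dual.Pt t o D = P.Hy o t D := rfl
theorem dual_Hy (o t e : L) : P.dual.Hy t o e = P.Pt o t e := rfl

/-- `Y` is transitive on the antiflags of `[o, t]`. -/
structure AT (Y : Subgroup G) (o t : L) : Prop where
  le : o ≤ t
  two : 2 ≤ P.d o t
  fo : Fx Y o
  ft : Fx Y t
  tr : ∀ e D e' D', P.Pt o t e → P.Hy o t D → ¬ e ≤ D → P.Pt o t e' → P.Hy o t D' → ¬ e' ≤ D' →
    ∃ g ∈ Y, g • e = e' ∧ g • D = D'

theorem AT.dual {P : PG G L} {Y : Subgroup G} {o t : L} (h : P.AT Y o t) : P.dual.AT Y t o where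
  le := h.le
  two := h.two
  fo := h.ft
  ft := h.fo
  tr D e D' e' hD he hn hD' he' hn' :=
    let ⟨g, hg, h1, h2⟩ := h.tr e D e' D' he hD hn he' hD' hn'; ⟨g, hg, h2, h1⟩

/-- `Y` is 2-transitive on the points of `[o, t]`; `P.dual.Two Y t o` is the same for hyperplanes. -/
structure Two (Y : Subgroup G) (o t : L) : Prop where
  le : o ≤ t
  fo : Fx Y o
  ft : Fx Y t
  tr : ∀ a b a' b', P.Pt o t a → P.Pt o t b → a ≠ b → P.Pt o t a' → P.Pt o t b' → a' ≠ b' →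
    ∃ g ∈ Y, g • a = a' ∧ g • b = b'

/-- good flag: fixed by a Sylow `p`-subgroup of `Y`. -/
def Good (Y : Subgroup G) (o t e D : L) : Prop :=
  P.Pt o t e ∧ P.Hy o t D ∧ ∃ S, IsSylowIn P.p S Y ∧ Fx S e ∧ Fx S D

theorem Good.dual {P : PG G L} {Y : Subgroup G} {o t e D : L} (h : P.Good Y o t e D) :
    P.dual.Good Y t o D e :=
  let ⟨h1, h2, S, hS, h3, h4⟩ := h; ⟨h2, h1, S, hS, h4, h3⟩

theorem Good.of_dual {P : PG G L} {Y : Subgroup G} {o t e D : L} (h : P.dual.Good Y t o D e) :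
    P.Good Y o t e D :=
  let ⟨h1, h2, S, hS, h3, h4⟩ := h; ⟨h2, h1, S, hS, h4, h3⟩

/-- the case `c = 1`: the stabiliser of some flag `x ≤ H` fixes a line between `x` and `H`. -/
def One (Y : Subgroup G) (o t : L) : Prop :=
  ∃ x H l, P.Pt o t x ∧ P.Hy o t H ∧ P.Pt x H l ∧ ∀ g ∈ Y, g • x = x → g • H = H → g • l = l

/-- `W(ℓ)`. -/
def WL (Γ : Subgroup G) (l : L) : L := sInf {U | ∃ x, P.rk x = 1 ∧ x ≤ l ∧ U = Wx Γ x l}
/-- `N*(D)`; dual of `WL`. -/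
def NL (Γ : Subgroup G) (D : L) : L := sSup {U | ∃ H, P.ck H = 1 ∧ D ≤ H ∧ U = NH Γ H D}
/-- special subspace -/
def Sp (Γ : Subgroup G) (E : L) : Prop := ∃ x H, P.rk x = 1 ∧ P.ck H = 1 ∧ x ≤ H ∧ E = Nx Γ x H
/-- dually special subspace -/
def Sq (Γ : Subgroup G) (U : L) : Prop := ∃ H x, P.ck H = 1 ∧ P.rk x = 1 ∧ x ≤ H ∧ U = Ux Γ x H
/-- the block `B(ℓ)` -/
def B (Γ : Subgroup G) (l : L) : L := sSup {E | P.Sp Γ E ∧ l ≤ E}
/-- the dual block `Z(D)` -/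
def Z (Γ : Subgroup G) (D : L) : L := sInf {U | P.Sq Γ U ∧ U ≤ D}
/-- "const" -/
def Const (Γ : Subgroup G) : Prop :=
  ∀ x H y, P.rk x = 1 → P.ck H = 1 → x ≤ H → P.rk y = 1 → y ≤ Nx Γ x H → Nx Γ y H = Nx Γ x H
/-- "inj" -/
def Inj (Γ : Subgroup G) : Prop :=
  ∀ x y H, P.rk x = 1 → P.rk y = 1 → P.ck H = 1 → x ≤ H → y ≤ H → Nx Γ x H = Nx Γ y H → x = y

theorem dual_WL (Γ : Subgroup G) (D : L) : P.dual.WL Γ D = P.NL Γ D := rfl
theorem dual_NL (Γ : Subgroup G) (l : L) : P.dual.NL Γ l = P.WL Γ l := rfl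
theorem dual_Sp (Γ : Subgroup G) (U : L) : P.dual.Sp Γ U = P.Sq Γ U := rfl
theorem dual_Sq (Γ : Subgroup G) (E : L) : P.dual.Sq Γ E = P.Sp Γ E := rfl
theorem dual_B (Γ : Subgroup G) (D : L) : P.dual.B Γ D = P.Z Γ D := rfl
theorem dual_Z (Γ : Subgroup G) (l : L) : P.dual.Z Γ l = P.B Γ l := rfl
theorem dual_Const (Γ : Subgroup G) : P.dual.Const Γ ↔ ∀ H x H', P.ck H = 1 → P.rk x = 1 → x ≤ H →
    P.ck H' = 1 → Ux Γ x H ≤ H' → Ux Γ x H' = Ux Γ x H := Iff.rfl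
theorem dual_Inj (Γ : Subgroup G) : P.dual.Inj Γ ↔ ∀ H H' x, P.ck H = 1 → P.ck H' = 1 →
    P.rk x = 1 → x ≤ H → x ≤ H' → Ux Γ x H = Ux Γ x H' → H = H' := Iff.rfl

/-- 2-transitive on points and on hyperplanes, dimension at least 3 (part B). -/
structure B0 (Γ : Subgroup G) : Prop where
  two : P.Two Γ ⊥ ⊤
  two' : P.dual.Two Γ (⊤ : L) (⊥ : L)
  three : 3 ≤ P.n

theorem B0.dual {P : PG G L} {Γ : Subgroup G} (h : P.B0 Γ) : P.dual.B0 Γ :=
  ⟨h.two', ⟨h.two.le, h.two.fo, h.two.ft, h.two.tr⟩, h.three⟩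

/-- the standing hypothesis of part C: `2 ≤ c, c' < n - 2`. -/
structure C0 (Γ : Subgroup G) (c c' : ℕ) : Prop where
  b0 : P.B0 Γ
  hc : ∀ x l, P.rk x = 1 → P.rk l = 2 → x ≤ l → P.ck (Wx Γ x l) = c
  hc' : ∀ H D, P.ck H = 1 → P.ck D = 2 → D ≤ H → P.rk (NH Γ H D) = c'
  lt : c + 2 < P.n
  lt' : c' + 2 < P.n
  two_le : 2 ≤ c
  two_le' : 2 ≤ c'

theorem C0.dual {P : PG G L} {Γ : Subgroup G} {c c' : ℕ} (h : P.C0 Γ c c') : P.dual.C0 Γ c' c :=
  ⟨h.b0.dual, h.hc', h.hc, h.lt', h.lt, h.two_le', h.two_le⟩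

end PG

/-- `f` identifies `L'` with the interval `[o, t]` of `L`, and `Y'` is the group induced by `Y`. -/
structure Sim {G' L' : Type*} [Group G'] [CompleteLattice L'] [MulAction G' L'] (P : PG G L)
    (P' : PG G' L') (Y : Subgroup G) (Y' : Subgroup G') (o t : L) (f : L' → L) : Prop where
  le_iff : ∀ a b, f a ≤ f b ↔ a ≤ b
  range : ∀ u, o ≤ u → u ≤ t → ∃ a, f a = u
  bot : f ⊥ = o
  top : f ⊤ = t
  d : ∀ a b, a ≤ b → P.d (f a) (f b) = P'.d a b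
  up : ∀ h ∈ Y', ∃ g ∈ Y, ∀ a, f (h • a) = g • f a
  down : ∀ g ∈ Y, ∃ h ∈ Y', ∀ a, f (h • a) = g • f a

end CfsgLib.CK
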