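import Cfsg.Agent.Lib.CK.Bas
import Cfsg.Agent.Lib.TvGen.Grp

/-!
Cameron–Kantor: the subspace lattice of a finite vector space as a projective lattice.
-/

set_option autoImplicit false

namespace CfsgLib.CK

open Module CfsgLib.TvGen

variable {F V : Type*} [Field F] [AddCommGroup V] [Module F V]

scoped instance act : MulAction (V ≃ₗ[F] V) (Submodule F V) where
  smul g U := U.map (g : V →ₗ[F] V)
  one_smul U := U.map_id
  mul_smul g h U := U.map_comp (h : V →ₗ[F] V) (g : V →ₗ[F] V)

scoped instance finGL [Finite V] : Finite (V ≃ₗ[F] V) := DFunLike.finite _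
scoped instance finDual [Finite F] [Finite V] : Finite (Dual F V) := DFunLike.finite _
scoped instance finQuot [Finite V] (U : Submodule F V) : Finite (V ⧸ U) :=
  Finite.of_surjective _ U.mkQ_surjective

theorem smul_def (g : V ≃ₗ[F] V) (U : Submodule F V) : g • U = U.map (g : V →ₗ[F] V) := rfl

theorem mem_smul {g : V ≃ₗ[F] V} {U : Submodule F V} {v : V} : v ∈ g • U ↔ g.symm v ∈ U :=
  Submodule.mem_map_equiv U

theorem apply_mem_smul {g : V ≃ₗ[F] V} {U : Submodule F V} {v : V} : g v ∈ g • U ↔ v ∈ U := by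
  rw [mem_smul, LinearEquiv.symm_apply_apply]

theorem apply_mem_of_smul_eq {g : V ≃ₗ[F] V} {U : Submodule F V} (h : g • U = U) {v : V}
    (hv : v ∈ U) : g v ∈ U := by rw [← h]; exact apply_mem_smul.2 hv

theorem smul_span (g : V ≃ₗ[F] V) (v : V) : g • (F ∙ v) = F ∙ g v := by
  rw [smul_def, Submodule.map_span, Set.image_singleton]; rfl

theorem finrank_smul (g : V ≃ₗ[F] V) (U : Submodule F V) : finrank F ↥(g • U) = finrank F U :=
  LinearEquiv.finrank_map_eq g U

theorem smul_eq_of_le [Finite V] {g : V ≃ₗ[F] V} {U : Submodule F V} (h : ∀ v ∈ U, g v ∈ U) :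
    g • U = U := by
  refine Submodule.eq_of_le_of_finrank_eq ?_ (finrank_smul g U)
  rintro _ ⟨v, hv, rfl⟩
  exact h v hv

theorem ncard_rank_one (F V : Type*) [Field F] [Finite F] [AddCommGroup V] [Module F V] :
    {e : Submodule F V | finrank F e = 1}.ncard = th (Nat.card F) (finrank F V) := by
  rw [th, ← Projectivization.card_of_finrank F V rfl,
    Nat.card_congr (Projectivization.equivSubmodule F V)]
  rfl

theorem ncard_cover [Finite F] [Finite V] {o t : Submodule F V} (h : o ≤ t) :
    {e | o ≤ e ∧ e ≤ t ∧ finrank F e - finrank F o = 1}.ncard =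
      th (Nat.card F) (finrank F t - finrank F o) := by
  have key : ∀ e : Submodule F V, o ≤ e → finrank F (e.map o.mkQ) = finrank F e - finrank F o := by
    intro e he
    have h1 := LinearMap.finrank_range_add_finrank_ker (o.mkQ.comp e.subtype)
    rw [LinearMap.range_comp, Submodule.range_subtype, LinearMap.ker_comp, Submodule.ker_mkQ,
      (Submodule.comapSubtypeEquivOfLe he).finrank_eq] at h1
    omega
  rw [← key t h, ← ncard_rank_one F (t.map o.mkQ)]
  symm
  refine Set.ncard_congr (fun a _ => (a.map (t.map o.mkQ).subtype).comap o.mkQ) ?_ ?_ ?_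
  · intro a ha
    have h0 : o ≤ (a.map (t.map o.mkQ).subtype).comap o.mkQ := o.le_comap_mkQ _
    refine ⟨h0, ?_, ?_⟩
    · have := Submodule.comap_mono (f := o.mkQ) (Submodule.map_subtype_le (t.map o.mkQ) a)
      rwa [Submodule.comap_map_mkQ, sup_eq_right.2 h] at this
    · rw [← key _ h0, Submodule.map_comap_eq_of_surjective o.mkQ_surjective,
        Submodule.finrank_map_subtype_eq]
      exact ha
  · intro a b _ _ hab
    exact Submodule.map_injective_of_injective (t.map o.mkQ).injective_subtype
      (Submodule.comap_injective_of_surjective o.mkQ_surjective hab)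
  · rintro e ⟨h1, h2, h3⟩
    have h4 : ((e.map o.mkQ).comap (t.map o.mkQ).subtype).map (t.map o.mkQ).subtype =
        e.map o.mkQ := by
      rw [Submodule.map_comap_subtype, inf_eq_right.2 (Submodule.map_mono h2)]
    refine ⟨(e.map o.mkQ).comap (t.map o.mkQ).subtype, ?_, ?_⟩
    · show finrank F _ = 1
      rw [← Submodule.finrank_map_subtype_eq, h4, key e h1, h3]
    · show Submodule.comap _ _ = e
      rw [h4, Submodule.comap_map_mkQ, sup_eq_right.2 h1]

theorem ncard_cocover [Finite F] [Finite V] {o t : Submodule F V} (h : o ≤ t) :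
    {D | D ≤ t ∧ o ≤ D ∧ finrank F t - finrank F D = 1}.ncard =
      th (Nat.card F) (finrank F t - finrank F o) := by
  have key : ∀ U : Submodule F V, finrank F U + finrank F U.dualAnnihilator = finrank F V :=
    fun U => Subspace.finrank_add_finrank_dualAnnihilator_eq U
  have h1 := ncard_cover (Submodule.dualAnnihilator_anti h)
  have e1 : finrank F o.dualAnnihilator - finrank F t.dualAnnihilator =
      finrank F t - finrank F o := by
    have := key o; have := key t; have := Submodule.finrank_mono h; omega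
  rw [e1] at h1
  rw [← h1]
  refine Set.ncard_congr (fun a _ => a.dualAnnihilator) ?_ ?_ ?_
  · rintro D ⟨h2, h3, h4⟩
    refine ⟨Submodule.dualAnnihilator_anti h2, Submodule.dualAnnihilator_anti h3, ?_⟩
    have := key D; have := key t; omega
  · intro a b _ _ hab
    exact Subspace.dualAnnihilator_inj.1 hab
  · rintro e ⟨h2, h3, h4⟩
    have h5 : e.dualCoannihilator.dualAnnihilator = e :=
      Subspace.dualCoannihilator_dualAnnihilator_eq
    refine ⟨e.dualCoannihilator, ⟨?_, ?_, ?_⟩, h5⟩
    · rw [← Subspace.dualAnnihilator_le_dualAnnihilator_iff, h5]; exact h2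
    · rw [← Subspace.dualAnnihilator_le_dualAnnihilator_iff, h5]; exact h3
    · have := key e.dualCoannihilator; have := key t
      rw [h5] at *; omega

/-- The subspace lattice. -/
noncomputable def lin (F V : Type*) [Field F] [Finite F] [AddCommGroup V] [Module F V] [Finite V] :
    PG (V ≃ₗ[F] V) (Submodule F V) where
  p := ringChar F
  q := Nat.card F
  d a b := finrank F b - finrank F a
  pp := CharP.char_is_prime F _
  qp := by
    have := Fintype.ofFinite F
    obtain ⟨n, -, hn⟩ := FiniteField.card F (ringChar F)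
    have := n.pos
    exact ⟨n - 1, by rw [Nat.card_eq_fintype_card, hn, Nat.sub_add_cancel this]⟩
  smul_mono _ _ _ h := Submodule.map_mono h
  d_smul g a b := by rw [finrank_smul, finrank_smul]
  d_add h1 h2 := by have := Submodule.finrank_mono h1; have := Submodule.finrank_mono h2; omega
  d_zero h h0 := Submodule.eq_of_le_of_finrank_le h (by omega)
  d_mod a b := by have := Submodule.finrank_sup_add_finrank_inf_eq a b; omega
  card_pt h := ncard_cover h
  card_hy h := ncard_cocover h

variable [Finite F] [Finite V]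

theorem lin_p : (lin F V).p = ringChar F := rfl
theorem lin_q : (lin F V).q = Nat.card F := rfl
theorem lin_d (a b : Submodule F V) : (lin F V).d a b = finrank F b - finrank F a := rfl
theorem lin_rk (a : Submodule F V) : (lin F V).rk a = finrank F a := by simp [PG.rk, lin_d]
theorem lin_ck (a : Submodule F V) : (lin F V).ck a = finrank F V - finrank F a := by
  simp [PG.ck, lin_d]
theorem lin_n : (lin F V).n = finrank F V := by simp [PG.n, lin_d]

theorem rk_span {v : V} (hv : v ≠ 0) : (lin F V).rk (F ∙ v) = 1 := by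
  rw [lin_rk, finrank_span_singleton hv]

theorem exists_of_rk {x : Submodule F V} (h : (lin F V).rk x = 1) : ∃ v, v ≠ 0 ∧ x = F ∙ v := by
  rw [lin_rk] at h
  obtain ⟨v, hv, h'⟩ := finrank_eq_one_iff'.1 h
  refine ⟨v, by simpa using hv, le_antisymm (fun w hw => ?_) (by simp)⟩
  obtain ⟨c, hc⟩ := h' ⟨w, hw⟩
  exact Submodule.mem_span_singleton.2 ⟨c, by simpa using congrArg Subtype.val hc⟩

theorem ck_ker {φ : Dual F V} (h : φ ≠ 0) : (lin F V).ck (LinearMap.ker φ) = 1 := by
  have := Module.Dual.finrank_ker_add_one_of_ne_zero h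
  rw [lin_ck]; omega

theorem exists_of_ck {H : Submodule F V} (h : (lin F V).ck H = 1) :
    ∃ φ : Dual F V, φ ≠ 0 ∧ H = LinearMap.ker φ := by
  have h1 : H < ⊤ := (lin F V).lt_of_ck_lt le_top (by rw [h, PG.ck_top]; omega)
  obtain ⟨φ, h2, h3⟩ := H.exists_le_ker_of_lt_top h1
  exact ⟨φ, h2, (lin F V).eq_of_ck_le h3 (by rw [h, ck_ker h2])⟩

/-- all transvections lie in `H` -/
def Trv (H : Subgroup (V ≃ₗ[F] V)) : Prop := ∀ (x : V) (φ : Dual F V), φ x = 0 → Tv H x φ

/-- `H` contains a transvection -/
def HasT (H : Subgroup (V ≃ₗ[F] V)) : Prop := ∃ (x : V) (φ : Dual F V), x ≠ 0 ∧ φ ≠ 0 ∧ Tv H x φ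

/-- the exceptional case -/
def Exc (H : Subgroup (V ≃ₗ[F] V)) : Prop :=
  finrank F V = 4 ∧ Nat.card F = 2 ∧ ¬ 16 ∣ Nat.card H

end CfsgLib.CK
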