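import Cfsg.Agent.Lib.CK.C5a
import Cfsg.Agent.Lib.CK.C5b
import Cfsg.Agent.Lib.CK.C6
import Cfsg.Agent.Lib.CK.C7b
import Cfsg.Agent.Lib.CK.C7c
import Cfsg.Agent.Lib.CK.C7L
import Cfsg.Agent.Lib.CK.C2L
import Cfsg.Agent.Lib.CK.B5a

/-!
Cameron–Kantor, the theorem.
-/

set_option autoImplicit false

namespace CfsgLib.CK

open Module CfsgLib.Tech CfsgLib.TvGen

variable {F V : Type*} [Field F] [Finite F] [AddCommGroup V] [Module F V] [Finite V]

theorem not_C0 {H : Subgroup (V ≃ₗ[F] V)} {c c' : ℕ} (h : (lin F V).C0 H c c') : False := by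
  obtain rfl := h.eq
  rcases h.const_or_inj with hc | hi
  · rcases (by have := h.two_le; omega : 3 ≤ c ∨ c = 2) with h3 | rfl
    · exact h.not_blocks hc fun _ _ => h.B_eq hc (Or.inl h3)
    · rcases h.dual.const_or_inj with hc' | hi'
      · exact h.not_blocks hc fun _ _ => h.B_eq hc (Or.inr hc')
      · exact h.not_const_inj' hc hi'
  · rcases (by have := h.two_le; omega : 3 ≤ c ∨ c = 2) with h3 | rfl
    · exact h.not_const_inj (h.const_of_three h3) hi
    have h2 : 2 ≤ Nat.card F := (lin F V).two_le_q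
    rcases (by omega : Nat.card F = 2 ∨ Nat.card F = 3 ∨ 4 ≤ Nat.card F) with hq | hq | hq
    · refine h.not_inj_two hi hq (fun _ _ _ => h.B_le_Ux hi hq) fun Y t hY ht h1 => ?_
      obtain ⟨ρ, -, s⟩ := exists_sub t Y hY.ft
      rw [lin_rk] at ht
      exact not_one ((s.two hY).b0 (by rw [lin_n]; omega)) ht (s.one h1)
    · exact not_inj_three h hi hq
    · exact not_inj_big h hi hq

universe u

theorem ck_ind (F : Type u) [Field F] [Finite F] (n : ℕ) : ∀ (V : Type u) [AddCommGroup V]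
    [Module F V] [Finite V], finrank F V = n → 3 ≤ n → ∀ H : Subgroup (V ≃ₗ[F] V),
    (lin F V).Two H ⊥ ⊤ → Trv H ∨ Exc H := by
  induction n with
  | zero => intro V _ _ _ _ h; omega
  | succ n ih =>
  have step : ∀ (V : Type u) [AddCommGroup V] [Module F V] [Finite V], finrank F V = n + 1 →
      3 ≤ n → ∀ H : Subgroup (V ≃ₗ[F] V), (lin F V).B0 H → ∀ x, (lin F V).rk x = 1 →
      (lin F V).Two (Stab H x) x ⊤ → Trv H ∨ Exc H := by
    intro V _ _ _ hV h3 H h x hx h2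
    by_cases ht : HasT H
    · exact Or.inl (trv_of_hasT h ht)
    obtain ⟨v, hv, rfl⟩ := exists_of_rk hx
    refine Or.inr (b5 h ht (by omega) hv h2 fun K hK => ih _ ?_ h3 K hK)
    have := (F ∙ v).finrank_quotient_add_finrank
    rw [finrank_span_singleton hv] at this
    omega
  intro V _ _ _ hV h3 H h2
  have h := h2.b0 (by rw [lin_n]; omega)
  rcases (by omega : n = 2 ∨ 3 ≤ n) with rfl | h3'
  · exact Or.inl (trv_of_hasT h (hasT_three h hV))
  obtain ⟨c, hc1, hc2, hc⟩ := h.exists_c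
  obtain ⟨c', hc1', hc2', hc'⟩ := h.dual.exists_c
  have hn : (lin F V).n = n + 1 := by rw [lin_n, hV]
  obtain ⟨l, -, -, hl⟩ := (lin F V).exists_rk (bot_le (a := ⊤)) (k := 2)
    (by rw [PG.rk_bot]; omega) (by rw [PG.rk_top]; omega)
  obtain ⟨x, -, hxl, hx⟩ := (lin F V).exists_rk (bot_le (a := l)) (k := 1)
    (by rw [PG.rk_bot]; omega) (by omega)
  obtain ⟨D, -, -, hD⟩ := (lin F V).exists_ck (bot_le (a := ⊤)) (k := 2)
    (by rw [PG.ck_top]; omega) (by rw [PG.ck_bot]; omega)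
  obtain ⟨K, hDK, -, hK⟩ := (lin F V).exists_ck (le_top (a := D)) (k := 1)
    (by rw [PG.ck_top]; omega) (by omega)
  obtain ⟨φ, hφ, hφ', s⟩ := exists_dual H
  have hV' : finrank F (Dual F V) = n + 1 := by rw [Subspace.dual_finrank_eq, hV]
  have h' := (s.two h.two').b0 (by rw [lin_n]; omega)
  by_cases e1 : c + 2 = (lin F V).n
  · exact step V hV h3' H h x hx (h.two_x hx hl hxl (by rw [hc x l hx hl hxl, e1]))
  by_cases e2 : c' + 2 = (lin F V).n
  · obtain ⟨y, hy⟩ := s.range K (le_top (a := K)) (bot_le (a := K))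
    have h4 := h.dual.two_x (x := K) (l := D) hK hD hDK (by rw [hc' K D hK hD hDK]; exact e2)
    rw [← hy] at h4
    rcases step _ hV' h3' _ h' y (by rw [s.rk_eq, hy]; exact hK) (s.two_x h4) with h5 | h5
    · exact Or.inl (trv_of_dual hφ' h5)
    · refine Or.inr ⟨by rw [hV, ← hV']; exact h5.1, h5.2.1, ?_⟩
      rw [Nat.card_congr (MonoidHom.ofInjective hφ).toEquiv]
      exact h5.2.2
  by_cases e3 : c = 1
  · exact (not_one h (by omega) (h.one_of_c hx hl hxl (by rw [hc x l hx hl hxl, e3]))).elim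
  by_cases e4 : c' = 1
  · exact (not_one h' (by omega) (s.one (h.dual.one_of_c (x := K) (l := D) hK hD hDK
      (by rw [hc' K D hK hD hDK]; exact e4)))).elim
  have hc2'' : c' + 2 ≤ (lin F V).n := hc2'
  exact (not_C0 ⟨h, hc, hc', by omega, by omega, by omega, by omega⟩).elim

/-- Cameron–Kantor. -/
theorem ck {H : Subgroup (V ≃ₗ[F] V)} (h3 : 3 ≤ finrank F V) (h : (lin F V).Two H ⊥ ⊤) :
    Trv H ∨ Exc H := by
  obtain ⟨φ, hφ, hφ', s⟩ := exists_congr (Module.finBasis F V).equivFun H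
  have e : finrank F (Fin (finrank F V) → F) = finrank F V := by simp
  rcases ck_ind F _ _ e h3 _ (s.two h) with h5 | h5
  · exact Or.inl (trv_of_congr hφ' h5)
  · refine Or.inr ⟨by rw [← e]; exact h5.1, h5.2.1, ?_⟩
    rw [Nat.card_congr (MonoidHom.ofInjective hφ).toEquiv]
    exact h5.2.2

/-- Cameron–Kantor: 2-transitive on points, dimension `≥ 3` and `≠ 4`, contains `SL`. -/
theorem sl_le {H : Subgroup (V ≃ₗ[F] V)} (h3 : 3 ≤ finrank F V) (h4 : finrank F V ≠ 4)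
    (h : ∀ a b a' b' : Submodule F V, finrank F a = 1 → finrank F b = 1 → a ≠ b →
      finrank F a' = 1 → finrank F b' = 1 → a' ≠ b' →
      ∃ g ∈ H, a.map (g : V →ₗ[F] V) = a' ∧ b.map (g : V →ₗ[F] V) = b')
    (f : V ≃ₗ[F] V) (hf : LinearMap.det (f : V →ₗ[F] V) = 1) : f ∈ H := by
  have h2 : (lin F V).Two H ⊥ ⊤ := ⟨bot_le, (lin F V).fx_bot H, (lin F V).fx_top H,
    fun a b a' b' ha hb hab ha' hb' hab' => by
      rw [PG.pt_bot_top, lin_rk] at ha hb ha' hb'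
      exact h a b a' b' ha hb hab ha' hb' hab'⟩
  exact mem_of_det_eq_one H ((ck h3 h2).resolve_right fun e => h4 e.1) f hf

/-- The same with vectors. -/
theorem sl_le' {H : Subgroup (V ≃ₗ[F] V)} (h3 : 3 ≤ finrank F V) (h4 : finrank F V ≠ 4)
    (h : ∀ a b a' b' : V, a ≠ 0 → b ≠ 0 → (F ∙ a) ≠ F ∙ b → a' ≠ 0 → b' ≠ 0 → (F ∙ a') ≠ F ∙ b' →
      ∃ g ∈ H, (F ∙ g a) = F ∙ a' ∧ (F ∙ g b) = F ∙ b')
    (f : V ≃ₗ[F] V) (hf : LinearMap.det (f : V →ₗ[F] V) = 1) : f ∈ H := by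
  refine sl_le h3 h4 (fun a b a' b' ha hb hab ha' hb' hab' => ?_) f hf
  rw [← lin_rk] at ha hb ha' hb'
  obtain ⟨a, ha0, rfl⟩ := exists_of_rk ha
  obtain ⟨b, hb0, rfl⟩ := exists_of_rk hb
  obtain ⟨a', ha0', rfl⟩ := exists_of_rk ha'
  obtain ⟨b', hb0', rfl⟩ := exists_of_rk hb'
  obtain ⟨g, hg, h1, h2⟩ := h a b a' b' ha0 hb0 hab ha0' hb0' hab'
  exact ⟨g, hg, (smul_span g a).trans h1, (smul_span g b).trans h2⟩

end CfsgLib.CK
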