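import Cfsg.Agent.Lib.CK.Defs

/-!
Cameron–Kantor: arithmetic of `θ_k`.
-/

set_option autoImplicit false

namespace CfsgLib.CK.PG

variable {G L : Type*} [Group G] [CompleteLattice L] [MulAction G L] (P : PG G L)

theorem p_dvd_q : P.p ∣ P.q := by
  obtain ⟨e, he⟩ := P.qp
  rw [he]; exact dvd_pow_self _ (Nat.succ_ne_zero e)

theorem two_le_q : 2 ≤ P.q := by
  obtain ⟨e, he⟩ := P.qp
  rw [he]
  exact P.pp.two_le.trans (Nat.le_self_pow (Nat.succ_ne_zero e) _)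

theorem q_pos : 0 < P.q := by have := P.two_le_q; omega

theorem exists_pow (k : ℕ) : ∃ j, P.q ^ k = P.p ^ j := by
  obtain ⟨e, he⟩ := P.qp
  exact ⟨(e + 1) * k, by rw [he, pow_mul]⟩

theorem θ_zero : P.θ 0 = 0 := by simp [θ, th]

theorem θ_succ (k : ℕ) : P.θ (k + 1) = P.θ k + P.q ^ k := by simp [θ, th, Finset.sum_range_succ]

theorem θ_succ' (k : ℕ) : P.θ (k + 1) = 1 + P.q * P.θ k := by
  simp only [θ, th, Finset.sum_range_succ', Finset.mul_sum, pow_zero]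
  rw [add_comm]; congr 1
  exact Finset.sum_congr rfl fun i _ => pow_succ' _ _

theorem θ_one : P.θ 1 = 1 := by simp [θ, th]

theorem θ_two : P.θ 2 = P.q + 1 := by rw [θ_succ', θ_one]; omega

theorem θ_three : P.θ 3 = P.q ^ 2 + P.q + 1 := by rw [θ_succ, θ_two]; omega

theorem θ_add (a b : ℕ) : P.θ (a + b) = P.θ a + P.q ^ a * P.θ b := by
  induction b with
  | zero => simp [θ_zero]
  | succ b ih => rw [← add_assoc, θ_succ, ih, θ_succ]; ring

theorem θ_strictMono : StrictMono P.θ := strictMono_nat_of_lt_succ fun k => by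
  rw [θ_succ]; exact Nat.lt_add_of_pos_right (pow_pos P.q_pos k)

theorem θ_lt_iff {a b : ℕ} : P.θ a < P.θ b ↔ a < b := P.θ_strictMono.lt_iff_lt

theorem θ_le_iff {a b : ℕ} : P.θ a ≤ P.θ b ↔ a ≤ b := P.θ_strictMono.le_iff_le

theorem θ_inj {a b : ℕ} (h : P.θ a = P.θ b) : a = b := P.θ_strictMono.injective h

theorem θ_pos {k : ℕ} (h : 1 ≤ k) : 0 < P.θ k := by
  rw [← P.θ_zero]; exact P.θ_strictMono h

theorem θ_lt_pow (k : ℕ) : P.θ k < P.q ^ k := by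
  induction k with
  | zero => simp [θ_zero]
  | succ k ih =>
    rw [θ_succ, pow_succ]
    have := P.two_le_q
    nlinarith

theorem θ_modEq {k : ℕ} (h : 1 ≤ k) : P.θ k ≡ 1 [MOD P.p] := by
  obtain ⟨k, rfl⟩ : ∃ j, k = j + 1 := ⟨k - 1, by omega⟩
  rw [θ_succ']
  exact (Nat.modEq_iff_dvd' (Nat.le_add_right _ _)).2 (by
    simpa using P.p_dvd_q.mul_right _) |>.symm

theorem not_dvd_θ {k : ℕ} (h : 1 ≤ k) : ¬ P.p ∣ P.θ k := fun hd => by
  have := (P.θ_modEq h).dvd_iff (dvd_refl _)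
  exact P.pp.one_lt.ne' (Nat.dvd_one.1 (this.1 hd))

theorem coprime_θ (i : ℕ) {k : ℕ} (h : 1 ≤ k) : Nat.Coprime (P.q ^ i) (P.θ k) := by
  obtain ⟨j, hj⟩ := P.exists_pow i
  rw [hj]
  exact Nat.Coprime.pow_left _ ((Nat.Prime.coprime_iff_not_dvd P.pp).2 (P.not_dvd_θ h))

theorem pow_mul_θ_inj {i j a b : ℕ} (ha : 1 ≤ a) (hb : 1 ≤ b)
    (h : P.q ^ i * P.θ a = P.q ^ j * P.θ b) : i = j ∧ a = b := by
  have h1 : P.q ^ i ∣ P.q ^ j := (P.coprime_θ i hb).dvd_of_dvd_mul_right ⟨_, h.symm⟩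
  have h2 : P.q ^ j ∣ P.q ^ i := (P.coprime_θ j ha).dvd_of_dvd_mul_right ⟨_, h⟩
  have hq : 1 < P.q := P.two_le_q
  have e : i = j := le_antisymm ((Nat.pow_dvd_pow_iff_le_right hq).1 h1)
    ((Nat.pow_dvd_pow_iff_le_right hq).1 h2)
  subst e
  exact ⟨rfl, P.θ_inj (Nat.eq_of_mul_eq_mul_left (pow_pos P.q_pos _) h)⟩

private theorem aux {a b c d : ℕ} (ha : 1 ≤ a) (hab : a ≤ b) (hcd : c ≤ d) (hac : a < c)
    (h : P.θ a * P.θ b = P.θ c * P.θ d) : False := by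
  -- reduce modulo `q^(a+1)` after multiplying by `(q-1)^2`
  have key : ∀ k, (P.θ k : ℤ) * (P.q - 1) = P.q ^ k - 1 := fun k => by
    simp only [θ, th]; push_cast; exact geom_sum_mul _ _
  have hz : ((P.q : ℤ) ^ a - 1) * (P.q ^ b - 1) = (P.q ^ c - 1) * (P.q ^ d - 1) := by
    rw [← key, ← key, ← key, ← key]
    have : (P.θ a : ℤ) * P.θ b = P.θ c * P.θ d := by exact_mod_cast h
    linear_combination ((P.q : ℤ) - 1) ^ 2 * this
  have hbd : d < b := by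
    by_contra hn
    have h1 := P.θ_strictMono hac
    have h2 := P.θ_le_iff.2 (not_lt.1 hn)
    have h3 := P.θ_pos (ha.trans hab)
    nlinarith
  obtain ⟨u, rfl⟩ : ∃ u, c = a + 1 + u := ⟨c - (a + 1), by omega⟩
  obtain ⟨v, rfl⟩ : ∃ v, d = a + 1 + v := ⟨d - (a + 1), by omega⟩
  obtain ⟨w, rfl⟩ : ∃ w, b = a + 1 + w := ⟨b - (a + 1), by omega⟩
  have hq : (2 : ℤ) ≤ P.q := by exact_mod_cast P.two_le_q
  have hpos : (0 : ℤ) < (P.q : ℤ) ^ a := by positivity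
  have h1 : (P.q : ℤ) ^ a * (P.q * (P.q ^ a * P.q ^ w - P.q ^ w - P.q ^ a * P.q * P.q ^ u * P.q ^ v
      + P.q ^ u + P.q ^ v) - 1) = 0 := by
    simp only [pow_add, pow_one] at hz
    linear_combination hz
  rcases mul_eq_zero.1 h1 with h2 | h2
  · exact hpos.ne' h2
  · have : (P.q : ℤ) ∣ 1 := ⟨_, (sub_eq_zero.1 h2).symm⟩
    have := Int.le_of_dvd one_pos this
    omega

theorem θ_mul_inj {a b c d : ℕ} (ha : 1 ≤ a) (hb : 1 ≤ b) (hc : 1 ≤ c) (hd : 1 ≤ d)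
    (h : P.θ a * P.θ b = P.θ c * P.θ d) : (a = c ∧ b = d) ∨ (a = d ∧ b = c) := by
  have main : ∀ {a b c d : ℕ}, 1 ≤ a → 1 ≤ c → a ≤ b → c ≤ d → P.θ a * P.θ b = P.θ c * P.θ d →
      a = c ∧ b = d := by
    intro a b c d ha hc hab hcd h
    rcases lt_trichotomy a c with h1 | h1 | h1
    · exact (aux P ha hab hcd h1 h).elim
    · subst h1
      exact ⟨rfl, P.θ_inj (Nat.eq_of_mul_eq_mul_left (P.θ_pos ha) h)⟩
    · exact (aux P hc hcd hab h1 h.symm).elim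
  rcases le_total a b with h1 | h1 <;> rcases le_total c d with h2 | h2
  · exact Or.inl (main ha hc h1 h2 h)
  · exact Or.inr (main ha hd h1 h2 (h.trans (mul_comm _ _)))
  · have := main hb hc h1 h2 ((mul_comm _ _).trans h); exact Or.inr ⟨this.2, this.1⟩
  · have := main hb hd h1 h2 ((mul_comm _ _).trans (h.trans (mul_comm _ _)))
    exact Or.inl ⟨this.2, this.1⟩

end CfsgLib.CK.PG
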